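import Groth.Agent.AlgSpMod.Fiber

/-!
# Sections of quasi-coherent modules over affine objects commute with base change
-/

set_option backward.isDefEq.respectTransparency false
set_option backward.isDefEq.respectTransparency.types false
set_option maxHeartbeats 1000000

universe u

open CategoryTheory CategoryTheory.Limits AlgebraicGeometry Opposite AlgSp TensorProduct
open Groth.Agent.AlgSpLib Groth.Agent.AlgSpDec

namespace Groth.Agent.AlgSpMod

variable {S : Scheme.{u}} {X : Sp S} (M : ModEt X)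

theorem flat_RA {E F : EtOver X} (g : F ⟶ E) [Aff E] [Aff F] : Module.Flat (Rg E) (RA g) := by
  have := EtOver.etale_left g
  have h1 : g.hom.left.left.appTop.hom.Flat := HasRingHomProperty.appTop (P := @Flat) _ inferInstance
  have b1 : Function.Bijective ⇑(ULift.ringEquiv.toRingHom : Rg E →+* Γ(E.obj.left.left, ⊤)) :=
    ULift.ringEquiv.bijective
  have b2 : Function.Bijective ⇑(ULift.ringEquiv.symm.toRingHom : Γ(F.obj.left.left, ⊤) →+* Rg F) :=
    ULift.ringEquiv.symm.bijective
  have h : (rs g).Flat := (RingHom.Flat.of_bijective b1).comp (h1.comp (RingHom.Flat.of_bijective b2))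
  exact h

theorem aff_pullbackObj {E E₁ E₂ : EtOver X} (q₁ : E₁ ⟶ E) (q₂ : E₂ ⟶ E) (hE : Aff E) (h₁ : Aff E₁) (h₂ : Aff E₂) :
    Aff (EtOver.pullbackObj q₁ q₂) := by
  have hsq := IsPullback.map (CategoryTheory.Over.forget S) (IsPullback.of_hasPullback q₁.hom.left q₂.hom.left)
  haveI : IsAffine ((CategoryTheory.Over.forget S).obj E₁.obj.left) := h₁
  haveI : IsAffine ((CategoryTheory.Over.forget S).obj E₂.obj.left) := h₂
  haveI : IsAffine ((CategoryTheory.Over.forget S).obj E.obj.left) := hE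
  exact IsAffine.of_isIso (hsq.isoPullback.hom)

theorem ext_of_cover' {E : EtOver X} {κ : Type u} {Ek : κ → EtOver X} (h : ∀ k, Ek k ⟶ E)
    (hc : Sieve.ofArrows Ek h ∈ etTop X E) {x y : sectModEt M E}
    (hxy : ∀ k, M.val.map (h k).op x = M.val.map (h k).op y) : x = y := by
  refine (((isSheaf_iff_isSheaf_of_type _ _).1
    ((sheafCompose (etTop X) (CategoryTheory.forget AddCommGrpCat.{u + 1})).obj ⟨_, M.isSheaf⟩).property) _
      hc).isSeparatedFor.ext fun U k hk => ?_
  obtain ⟨i, k', rfl⟩ := (Sieve.mem_ofArrows_iff _ _ _).1 hk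
  show M.val.presheaf.map _ x = M.val.presheaf.map _ y
  rw [op_comp, Functor.map_comp]
  exact congrArg (M.val.presheaf.map k'.op) (hxy i)

theorem exists_glue {E : EtOver X} {κ : Type u} {Ek : κ → EtOver X} (h : ∀ k, Ek k ⟶ E)
    (hc : Sieve.ofArrows Ek h ∈ etTop X E) (x : ∀ k, sectModEt M (Ek k))
    (hx : ∀ k l, M.val.map (EtOver.pullbackFst (h k) (h l)).op (x k) =
      M.val.map (EtOver.pullbackSnd (h k) (h l)).op (x l)) :
    ∃ y : sectModEt M E, ∀ k, M.val.map (h k).op y = x k := by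
  have hs := ((isSheaf_iff_isSheaf_of_type _ _).1
    ((sheafCompose (etTop X) (CategoryTheory.forget AddCommGrpCat.{u + 1})).obj ⟨_, M.isSheaf⟩).property) _ hc
  obtain ⟨y, hy, -⟩ := (Presieve.isSheafFor_arrows_iff _ _).1 ((Presieve.isSheafFor_iff_generate _).2 hs) x
    (fun k l Z a b hab => by
      let t : Z ⟶ EtOver.pullbackObj (h k) (h l) := (EtOver.isPullback (h k) (h l)).lift a b hab
      have e₁ : t ≫ EtOver.pullbackFst (h k) (h l) = a := (EtOver.isPullback (h k) (h l)).lift_fst _ _ _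
      have e₂ : t ≫ EtOver.pullbackSnd (h k) (h l) = b := (EtOver.isPullback (h k) (h l)).lift_snd _ _ _
      show M.val.presheaf.map a.op (x k) = M.val.presheaf.map b.op (x l)
      rw [← e₁, ← e₂, op_comp, op_comp, Functor.map_comp, Functor.map_comp]
      exact congrArg (M.val.presheaf.map t.op) (hx k l))
  exact ⟨y, hy⟩

/-- Every affine object is covered by finitely many affine objects over each of which the module is presented. -/
theorem exists_presented_cover (q : M.QuasicoherentData) (E : EtOver X) (hE : Aff E) :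
    ∃ (κ : Type u) (_ : Fintype κ) (Ek : κ → EtOver X) (h : ∀ k, Ek k ⟶ E),
      (∀ k, Aff (Ek k)) ∧ Sieve.ofArrows Ek h ∈ etTop X E ∧ ∀ k, ∃ i, Nonempty (Ek k ⟶ q.X i) := by
  haveI := hE
  obtain ⟨E', p, κ, hκ, Ek, j, -, hp, hEk, hR, hcov, -⟩ := exists_affine_cover (q.coversTop E)
  refine ⟨κ, hκ, Ek, fun k => j k ≫ p, hEk, ?_, fun k => ?_⟩
  · refine (etTop X).transitive (AlgSp.ofArrows_mem_etTop (ι := PUnit.{u + 1}) (fun _ => E') (fun _ => p)
      fun x => ⟨⟨⟩, hp.surj x⟩) _ fun Y f hf => ?_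
    obtain ⟨_, k', rfl⟩ := (Sieve.mem_ofArrows_iff _ _ _).1 hf
    rw [Sieve.pullback_comp]
    refine (etTop X).pullback_stable k' ((etTop X).superset_covering ?_ hcov)
    rw [Sieve.generate_le_iff]
    rintro _ _ ⟨k⟩
    exact Sieve.ofArrows_mk _ _ k
  · obtain ⟨i, hi⟩ := (Sieve.mem_ofObjects_iff _ _).1 (hR k)
    exact ⟨i, hi⟩

theorem resL_congr {E F F' : EtOver X} (g : F ⟶ E) (g' : F' ⟶ E) {h h' : F' ⟶ F} (e : h = h') (w : h ≫ g = g')
    (w' : h' ≫ g = g') (x : SA M g) : resL M g g' h w x = resL M g g' h' w' x := by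
  subst e; rfl

theorem resL_bc {E V W : EtOver X} (g : V ⟶ E) (h : W ⟶ V) (z : RA g ⊗[Rg E] SA M (𝟙 E)) :
    resL M g (h ≫ g) h rfl (bc M g z) = bc M (h ≫ g)
      ((((⟨(show RA g →+* RA (h ≫ g) from rs h), fun r => rs_comp g h r⟩ : RA g →ₐ[Rg E] RA (h ≫ g))).toLinearMap).rTensor _ z) := by
  induction z with
  | zero => simp
  | tmul a n =>
    rw [LinearMap.rTensor_tmul, bc_tmul, bc_tmul, resL_smul, resL_resL]
    rfl
  | add x y hx hy => simp only [map_add, hx, hy]

theorem fib_lTensor_one {E V F : EtOver X} (g : V ⟶ E) (e : F ⟶ E) (z : RA g ⊗[Rg E] SA M (𝟙 E)) :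
    fib M g e ((resL M (𝟙 E) e e (Category.comp_id e)).lTensor _ z) =
      resL M g _ (EtOver.pullbackFst g e) rfl (bc M g z) := by
  induction z with
  | zero => simp
  | tmul a n =>
    rw [LinearMap.lTensor_tmul, fib_tmul, bc_tmul, resL_smul, resL_resL, resL_resL]
    congr 1
    exact resL_congr M _ _ (EtOver.pullback_condition g e).symm _ _ n
  | add x y hx hy => simp only [map_add, hx, hy]

theorem fib_natural {E V F F' : EtOver X} (g : V ⟶ E) (e : F ⟶ E) (e' : F' ⟶ E) (h : F' ⟶ F) (w : h ≫ e = e')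
    (t : EtOver.pullbackObj g e' ⟶ EtOver.pullbackObj g e)
    (t₁ : t ≫ EtOver.pullbackFst g e = EtOver.pullbackFst g e')
    (t₂ : t ≫ EtOver.pullbackSnd g e = EtOver.pullbackSnd g e' ≫ h) (z : RA g ⊗[Rg E] SA M e) :
    fib M g e' ((resL M e e' h w).lTensor _ z) =
      resL M (EtOver.pullbackFst g e ≫ g) (EtOver.pullbackFst g e' ≫ g) t (by rw [← Category.assoc, t₁])
        (fib M g e z) := by
  induction z with
  | zero => simp
  | tmul a n =>
    rw [LinearMap.lTensor_tmul, fib_tmul, fib_tmul, resL_smul, resL_resL, resL_resL]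
    congr 1
    · exact ((rs_comp _ _ _).trans (congrArg (fun k => rs k a) t₁)).symm
    · exact resL_congr M _ _ t₂.symm _ _ n
  | add x y hx hy => simp only [map_add, hx, hy]

/-- Commutation with base change is local on the base. -/
theorem bc_bijective_of_local {E V : EtOver X} (g : V ⟶ E) (hE : Aff E) (hV : Aff V) {κ : Type u} [Fintype κ]
    {Ek : κ → EtOver X} (h : ∀ k, Ek k ⟶ E) (hEk : ∀ k, Aff (Ek k)) (hcov : Sieve.ofArrows Ek h ∈ etTop X E)
    (hloc : ∀ k {F F' : EtOver X} (g' : F' ⟶ F), Aff F → Aff F' → (F ⟶ Ek k) → Function.Bijective (bc M g')) :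
    Function.Bijective (bc M g) := by
  classical
  haveI := hE
  haveI := hV
  have := flat_RA g
  have hfib : ∀ k (F : EtOver X) (e : F ⟶ E), Aff F → (F ⟶ Ek k) → Function.Bijective (fib M g e) := by
    intro k F e hF f
    haveI := hF
    exact fib_bijective M g e (hloc k _ hF (aff_pullbackObj g e hE hV hF) f)
  have hWcov : Sieve.ofArrows (fun k => EtOver.pullbackObj g (h k)) (fun k => EtOver.pullbackFst g (h k))
      ∈ etTop X V := by
    refine (etTop X).superset_covering ?_ ((etTop X).pullback_stable g hcov)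
    intro Y f hf
    obtain ⟨k, a, ha⟩ := (Sieve.mem_ofArrows_iff _ _ _).1 hf
    refine (Sieve.mem_ofArrows_iff _ _ _).2 ⟨k, (EtOver.isPullback g (h k)).lift f a ha, ?_⟩
    exact ((EtOver.isPullback g (h k)).lift_fst _ _ _).symm
  let Φ : SA M (𝟙 E) →ₗ[Rg E] (∀ k, SA M (h k)) :=
    LinearMap.pi fun k => resL M (𝟙 E) (h k) (h k) (Category.comp_id _)
  let e₂ : ∀ p : κ × κ, EtOver.pullbackObj (h p.1) (h p.2) ⟶ E := fun p =>
    EtOver.pullbackFst (h p.1) (h p.2) ≫ h p.1
  let d₁ : ∀ p : κ × κ, SA M (h p.1) →ₗ[Rg E] SA M (e₂ p) := fun p =>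
    resL M (h p.1) (e₂ p) (EtOver.pullbackFst (h p.1) (h p.2)) rfl
  let d₂ : ∀ p : κ × κ, SA M (h p.2) →ₗ[Rg E] SA M (e₂ p) := fun p =>
    resL M (h p.2) (e₂ p) (EtOver.pullbackSnd (h p.1) (h p.2)) (EtOver.pullback_condition _ _).symm
  let Ψ : (∀ k, SA M (h k)) →ₗ[Rg E] (∀ p, SA M (e₂ p)) :=
    LinearMap.pi fun p => d₁ p ∘ₗ LinearMap.proj p.1 - d₂ p ∘ₗ LinearMap.proj p.2
  have hΦ : Function.Injective Φ := fun x y hxy => ext_of_cover' M h hcov fun k => congrFun hxy k
  have hex : Function.Exact Φ Ψ := by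
    intro x
    constructor
    · intro hx
      obtain ⟨y, hy⟩ := exists_glue M h hcov x fun k l => sub_eq_zero.1 (congrFun hx (k, l))
      exact ⟨y, funext hy⟩
    · rintro ⟨y, rfl⟩
      funext p
      show d₁ p (Φ y p.1) - d₂ p (Φ y p.2) = 0
      rw [sub_eq_zero]
      show d₁ p (resL M (𝟙 E) (h p.1) (h p.1) (Category.comp_id _) y) = d₂ p (resL M (𝟙 E) (h p.2) (h p.2) (Category.comp_id _) y)
      simp only [d₁, d₂, resL_resL]
      exact resL_congr M _ _ (EtOver.pullback_condition _ _) _ _ y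
  let π₁ := TensorProduct.piRight (Rg E) (Rg E) (RA g) (fun k => SA M (h k))
  let π₂ := TensorProduct.piRight (Rg E) (Rg E) (RA g) (fun p => SA M (e₂ p))
  have hπΦ : ∀ z k, π₁ (Φ.lTensor (RA g) z) k = (resL M (𝟙 E) (h k) (h k) (Category.comp_id _)).lTensor _ z := by
    intro z k
    induction z with
    | zero => simp
    | tmul a n => simp [π₁, Φ]
    | add x y hx hy => simp only [map_add, Pi.add_apply, hx, hy]
  have hπΨ : ∀ w p, π₂ (Ψ.lTensor (RA g) w) p = (d₁ p).lTensor _ (π₁ w p.1) - (d₂ p).lTensor _ (π₁ w p.2) := by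
    intro w p
    induction w with
    | zero => simp
    | tmul a n => simp [π₁, π₂, Ψ, tmul_sub]
    | add x y hx hy => simp only [map_add, Pi.add_apply, hx, hy]; abel
  constructor
  · rw [injective_iff_map_eq_zero]
    intro z hz
    apply Module.Flat.lTensor_preserves_injective_linearMap (M := RA g) Φ hΦ
    apply π₁.injective
    rw [map_zero, map_zero]
    funext k
    rw [hπΦ]
    apply (hfib k (Ek k) (h k) (hEk k) (𝟙 _)).1
    rw [fib_lTensor_one, hz, map_zero]
    exact (map_zero _).symm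
  · intro m
    choose w hw using fun k => (hfib k (Ek k) (h k) (hEk k) (𝟙 _)).2
      (resL M g _ (EtOver.pullbackFst g (h k)) rfl m)
    have hker : Ψ.lTensor (RA g) (π₁.symm w) = 0 := by
      apply π₂.injective
      rw [map_zero]
      funext p
      rw [hπΨ, LinearEquiv.apply_symm_apply, Pi.zero_apply, sub_eq_zero]
      apply (hfib p.1 _ (e₂ p) (aff_pullbackObj _ _ hE (hEk p.1) (hEk p.2)) (EtOver.pullbackFst _ _)).1
      let T := EtOver.pullbackObj g (e₂ p)
      let t : T ⟶ EtOver.pullbackObj g (h p.1) := (EtOver.isPullback g (h p.1)).lift (EtOver.pullbackFst g (e₂ p))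
        (EtOver.pullbackSnd g (e₂ p) ≫ EtOver.pullbackFst (h p.1) (h p.2))
        ((EtOver.pullback_condition g (e₂ p)).trans (Category.assoc _ _ _).symm)
      let t' : T ⟶ EtOver.pullbackObj g (h p.2) := (EtOver.isPullback g (h p.2)).lift (EtOver.pullbackFst g (e₂ p))
        (EtOver.pullbackSnd g (e₂ p) ≫ EtOver.pullbackSnd (h p.1) (h p.2)) (by
          rw [Category.assoc, ← EtOver.pullback_condition (h p.1) (h p.2)]
          exact EtOver.pullback_condition g (e₂ p))
      show fib M g (e₂ p) ((resL M _ _ _ _).lTensor _ (w p.1)) = fib M g (e₂ p) ((resL M _ _ _ _).lTensor _ (w p.2))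
      rw [fib_natural M g (h p.1) (e₂ p) _ rfl t ((EtOver.isPullback g (h p.1)).lift_fst _ _ _)
          ((EtOver.isPullback g (h p.1)).lift_snd _ _ _),
        fib_natural M g (h p.2) (e₂ p) _ (EtOver.pullback_condition _ _).symm t'
          ((EtOver.isPullback g (h p.2)).lift_fst _ _ _) ((EtOver.isPullback g (h p.2)).lift_snd _ _ _),
        hw, hw, resL_resL, resL_resL]
      exact resL_congr M _ _
        (((EtOver.isPullback g (h p.1)).lift_fst _ _ _).trans ((EtOver.isPullback g (h p.2)).lift_fst _ _ _).symm) _ _ m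
    obtain ⟨z, hz⟩ := (Module.Flat.lTensor_exact (RA g) hex _).1 hker
    refine ⟨z, ext_of_cover' M (fun k => EtOver.pullbackFst g (h k)) hWcov fun k => ?_⟩
    have := fib_lTensor_one M g (h k) z
    rw [← hπΦ, hz, LinearEquiv.apply_symm_apply, hw] at this
    exact this.symm

/-- Sections of a quasi-coherent module over affine objects commute with base change. -/
theorem bc_bijective [hM : M.IsQuasicoherent] {E V : EtOver X} (g : V ⟶ E) (hE : Aff E) (hV : Aff V) :
    Function.Bijective (bc M g) := by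
  obtain ⟨q⟩ := hM.nonempty_quasicoherentData
  obtain ⟨κ, _, Ek, h, hEk, hcov, hpres⟩ := exists_presented_cover M q E hE
  refine bc_bijective_of_local M g hE hV h hEk hcov fun k {F F'} g' hF hF' f => ?_
  obtain ⟨i, ⟨ψ⟩⟩ := hpres k
  exact bc_bijective_of_presentation M (q.presentation i) (f ≫ ψ) g' hF hF'

end Groth.Agent.AlgSpMod
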