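import Groth.Agent.WeakAss.Basic
import Mathlib.RingTheory.Etale.Basic
import Mathlib.RingTheory.Smooth.Flat
import Mathlib.RingTheory.Unramified.LocalStructure
import Mathlib.RingTheory.Unramified.Field
import Mathlib.RingTheory.Localization.BaseChange
import Mathlib.RingTheory.LocalRing.Module
import Mathlib.RingTheory.Artinian.Module

/-!
# Weakly associated primes along etale ring maps
-/

set_option maxHeartbeats 1000000

namespace Groth.Agent.AlgSpMod

open TensorProduct Groth.Agent

universe u

variable {A S : Type u} [CommRing A] [CommRing S] [Algebra A S] {N : Type u} [AddCommGroup N] [Module A N]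

/-- Weakly associated primes go up along flat quasi-finite maps. -/
theorem mem_minimalPrimes_tmul [Module.Flat A S] [Algebra.QuasiFinite A S] {x : N} {q : Ideal S} [q.IsPrime]
    (h : q.comap (algebraMap A S) ∈ (WeakAss.annEl A x).minimalPrimes) :
    q ∈ (WeakAss.annEl S ((1 : S) ⊗ₜ[A] x)).minimalPrimes := by
  refine ⟨⟨inferInstance, fun b hb => ?_⟩, fun Q hQ hQq => ?_⟩
  · have hb' : b • ((1 : S) ⊗ₜ[A] x) = 0 := WeakAss.mem_annEl.1 hb
    rw [TensorProduct.smul_tmul', smul_eq_mul, mul_one] at hb'
    have hex : Function.Exact (WeakAss.annEl A x).subtype (LinearMap.toSpanSingleton A N x) := fun a => by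
      constructor
      · exact fun ha => ⟨⟨a, WeakAss.mem_annEl.2 ha⟩, rfl⟩
      · rintro ⟨a', rfl⟩; exact WeakAss.mem_annEl.1 a'.2
    have h0 : (LinearMap.toSpanSingleton A N x).lTensor S (b ⊗ₜ (1 : A)) = 0 := by
      rw [LinearMap.lTensor_tmul, LinearMap.toSpanSingleton_apply, one_smul, hb']
    obtain ⟨w, hw⟩ := (Module.Flat.lTensor_exact S hex _).1 h0
    have hw' : TensorProduct.rid A S ((WeakAss.annEl A x).subtype.lTensor S w) = b := by
      rw [hw, TensorProduct.rid_tmul, one_smul]
    rw [← hw']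
    clear hw hw'
    induction w with
    | zero => simp
    | tmul s a =>
      rw [LinearMap.lTensor_tmul, TensorProduct.rid_tmul, Algebra.smul_def]
      exact q.mul_mem_right _ (h.1.2 a.2)
    | add w w' hw hw' => rw [map_add, map_add]; exact q.add_mem hw hw'
  · haveI := hQ.1
    have hle : Q.comap (algebraMap A S) ≤ q.comap (algebraMap A S) := Ideal.comap_mono hQq
    have h2 : q.comap (algebraMap A S) ≤ Q.comap (algebraMap A S) :=
      h.2 ⟨Ideal.IsPrime.comap _, fun a ha => hQ.2 (WeakAss.mem_annEl.2 (by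
        rw [algebraMap_smul, ← TensorProduct.tmul_smul, WeakAss.mem_annEl.1 ha, tmul_zero]))⟩ hle
    exact (Algebra.QuasiFinite.eq_of_le_of_under_eq (R := A) Q q hQq (le_antisymm hle h2)).ge

/-- Finitely many elements of an extended ideal lie in the extension of a finitely generated ideal. -/
theorem exists_fg_le_map {J : Ideal A} {Z : Set S} (hZ : Z.Finite) (h : Z ⊆ J.map (algebraMap A S)) :
    ∃ I : Ideal A, I.FG ∧ I ≤ J ∧ Z ⊆ I.map (algebraMap A S) := by
  classical
  induction Z, hZ using Set.Finite.induction_on with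
  | empty => exact ⟨⊥, Submodule.fg_bot, bot_le, Set.empty_subset _⟩
  | @insert z Z _ _ ih =>
    obtain ⟨I, hI, hIJ, hZI⟩ := ih ((Set.subset_insert _ _).trans h)
    have hz : z ∈ Ideal.span (algebraMap A S '' (J : Set A)) := h (Set.mem_insert _ _)
    obtain ⟨T, hT, hzT⟩ := Submodule.mem_span_finite_of_mem_span hz
    obtain ⟨T', hT', rfl⟩ := Finset.subset_set_image_iff.1 hT
    refine ⟨I ⊔ Ideal.span T', Submodule.FG.sup hI ⟨T', rfl⟩, sup_le hIJ (Ideal.span_le.2 hT'), Set.insert_subset ?_ ?_⟩
    · rw [Ideal.map_sup, Ideal.map_span]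
      rw [Finset.coe_image] at hzT
      exact Submodule.mem_sup_right hzT
    · exact fun w hw => Ideal.map_mono le_sup_left (hZI hw)

/-- The local case of descent of weakly associated primes. -/
theorem mem_weakAss_local [IsLocalRing A] [Algebra.Etale A S] {q : Ideal S} [q.IsPrime]
    (hq : q.comap (algebraMap A S) = IsLocalRing.maximalIdeal A) {y : S ⊗[A] N}
    (hy : q ∈ (WeakAss.annEl S y).minimalPrimes) :
    IsLocalRing.maximalIdeal A ∈ FlatCA.weakAss A N := by
  classical
  set m := IsLocalRing.maximalIdeal A with hmdef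
  let J : Ideal S := m.map (algebraMap A S)
  let A0 := S ⧸ J
  let : Field (A ⧸ m) := Ideal.Quotient.field m
  have : Module.Finite (A ⧸ m) A0 := Algebra.FormallyUnramified.finite_of_free _ _
  have : IsReduced A0 := (Ideal.isRadical_iff_quotient_reduced _).1
    (Algebra.FormallyUnramified.isRadical_map_isMaximal (A := A) (B := S) m)
  have : IsArtinianRing A0 := IsArtinianRing.of_finite (A ⧸ m) A0
  have hJq : J ≤ q := Ideal.map_le_iff_le_comap.2 hq.ge
  let q0 : Ideal A0 := q.map (Ideal.Quotient.mk J)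
  have : q0.IsPrime := Ideal.map_isPrime_of_surjective Ideal.Quotient.mk_surjective (by rwa [Ideal.mk_ker])
  have hq0 : q0.comap (Ideal.Quotient.mk J) = q := by
    rw [Ideal.comap_map_of_surjective _ Ideal.Quotient.mk_surjective, ← RingHom.ker_eq_comap_bot, Ideal.mk_ker,
      sup_eq_left.2 hJq]
  let i0 : MaximalSpectrum A0 := ⟨q0, (Ideal.IsPrime.isMaximal' (I := q0) inferInstance)⟩
  let e0 : A0 := (IsArtinianRing.equivPi A0).symm (Pi.single i0 1)
  have he0 : e0 * e0 = e0 := by
    rw [← map_mul, ← Pi.single_mul, mul_one]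
  obtain ⟨e, he⟩ := Ideal.Quotient.mk_surjective e0
  have he_mem : ∀ P : Ideal S, P.IsPrime → J ≤ P → P ≠ q → e ∈ P := by
    intro P hP hJP hPq
    let P0 : Ideal A0 := P.map (Ideal.Quotient.mk J)
    have : P0.IsPrime := Ideal.map_isPrime_of_surjective Ideal.Quotient.mk_surjective (by rwa [Ideal.mk_ker])
    have hP0 : P0.comap (Ideal.Quotient.mk J) = P := by
      rw [Ideal.comap_map_of_surjective _ Ideal.Quotient.mk_surjective, ← RingHom.ker_eq_comap_bot, Ideal.mk_ker,
        sup_eq_left.2 hJP]
    let i : MaximalSpectrum A0 := ⟨P0, (Ideal.IsPrime.isMaximal' (I := P0) inferInstance)⟩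
    have hne : i ≠ i0 := fun hi => hPq (by rw [← hP0, ← hq0]; exact congrArg (fun j : MaximalSpectrum A0 => j.asIdeal.comap _) hi)
    rw [← hP0, Ideal.mem_comap, he]
    refine Ideal.Quotient.eq_zero_iff_mem.1 ((IsArtinianRing.equivPi_apply A0 e0 i).symm.trans ?_)
    rw [AlgEquiv.apply_symm_apply, Pi.single_eq_of_ne hne]
  have he_not : e ∉ q := by
    rw [← hq0, Ideal.mem_comap, he]
    intro hc
    have h1 := (IsArtinianRing.equivPi_apply A0 e0 i0).trans (Ideal.Quotient.eq_zero_iff_mem.2 hc)
    rw [AlgEquiv.apply_symm_apply, Pi.single_eq_same] at h1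
    exact Ideal.one_notMem q0 (Ideal.Quotient.eq_zero_iff_mem.1 h1)
  -- a finite set spanning `S` modulo `J`
  have : Module.Finite A A0 := Module.Finite.trans (A ⧸ m) A0
  obtain ⟨V0, hV0⟩ := (Module.Finite.fg_top : (⊤ : Submodule A A0).FG)
  choose lift hlift using fun z : A0 => Ideal.Quotient.mk_surjective z
  let V : Submodule A S := Submodule.span A (lift '' (V0 : Set A0))
  have hV : ∀ s : S, ∃ v ∈ V, s - v ∈ J := by
    intro s
    have hs : Ideal.Quotient.mkₐ A J s ∈ Submodule.span A (V0 : Set A0) := hV0.symm ▸ Submodule.mem_top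
    have : Ideal.Quotient.mkₐ A J s ∈ V.map (Ideal.Quotient.mkₐ A J).toLinearMap := by
      rw [Submodule.map_span]
      refine Submodule.span_mono ?_ hs
      exact fun z hz => ⟨lift z, Set.mem_image_of_mem _ hz, hlift z⟩
    obtain ⟨v, hv, hv'⟩ := this
    exact ⟨v, hv, Ideal.Quotient.eq.1 hv'.symm⟩
  choose dec hdec hdecJ using hV
  obtain ⟨X, hX⟩ := (inferInstance : Algebra.FiniteType A S).out
  let Z : Set S := {e * e - e} ∪ {1 - dec 1} ∪
    (fun p : S × A0 => p.1 * lift p.2 - dec (p.1 * lift p.2)) '' ((X : Set S) ×ˢ (V0 : Set A0))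
  have hZfin : Z.Finite := (((Set.finite_singleton _).union (Set.finite_singleton _))).union
    (((X.finite_toSet).prod V0.finite_toSet).image _)
  have hZJ : Z ⊆ J := by
    rintro z ((rfl | rfl) | ⟨p, -, rfl⟩)
    · exact Ideal.Quotient.eq.1 (by rw [map_mul, he, he0])
    · exact hdecJ _
    · exact hdecJ _
  obtain ⟨I, hIfg, hIm, hZI⟩ := exists_fg_le_map hZfin hZJ
  let IS : Ideal S := I.map (algebraMap A S)
  have hISJ : IS ≤ J := Ideal.map_mono hIm
  let W : Submodule A S := V ⊔ IS.restrictScalars A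
  have hW : ∀ s : S, s ∈ W := by
    have hone : (1 : S) ∈ W := by
      rw [← add_sub_cancel (dec 1) 1]
      exact add_mem (Submodule.mem_sup_left (hdec 1)) (Submodule.mem_sup_right (hZI (Or.inl (Or.inr rfl))))
    have hmul : ∀ s ∈ Algebra.adjoin A (X : Set S), ∀ w ∈ W, s * w ∈ W := by
      intro s hs
      induction hs using Algebra.adjoin_induction with
      | mem x hx =>
        intro w hw
        obtain ⟨v, hv, i, hi, rfl⟩ := Submodule.mem_sup.1 hw
        rw [mul_add]
        refine add_mem ?_ (Submodule.mem_sup_right (IS.mul_mem_left x hi))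
        clear hw
        induction hv using Submodule.span_induction with
        | mem v hv =>
          obtain ⟨z, hz, rfl⟩ := hv
          rw [← add_sub_cancel (dec (x * lift z)) (x * lift z)]
          exact add_mem (Submodule.mem_sup_left (hdec _))
            (Submodule.mem_sup_right (hZI (Or.inr ⟨(x, z), ⟨hx, hz⟩, rfl⟩)))
        | zero => rw [mul_zero]; exact zero_mem _
        | add a b _ _ ha hb => rw [mul_add]; exact add_mem ha hb
        | smul r a _ ha => rw [mul_smul_comm]; exact W.smul_mem r ha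
      | algebraMap r => intro w hw; rw [← Algebra.smul_def]; exact W.smul_mem r hw
      | add a b _ _ ha hb => intro w hw; rw [add_mul]; exact add_mem (ha w hw) (hb w hw)
      | mul a b _ _ ha hb => intro w hw; rw [mul_assoc]; exact ha _ (hb w hw)
    intro s
    simpa using hmul s (hX ▸ Algebra.mem_top) 1 hone
  -- `S / IS` is finite free over `A / I`
  let R' := A ⧸ I
  have : Nontrivial R' := Ideal.Quotient.nontrivial_iff.2 fun h =>
    (IsLocalRing.maximalIdeal.isMaximal A).ne_top (top_le_iff.1 (h ▸ hIm))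
  have : IsLocalRing R' := IsLocalRing.of_surjective' (Ideal.Quotient.mk I) Ideal.Quotient.mk_surjective
  let S' := S ⧸ IS
  have hfinA : Module.Finite A S' := by
    refine ⟨⟨V0.image (fun z => Ideal.Quotient.mk IS (lift z)), ?_⟩⟩
    rw [Finset.coe_image, eq_top_iff]
    intro z _
    obtain ⟨s, rfl⟩ := Ideal.Quotient.mk_surjective z
    obtain ⟨v, hv, i, hi, rfl⟩ := Submodule.mem_sup.1 (hW s)
    rw [map_add, Ideal.Quotient.eq_zero_iff_mem.2 hi, add_zero]
    have : (Ideal.Quotient.mkₐ A IS).toLinearMap v ∈ V.map (Ideal.Quotient.mkₐ A IS).toLinearMap :=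
      Submodule.mem_map_of_mem hv
    rw [Submodule.map_span, Set.image_image] at this
    exact this
  have hfin : Module.Finite R' S' := Module.Finite.of_restrictScalars_finite A R' S'
  have hflat : Module.Flat R' S' := Module.Flat.of_linearEquiv
    (Algebra.TensorProduct.quotIdealMapEquivQuotTensor S I).toLinearEquiv
  have : Module.Free R' S' := Module.free_of_flat_of_isLocalRing
  let b := Module.Free.chooseBasis R' S'
  choose v hv using fun l => Ideal.Quotient.mk_surjective (b l)
  -- an element killed by `I` with the same minimal prime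
  have key : ∀ T : Finset A, (T : Set A) ⊆ m → ∃ y' : S ⊗[A] N,
      q ∈ (WeakAss.annEl S y').minimalPrimes ∧ ∀ g ∈ T, algebraMap A S g • y' = 0 := by
    intro T
    induction T using Finset.induction with
    | empty => exact fun _ => ⟨y, hy, by simp⟩
    | @insert g T _ ih =>
      intro hT
      rw [Finset.coe_insert, Set.insert_subset_iff] at hT
      obtain ⟨y', hy', hy'T⟩ := ih hT.2
      have hg : algebraMap A S g ∈ q := hJq (Ideal.mem_map_of_mem _ hT.1)
      have hex : ∃ n, ∃ s ∉ q, s * algebraMap A S g ^ n ∈ WeakAss.annEl S y' := by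
        obtain ⟨s, hs, n, hn⟩ := WeakAss.exists_mul_pow_mem hy' hg
        exact ⟨n, s, hs, hn⟩
      obtain ⟨s, hs, hsn⟩ := Nat.find_spec hex
      obtain ⟨k, hk⟩ : ∃ k, Nat.find hex = k + 1 := by
        refine ⟨Nat.find hex - 1, (Nat.sub_add_cancel (Nat.one_le_iff_ne_zero.2 fun h0 => ?_)).symm⟩
        rw [h0] at hsn
        exact hs (hy'.1.2 (by simpa using hsn))
      have hle : WeakAss.annEl S y' ≤ WeakAss.annEl S ((s * algebraMap A S g ^ k) • y') := fun r hr =>
        WeakAss.mem_annEl.2 (by rw [smul_comm, WeakAss.mem_annEl.1 hr, smul_zero])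
      have hq' : WeakAss.annEl S ((s * algebraMap A S g ^ k) • y') ≤ q := fun r hr => by
        by_contra hrq
        refine Nat.find_min hex (by omega : k < Nat.find hex)
          ⟨r * s, fun h => (‹q.IsPrime›.mem_or_mem h).elim hrq hs, WeakAss.mem_annEl.2 ?_⟩
        rw [mul_assoc, mul_smul]
        exact WeakAss.mem_annEl.1 hr
      refine ⟨(s * algebraMap A S g ^ k) • y', ⟨⟨inferInstance, hq'⟩, fun Q hQ hQq =>
        hy'.2 ⟨hQ.1, hle.trans hQ.2⟩ hQq⟩, fun g' hg' => ?_⟩
      rcases Finset.mem_insert.1 hg' with rfl | hg'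
      · rw [smul_smul, mul_comm, mul_assoc, ← pow_succ, ← hk]
        exact WeakAss.mem_annEl.1 hsn
      · rw [smul_comm, hy'T g' hg', smul_zero]
  obtain ⟨G, hG⟩ := hIfg
  obtain ⟨y', hy', hy'G⟩ := key G fun g hg => hIm (hG ▸ Submodule.subset_span hg)
  have hkill : ∀ i ∈ IS, i • y' = 0 := by
    intro i hi
    refine WeakAss.mem_annEl.1 ((Ideal.map_le_iff_le_comap (K := WeakAss.annEl S y')).2 ?_ hi)
    rw [← hG, Ideal.span_le]
    exact fun g hg => WeakAss.mem_annEl.2 (hy'G g hg)
  let z := e • y'
  have hz : z ≠ 0 := fun h => he_not (hy'.1.2 (WeakAss.mem_annEl.2 h))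
  have hpow : ∀ a ∈ m, ∃ k : ℕ, algebraMap A S a ^ k • z = 0 := by
    intro a ha
    obtain ⟨s, hs, k, hk⟩ := WeakAss.exists_mul_pow_mem hy' (hJq (Ideal.mem_map_of_mem _ ha))
    refine ⟨k, ?_⟩
    have htop : Ideal.span {s, 1 - e} ⊔ IS = ⊤ := by
      by_contra hne
      obtain ⟨Q, hQ, hle⟩ := Ideal.exists_le_maximal _ hne
      have hISQ : IS ≤ Q := le_sup_right.trans hle
      have hmQ : m ≤ Q.comap (algebraMap A S) := by
        let Q' : Ideal S' := Q.map (Ideal.Quotient.mk IS)
        have hQ' : Q'.IsMaximal := Ideal.IsMaximal.map_of_surjective_of_ker_le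
          Ideal.Quotient.mk_surjective (by rwa [Ideal.mk_ker])
        have := Ideal.isMaximal_comap_of_isIntegral_of_isMaximal (R := A) Q'
        have h1 : Q'.comap (Ideal.Quotient.mk IS) = Q := by
          rw [Ideal.comap_map_of_surjective _ Ideal.Quotient.mk_surjective, ← RingHom.ker_eq_comap_bot,
            Ideal.mk_ker, sup_eq_left.2 hISQ]
        have h2 : Q.comap (algebraMap A S) = Q'.comap (algebraMap A S') := by
          rw [← h1, Ideal.comap_comap]; rfl
        rw [h2, IsLocalRing.eq_maximalIdeal this]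
      have hJQ : J ≤ Q := Ideal.map_le_iff_le_comap.2 hmQ
      have hsQ : s ∈ Q := hle (Submodule.mem_sup_left (Ideal.subset_span (Set.mem_insert _ _)))
      have heQ : 1 - e ∈ Q :=
        hle (Submodule.mem_sup_left (Ideal.subset_span (Set.mem_insert_of_mem _ rfl)))
      rcases eq_or_ne Q q with rfl | hQq
      · exact hs hsQ
      · refine hQ.ne_top ((Ideal.eq_top_iff_one _).2 ?_)
        simpa using Q.add_mem heQ (he_mem Q hQ.isPrime hJQ hQq)
    have hle : Ideal.span {s, 1 - e} ⊔ IS ≤ WeakAss.annEl S (algebraMap A S a ^ k • z) := by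
      refine sup_le (Ideal.span_le.2 ?_) fun i hi => WeakAss.mem_annEl.2 ?_
      · rintro r (rfl | rfl)
        · refine WeakAss.mem_annEl.2 ?_
          simp only [z, smul_smul]
          rw [show r * (algebraMap A S a ^ k * e) = e * (r * algebraMap A S a ^ k) by ring, mul_smul,
            WeakAss.mem_annEl.1 hk, smul_zero]
        · refine WeakAss.mem_annEl.2 ?_
          simp only [z, smul_smul]
          rw [show (1 - e) * (algebraMap A S a ^ k * e) = -algebraMap A S a ^ k * (e * e - e) by ring, mul_smul,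
            hkill _ (hZI (Or.inl (Or.inl rfl))), smul_zero]
      · simp only [z, smul_smul]
        exact hkill _ (IS.mul_mem_right _ hi)
    rw [htop] at hle
    simpa using WeakAss.mem_annEl.1 (hle (Submodule.mem_top (x := 1)))
  -- `z` comes from `S ⊗ N[I]`
  let N0 := Submodule.torsionBySet A N (I : Set A)
  let δ : N →ₗ[A] (G → N) := LinearMap.pi fun g => LinearMap.lsmul A N (g : A)
  have hex : Function.Exact N0.subtype δ := by
    intro n
    constructor
    · intro hn
      refine ⟨⟨n, (Submodule.mem_torsionBySet_iff _ _).2 fun a => ?_⟩, rfl⟩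
      have ha : (a : A) ∈ Ideal.span (G : Set A) := by rw [hG]; exact a.2
      have hle : Ideal.span (G : Set A) ≤ WeakAss.annEl A n :=
        Ideal.span_le.2 fun g hg => WeakAss.mem_annEl.2 (congrFun hn ⟨g, hg⟩)
      exact WeakAss.mem_annEl.1 (hle ha)
    · rintro ⟨n, rfl⟩
      funext g
      exact (Submodule.mem_torsionBySet_iff _ _).1 n.2 ⟨g, hG ▸ Submodule.subset_span g.2⟩
  have hδz : δ.lTensor S z = 0 := by
    apply (TensorProduct.piRight A A S (fun _ : G => N)).injective
    rw [map_zero]
    funext g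
    have : ∀ w : S ⊗[A] N, TensorProduct.piRight A A S (fun _ : G => N) (δ.lTensor S w) g =
        algebraMap A S (g : A) • w := by
      intro w
      induction w with
      | zero => simp
      | tmul s n => simp [δ, TensorProduct.smul_tmul', Algebra.smul_def]
      | add a b ha hb => simp only [map_add, Pi.add_apply, ha, hb, smul_add]
    rw [this]
    simp only [z, smul_smul]
    exact hkill _ (IS.mul_mem_right _ (Ideal.mem_map_of_mem _ (hG ▸ Submodule.subset_span g.2)))
  obtain ⟨w, hw⟩ := (Module.Flat.lTensor_exact S hex _).1 hδz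
  -- coordinates
  let : Module R' N0 := inferInstance
  let φ : ∀ l, S ⊗[A] N0 →ₗ[A] N0 := fun l => TensorProduct.lift
    { toFun := fun s =>
        { toFun := fun n => b.repr (Ideal.Quotient.mk IS s) l • n
          map_add' := fun n n' => smul_add _ n n'
          map_smul' := fun r n => smul_comm _ r n }
      map_add' := fun s s' => LinearMap.ext fun n => by
        show b.repr (Ideal.Quotient.mk IS (s + s')) l • n = _
        rw [map_add, map_add, Finsupp.add_apply, add_smul]; rfl
      map_smul' := fun r s => LinearMap.ext fun n => by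
        show b.repr (Ideal.Quotient.mk IS (r • s)) l • n = r • (b.repr (Ideal.Quotient.mk IS s) l • n)
        rw [show Ideal.Quotient.mk IS (r • s) = (algebraMap A R' r) • Ideal.Quotient.mk IS s from
          (algebraMap_smul R' r (Ideal.Quotient.mk IS s)).symm, map_smul, Finsupp.smul_apply, smul_assoc,
          algebraMap_smul] }
  have hφ : w = ∑ l, v l ⊗ₜ φ l w := by
    clear hw
    induction w with
    | zero => simp
    | tmul s n =>
      choose r hr using fun l => Ideal.Quotient.mk_surjective (b.repr (Ideal.Quotient.mk IS s) l)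
      have h1 : ∀ l, φ l (s ⊗ₜ n) = r l • n := fun l => by
        show b.repr (Ideal.Quotient.mk IS s) l • n = _
        rw [← hr l]; rfl
      simp only [h1, TensorProduct.tmul_smul, TensorProduct.smul_tmul', ← TensorProduct.sum_tmul]
      have h2 : s - ∑ l, r l • v l ∈ IS := by
        refine Ideal.Quotient.eq.1 ?_
        rw [map_sum]
        conv_lhs => rw [← b.sum_repr (Ideal.Quotient.mk IS s)]
        refine Finset.sum_congr rfl fun l _ => ?_
        rw [← hr l, ← hv l]
        exact algebraMap_smul R' (r l) (Ideal.Quotient.mk IS (v l))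
      have h3 : ∀ i ∈ IS, i ⊗ₜ[A] n = 0 := by
        intro i hi
        induction hi using Submodule.span_induction with
        | mem i hi =>
          obtain ⟨a, ha, rfl⟩ := hi
          rw [Algebra.algebraMap_eq_smul_one, TensorProduct.smul_tmul,
            show a • n = 0 from Subtype.ext ((Submodule.mem_torsionBySet_iff _ _).1 n.2 ⟨a, ha⟩), tmul_zero]
        | zero => exact zero_tmul _ _
        | add a b _ _ ha hb => rw [add_tmul, ha, hb, add_zero]
        | smul c a _ ha => rw [← TensorProduct.smul_tmul', ha, smul_zero]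
      rw [← sub_eq_zero, ← sub_tmul]
      exact h3 _ h2
    | add a b ha hb =>
      conv_lhs => rw [ha, hb]
      simp only [map_add, tmul_add, Finset.sum_add_distrib]
  obtain ⟨l, hl⟩ : ∃ l, φ l w ≠ 0 := by
    by_contra hall
    push Not at hall
    refine hz ?_
    rw [← hw, hφ]
    simp [hall]
  refine WeakAss.mem_weakAss_iff.2 ⟨((φ l w : N0) : N), ⟨inferInstance, IsLocalRing.le_maximalIdeal fun h => ?_⟩,
    fun Q hQ _ a ha => ?_⟩
  · exact hl (Subtype.ext (by simpa using WeakAss.mem_annEl.1 ((Ideal.eq_top_iff_one _).1 h)))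
  · obtain ⟨k, hk⟩ := hpow a ha
    have h0 : a ^ k • w = 0 := by
      apply Module.Flat.lTensor_preserves_injective_linearMap (M := S) N0.subtype Subtype.val_injective
      rw [map_smul, hw, map_zero, ← algebraMap_smul S (a ^ k) z, map_pow, hk]
    refine hQ.1.mem_of_pow_mem k (hQ.2 (WeakAss.mem_annEl.2 ?_))
    have : φ l (a ^ k • w) = 0 := by rw [h0, map_zero]
    rw [map_smul] at this
    exact congrArg Subtype.val this

/-- Weakly associated primes go down along etale maps. -/
theorem comap_mem_weakAss [Algebra.Etale A S] {q : Ideal S} [q.IsPrime] {y : S ⊗[A] N}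
    (hy : q ∈ (WeakAss.annEl S y).minimalPrimes) :
    q.comap (algebraMap A S) ∈ FlatCA.weakAss A N := by
  set p := q.comap (algebraMap A S)
  let R := Localization.AtPrime p
  let S₁ := R ⊗[A] S
  let : Algebra S S₁ := Algebra.TensorProduct.rightAlgebra
  have hloc : IsLocalization (Algebra.algebraMapSubmonoid S p.primeCompl) S₁ :=
    IsLocalization.tensorRight R p.primeCompl
  have hd : Disjoint (Algebra.algebraMapSubmonoid S p.primeCompl : Set S) (q : Set S) := by
    rw [Set.disjoint_left]
    rintro _ ⟨c, hc, rfl⟩ hcq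
    exact hc hcq
  let q₁ : Ideal S₁ := q.map (algebraMap S S₁)
  have hq₁ : q₁.IsPrime := IsLocalization.isPrime_of_isPrime_disjoint _ S₁ q inferInstance hd
  have hcomap : q₁.comap (algebraMap S S₁) = q := IsLocalization.comap_map_of_isPrime_disjoint _ S₁ inferInstance hd
  let ι : N →ₗ[A] R ⊗[A] N := TensorProduct.mk A R N 1
  let e : R ⊗[A] (S ⊗[A] N) ≃ₗ[R] S₁ ⊗[R] (R ⊗[A] N) := AlgebraTensorModule.distribBaseChange A R S N
  let j : S ⊗[A] N →ₗ[A] S₁ ⊗[R] (R ⊗[A] N) :=
    (e.toLinearMap.restrictScalars A).comp (TensorProduct.mk A R (S ⊗[A] N) 1)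
  have hsmul : ∀ (s : S) w, j (s • w) = algebraMap S S₁ s • j w := by
    intro s w
    induction w with
    | zero => simp
    | tmul t n =>
      show ((1 : R) ⊗ₜ[A] (s * t)) ⊗ₜ[R] ((1 : R) ⊗ₜ[A] n) =
        algebraMap S S₁ s • (((1 : R) ⊗ₜ[A] t) ⊗ₜ[R] ((1 : R) ⊗ₜ[A] n))
      rw [TensorProduct.smul_tmul', smul_eq_mul, RingHom.algebraMap_toAlgebra]
      show _ = (((1 : R) ⊗ₜ[A] s) * ((1 : R) ⊗ₜ[A] t)) ⊗ₜ[R] _
      rw [Algebra.TensorProduct.tmul_mul_tmul, one_mul]
    | add a b ha hb => simp only [smul_add, map_add, ha, hb]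
  have hq₁c : q₁.comap (algebraMap R S₁) = IsLocalRing.maximalIdeal R := by
    have h1 : (q₁.comap (algebraMap R S₁)).comap (algebraMap A R) = p := by
      rw [Ideal.comap_comap]
      have : (algebraMap R S₁).comp (algebraMap A R) = (algebraMap S S₁).comp (algebraMap A S) := by
        ext a
        show algebraMap A R a ⊗ₜ[A] (1 : S) = (1 : R) ⊗ₜ[A] algebraMap A S a
        rw [Algebra.algebraMap_eq_smul_one, TensorProduct.smul_tmul, ← Algebra.algebraMap_eq_smul_one]
      rw [this, ← Ideal.comap_comap, hcomap]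
    rw [← IsLocalization.map_comap p.primeCompl R (q₁.comap (algebraMap R S₁))]
    show Ideal.map (algebraMap A R) ((q₁.comap (algebraMap R S₁)).comap (algebraMap A R)) = _
    rw [h1]
    exact IsLocalization.AtPrime.map_eq_maximalIdeal p R
  have hy₁ : q₁ ∈ (WeakAss.annEl S₁ (j y)).minimalPrimes := by
    refine ⟨⟨hq₁, fun s₁ hs₁ => ?_⟩, fun Q hQ hQq => ?_⟩
    · obtain ⟨s, c, rfl⟩ := IsLocalization.exists_mk'_eq (Algebra.algebraMapSubmonoid S p.primeCompl) s₁
      rw [IsLocalization.mk'_mem_iff]
      have h0 : j (s • y) = 0 := by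
        rw [hsmul, ← IsLocalization.mk'_spec' (M := Algebra.algebraMapSubmonoid S p.primeCompl) S₁ s c]
        exact (mul_smul _ _ _).trans ((congrArg _ (WeakAss.mem_annEl.1 hs₁)).trans (smul_zero _))
      have h1 : TensorProduct.mk A R (S ⊗[A] N) 1 (s • y) = 0 := e.injective (h0.trans (map_zero e).symm)
      obtain ⟨d, hd'⟩ := (IsLocalizedModule.eq_zero_iff p.primeCompl _).1 h1
      refine Ideal.mem_map_of_mem _ ((‹q.IsPrime›.mem_or_mem (x := algebraMap A S d) (hy.1.2
        (WeakAss.mem_annEl.2 ?_))).resolve_left d.2)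
      rw [mul_smul, algebraMap_smul]
      exact hd'
    · haveI := hQ.1
      have h2 : q ≤ Q.comap (algebraMap S S₁) := by
        refine hy.2 ⟨Ideal.IsPrime.comap _, fun s hs => hQ.2 (WeakAss.mem_annEl.2 ?_)⟩ ?_
        · rw [← hsmul, WeakAss.mem_annEl.1 hs, map_zero]
        · exact (Ideal.comap_mono hQq).trans hcomap.le
      exact Ideal.map_le_iff_le_comap.2 h2
  have h := mem_weakAss_local (A := R) (S := S₁) hq₁c hy₁
  refine (WeakAss.mem_weakAss_iff_map p.primeCompl (R' := R) ι
    (Set.disjoint_left.2 fun _ h h' => h h')).2 ?_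
  rwa [IsLocalization.AtPrime.map_eq_maximalIdeal p R]

end Groth.Agent.AlgSpMod
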