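import Groth.Agent.AlgSpMod.Good
import Groth.Agent.AlgSpMod.WeakAssEtale
import Groth.Agent.AlgSpDec.WeakAssEmpty
import Groth.Agent.AlgSpLib.Points

/-!
# Weakly associated points on charts do not depend on the chart
-/

set_option backward.isDefEq.respectTransparency false
set_option backward.isDefEq.respectTransparency.types false
set_option maxHeartbeats 1000000

universe u

open CategoryTheory CategoryTheory.Limits AlgebraicGeometry Opposite AlgSp TensorProduct
open Groth.Agent Groth.Agent.AlgSpLib Groth.Agent.AlgSpDec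

namespace Groth.Agent.AlgSpMod

variable {S : Scheme.{u}} {X : Sp S} (M : ModEt X)

/-- The prime of a point in the lifted ring of functions. -/
noncomputable def pR (E : EtOver X) (u : ↥E.obj.left.left) : Ideal (Rg E) :=
  (primeAtPt E.obj.left.left u).comap (ULift.ringEquiv.toRingHom : Rg E →+* Γ(E.obj.left.left, ⊤))

instance (E : EtOver X) (u : ↥E.obj.left.left) : (pR E u).IsPrime := Ideal.IsPrime.comap _

theorem comap_appTop_primeAtPt {U V : Scheme.{u}} (f : U ⟶ V) (w : U) :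
    (primeAtPt U w).comap f.appTop.hom = primeAtPt V (f w) := by
  rw [WeakAssEmpty.primeAtPt_eq, WeakAssEmpty.primeAtPt_eq]
  have h := congrArg (fun k : U ⟶ Spec Γ(V, ⊤) => (k w : PrimeSpectrum Γ(V, ⊤))) (Scheme.toSpecΓ_naturality f)
  exact (congrArg PrimeSpectrum.asIdeal h).symm

theorem comap_rs_pR {E F : EtOver X} (g : F ⟶ E) (w : ↥F.obj.left.left) :
    (pR F w).comap (rs g) = pR E (g.hom.left.left w) := by
  rw [pR, pR, Ideal.comap_comap, ← comap_appTop_primeAtPt g.hom.left.left w, Ideal.comap_comap]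
  exact congrArg (fun f : Rg E →+* Γ(F.obj.left.left, ⊤) => (primeAtPt F.obj.left.left w).comap f)
    (RingHom.ext fun a => rfl)

theorem minimalPrimes_comap_bijective {A B : Type*} [CommRing A] [CommRing B] (f : A →+* B) (hf : Function.Bijective f)
    {I p : Ideal B} : p.comap f ∈ (I.comap f).minimalPrimes ↔ p ∈ I.minimalPrimes := by
  rw [Ideal.comap_minimalPrimes_eq_of_surjective hf.2]
  refine ⟨?_, fun h => ⟨p, h, rfl⟩⟩
  rintro ⟨q, hq, hqp⟩
  exact Ideal.comap_injective_of_surjective f hf.2 hqp ▸ hq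


theorem smul_SA_id {E : EtOver X} (r : Rg E) (x : SA M (𝟙 E)) :
    r • x = HSMul.hSMul (α := RA (𝟙 E)) r x := by
  rw [smul_SA]

theorem isWeakAssOn_iff (E : EtOver X) [IsAffine E.obj.left.left] (u : ↥E.obj.left.left) :
    IsWeakAssOn M E u ↔ ∃ s : SA M (𝟙 E), pR E u ∈ (WeakAss.annEl (Rg E) s).minimalPrimes := by
  refine exists_congr fun s => ?_
  let d : Rg E →+* Γ(E.obj.left.left, ⊤) := (ULift.ringEquiv (R := Γ(E.obj.left.left, ⊤))).toRingHom
  have hd : Function.Bijective d := ULift.ringEquiv.bijective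
  have h : (annSect s).comap d = WeakAss.annEl (Rg E) (show SA M (𝟙 E) from s) := by
    ext r
    rw [Ideal.mem_comap, mem_annSect_iff, WeakAss.mem_annEl, smul_SA_id]
    exact Iff.rfl
  rw [← h]
  exact (minimalPrimes_comap_bijective d hd).symm

theorem etale_RA {E F : EtOver X} (g : F ⟶ E) [Aff E] [Aff F] : Algebra.Etale (Rg E) (RA g) := by
  have := EtOver.etale_left g
  have h1 : g.hom.left.left.appTop.hom.Etale := HasRingHomProperty.appTop (P := @Etale) _ inferInstance
  let fE : Rg E →+* Γ(E.obj.left.left, ⊤) := (ULift.ringEquiv (R := Γ(E.obj.left.left, ⊤))).toRingHom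
  let fF : Γ(F.obj.left.left, ⊤) →+* Rg F := (ULift.ringEquiv (R := Γ(F.obj.left.left, ⊤))).symm.toRingHom
  have bE : Function.Bijective fE := (ULift.ringEquiv (R := Γ(E.obj.left.left, ⊤))).bijective
  have bF : Function.Bijective fF := (ULift.ringEquiv (R := Γ(F.obj.left.left, ⊤))).symm.bijective
  let _ : Algebra (Rg E) Γ(E.obj.left.left, ⊤) := fE.toAlgebra
  let _ : Algebra Γ(E.obj.left.left, ⊤) Γ(F.obj.left.left, ⊤) := g.hom.left.left.appTop.hom.toAlgebra
  let _ : Algebra (Rg E) Γ(F.obj.left.left, ⊤) := (g.hom.left.left.appTop.hom.comp fE).toAlgebra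
  let _ : Algebra Γ(F.obj.left.left, ⊤) (RA g) := (show Γ(F.obj.left.left, ⊤) →+* RA g from fF).toAlgebra
  have : IsScalarTower (Rg E) Γ(E.obj.left.left, ⊤) Γ(F.obj.left.left, ⊤) :=
    IsScalarTower.of_algebraMap_eq fun _ => rfl
  have : IsScalarTower (Rg E) Γ(F.obj.left.left, ⊤) (RA g) := IsScalarTower.of_algebraMap_eq fun _ => rfl
  have i1 : Algebra.Etale (Rg E) Γ(E.obj.left.left, ⊤) := RingHom.Etale.of_bijective bE
  have i2 : Algebra.Etale Γ(E.obj.left.left, ⊤) Γ(F.obj.left.left, ⊤) := h1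
  have i3 : Algebra.Etale Γ(F.obj.left.left, ⊤) (RA g) :=
    RingHom.Etale.of_bijective (f := (show Γ(F.obj.left.left, ⊤) →+* RA g from fF)) bF
  have i4 : Algebra.Etale (Rg E) Γ(F.obj.left.left, ⊤) := Algebra.Etale.comp _ Γ(E.obj.left.left, ⊤) _
  exact Algebra.Etale.comp _ Γ(F.obj.left.left, ⊤) _

theorem bc_smul {E F : EtOver X} (g : F ⟶ E) (a : RA g) (z : RA g ⊗[Rg E] SA M (𝟙 E)) :
    bc M g (a • z) = a • bc M g z := by
  induction z with
  | zero => simp
  | tmul b x => rw [TensorProduct.smul_tmul', bc_tmul, bc_tmul, smul_eq_mul, mul_smul]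
  | add x y hx hy => simp only [smul_add, map_add, hx, hy]

theorem annEl_bc [M.IsQuasicoherent] {E F : EtOver X} (g : F ⟶ E) (hE : Aff E) (hF : Aff F)
    (z : RA g ⊗[Rg E] SA M (𝟙 E)) :
    WeakAss.annEl (RA g) z = WeakAss.annEl (Rg F) (show SA M (𝟙 F) from bc M g z) := by
  refine Ideal.ext fun a => ?_
  show a ∈ WeakAss.annEl (RA g) z ↔ (show Rg F from a) ∈ WeakAss.annEl (Rg F) (show SA M (𝟙 F) from bc M g z)
  rw [WeakAss.mem_annEl, WeakAss.mem_annEl, smul_SA_id]
  constructor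
  · intro h
    exact (bc_smul M g a z).symm.trans ((congrArg (bc M g) h).trans (map_zero _))
  · intro h
    exact (bc_bijective M g hE hF).1 ((bc_smul M g a z).trans (h.trans (map_zero (bc M g)).symm))

theorem isWeakAssOn_transfer [M.IsQuasicoherent] {E F : EtOver X} (g : F ⟶ E) [IsAffine E.obj.left.left]
    [IsAffine F.obj.left.left] (w : ↥F.obj.left.left) :
    IsWeakAssOn M E (g.hom.left.left w) ↔ IsWeakAssOn M F w := by
  rw [isWeakAssOn_iff, isWeakAssOn_iff]
  have : Algebra.Etale (Rg E) (RA g) := etale_RA g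
  let q : Ideal (RA g) := pR F w
  have : q.IsPrime := (inferInstance : (pR F w).IsPrime)
  have hq : q.comap (algebraMap (Rg E) (RA g)) = pR E (g.hom.left.left w) := comap_rs_pR g w
  constructor
  · rintro ⟨s, hs⟩
    rw [← hq] at hs
    refine ⟨bc M g ((1 : RA g) ⊗ₜ s), ?_⟩
    rw [← annEl_bc M g inferInstance inferInstance]
    exact mem_minimalPrimes_tmul (S := RA g) (q := q) hs
  · rintro ⟨s, hs⟩
    obtain ⟨z, hz⟩ := (bc_bijective M g inferInstance inferInstance).2 (show SA M g from s)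
    have h : q ∈ (WeakAss.annEl (RA g) z).minimalPrimes := by
      rw [annEl_bc M g inferInstance inferInstance, hz]
      exact hs
    exact WeakAss.mem_weakAss_iff.1 (hq ▸ comap_mem_weakAss h)

theorem exists_common_affine {E₁ E₂ : EtOver X} (u₁ : ↥E₁.obj.left.left) (u₂ : ↥E₂.obj.left.left)
    (h : Points.ofPt E₁.obj.hom u₁ = Points.ofPt E₂.obj.hom u₂) :
    ∃ (F : EtOver X) (g₁ : F ⟶ E₁) (g₂ : F ⟶ E₂) (w : ↥F.obj.left.left),
      IsAffine F.obj.left.left ∧ g₁.hom.left.left w = u₁ ∧ g₂.hom.left.left w = u₂ := by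
  obtain ⟨w, hw₂, hw₁⟩ := exists_ofPt_of_eq (E₂.property.1.isPullback' E₁.obj.hom) h.symm
  let P := EtOver.prodObj E₁ E₂
  obtain ⟨O, hO, hwO, -⟩ := exists_isAffineOpen_mem_and_subset (U := (⊤ : P.obj.left.left.Opens)) (x := w) trivial
  obtain ⟨w', hw'⟩ := (range_etOpenι P O).ge hwO
  refine ⟨etOpen P O, etOpenι P O ≫ EtOver.prodFst E₁ E₂, etOpenι P O ≫ EtOver.prodSnd E₁ E₂, w', hO, ?_, ?_⟩
  · show (EtOver.prodFst E₁ E₂).hom.left.left ((etOpenι P O).hom.left.left w') = u₁
    rw [hw']; exact hw₁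
  · show (EtOver.prodSnd E₁ E₂).hom.left.left ((etOpenι P O).hom.left.left w') = u₂
    rw [hw']; exact hw₂

theorem ofPt_hom {E F : EtOver X} (g : F ⟶ E) (w : ↥F.obj.left.left) :
    Points.ofPt E.obj.hom (g.hom.left.left w) = Points.ofPt F.obj.hom w := by
  rw [← EtOver.w g]
  exact (ofPt_comp g.hom.left E.obj.hom w).symm

/-- A point weakly associated on one affine chart is so on every affine chart. -/
theorem isWeakAssOn_of_mem [M.IsQuasicoherent] {x : Points X} (hx : x ∈ WeakAssEt M) (E : EtOver X)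
    [IsAffine E.obj.left.left] (u : ↥E.obj.left.left) (hu : Points.ofPt E.obj.hom u = x) : IsWeakAssOn M E u := by
  obtain ⟨E₁, hE₁, u₁, hu₁, hw⟩ := hx
  obtain ⟨F, g₁, g₂, w, hF, rfl, rfl⟩ := exists_common_affine u₁ u (hu₁.trans hu.symm)
  exact (isWeakAssOn_transfer M g₂ w).2 ((isWeakAssOn_transfer M g₁ w).1 hw)

theorem exists_affine_chart_point (hX : IsAlgSpace X) (x : Points X) :
    ∃ (E : EtOver X) (_ : IsAffine E.obj.left.left) (u : ↥E.obj.left.left), Points.ofPt E.obj.hom u = x := by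
  obtain ⟨U, a, ha, has⟩ := hX.atlas
  obtain ⟨v, hv⟩ := surjective_ofPt has x
  let E₀ := EtOver.mk a ha
  obtain ⟨O, hO, hvO, -⟩ := exists_isAffineOpen_mem_and_subset (U := (⊤ : E₀.obj.left.left.Opens)) (x := v) trivial
  obtain ⟨w, hw⟩ := (range_etOpenι E₀ O).ge hvO
  refine ⟨etOpen E₀ O, hO, w, ?_⟩
  rw [← ofPt_hom (etOpenι E₀ O) w, hw]
  exact hv

end Groth.Agent.AlgSpMod
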