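import Groth.Agent.AlgSpMod.Converse

/-!
# Kernels, cokernels and extensions of quasi-coherent modules
-/

set_option backward.isDefEq.respectTransparency false
set_option backward.isDefEq.respectTransparency.types false
set_option maxHeartbeats 1000000

universe u

open CategoryTheory CategoryTheory.Limits AlgebraicGeometry Opposite AlgSp TensorProduct
open Groth.Agent Groth.Agent.AlgSpLib Groth.Agent.AlgSpDec

namespace Groth.Agent.AlgSpMod

variable {S : Scheme.{u}} {X : Sp S} {M N : ModEt X}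

/-- A morphism of modules on sections over an object over another one. -/
noncomputable def appSA (φ : M ⟶ N) {E F : EtOver X} (g : F ⟶ E) : SA M g →ₗ[Rg E] SA N g where
  toFun x := φ.val.app (op F) x
  map_add' a b := map_add (φ.val.app (op F)).hom a b
  map_smul' r a := (φ.val.app (op F)).hom.map_smul (rs g r) a

theorem appSA_smul (φ : M ⟶ N) {E F : EtOver X} (g : F ⟶ E) (a : RA g) (x : SA M g) :
    appSA φ g (a • x) = a • appSA φ g x :=
  (φ.val.app (op F)).hom.map_smul a x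

theorem appSA_resL (φ : M ⟶ N) {E F F' : EtOver X} (g : F ⟶ E) (g' : F' ⟶ E) (h : F' ⟶ F) (w : h ≫ g = g')
    (x : SA M g) : appSA φ g' (resL M g g' h w x) = resL N g g' h w (appSA φ g x) :=
  congr($(((PresheafOfModules.toPresheaf _).map φ.val).naturality h.op).hom (show sectModEt M F from x))

theorem appSA_bc (φ : M ⟶ N) {E F : EtOver X} (g : F ⟶ E) (z : RA g ⊗[Rg E] SA M (𝟙 E)) :
    appSA φ g (bc M g z) = bc N g ((appSA φ (𝟙 E)).lTensor (RA g) z) := by
  induction z with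
  | zero => simp
  | tmul a x => rw [LinearMap.lTensor_tmul, bc_tmul, bc_tmul, appSA_smul, appSA_resL]
  | add a b ha hb => simp only [map_add, ha, hb]

theorem left_exact (C : ShortComplex (ModEt X)) (hC : C.Exact) (hf : Mono C.f) {E F : EtOver X} (g : F ⟶ E) :
    Function.Injective (appSA C.f g) ∧ Function.Exact (appSA C.f g) (appSA C.g g) := by
  let G := SheafOfModules.forget (OEtRing X) ⋙ PresheafOfModules.evaluation _ (op F)
  have hC' := hC.map_of_mono_of_preservesKernel G hf inferInstance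
  refine ⟨(ModuleCat.mono_iff_injective (G.map C.f)).1 inferInstance, fun y => ⟨fun hy => ?_, ?_⟩⟩
  · exact (ShortComplex.moduleCat_exact_iff _).1 hC' y hy
  · rintro ⟨x, rfl⟩
    exact (C.map G).moduleCat_zero_apply x

/-- A kernel of a morphism of good modules is good. -/
theorem good_of_left_exact (C : ShortComplex (ModEt X)) (hC : C.Exact) (hf : Mono C.f) (h₂ : Good C.X₂)
    (h₃ : Good C.X₃) : Good C.X₁ := by
  refine ⟨fun {E F} g hE hF => ?_⟩
  haveI := hE; haveI := hF
  have := flat_RA g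
  obtain ⟨hi, hx⟩ := left_exact C hC hf (𝟙 E)
  obtain ⟨hi', hx'⟩ := left_exact C hC hf g
  have hiT := Module.Flat.lTensor_preserves_injective_linearMap (M := RA g) _ hi
  have hxT := Module.Flat.lTensor_exact (RA g) hx
  refine ⟨fun a b hab => hiT ((h₂.bij g hE hF).1 ?_), fun x => ?_⟩
  · rw [← appSA_bc, ← appSA_bc, hab]
  · obtain ⟨w, hw⟩ := (h₂.bij g hE hF).2 (appSA C.f g x)
    have h0 : (appSA C.g (𝟙 E)).lTensor (RA g) w = 0 := by
      apply (h₃.bij g hE hF).1
      rw [← appSA_bc, hw, map_zero]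
      exact (hx' _).2 ⟨x, rfl⟩
    obtain ⟨v, rfl⟩ := (hxT w).1 h0
    refine ⟨v, hi' ?_⟩
    rw [appSA_bc, hw]

/-- An epimorphism of modules is locally surjective on sections. -/
theorem exists_preimage_epi (f : M ⟶ N) [Epi f] (E : EtOver X) (m : sectModEt N E) :
    ∃ R ∈ etTop X E, ∀ (V : EtOver X) (k : V ⟶ E), R k →
      ∃ x : sectModEt M V, f.val.app (op V) x = N.val.map k.op m := by
  have he : Epi ((SheafOfModules.toSheaf (OEtRing X)).map f) := QCoh.toSheaf_map_epi _ f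
  have hl := (Sheaf.isLocallySurjective_iff_epi' _ _).2 he
  exact ⟨_, hl.imageSieve_mem (U := E) m, fun V k hk => hk⟩

theorem exists_preimage_of_exact (C : ShortComplex (ModEt X)) (hC : C.Exact) (E : EtOver X) (x : sectModEt C.X₂ E)
    (hx : C.g.val.app (op E) x = 0) :
    ∃ R ∈ etTop X E, ∀ (V : EtOver X) (k : V ⟶ E), R k →
      ∃ y : sectModEt C.X₁ V, C.f.val.app (op V) y = C.X₂.val.map k.op x := by
  have hlift : Epi (kernel.lift C.g C.f C.zero) := C.exact_iff_epi_kernel_lift.1 hC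
  obtain ⟨y, hy⟩ := ((left_exact (ShortComplex.mk (kernel.ι C.g) C.g (kernel.condition _))
    (ShortComplex.kernelSequence_exact C.g) inferInstance (𝟙 E)).2 (show SA C.X₂ (𝟙 E) from x)).1 hx
  obtain ⟨R, hR, hRy⟩ := exists_preimage_epi (kernel.lift C.g C.f C.zero) E y
  refine ⟨R, hR, fun V k hk => ?_⟩
  obtain ⟨v, hv⟩ := hRy V k hk
  refine ⟨v, (congr(($(kernel.lift_ι C.g C.f C.zero)).val.app (op V) v)).symm.trans ?_⟩
  refine (congrArg ((kernel.ι C.g).val.app (op V)) hv).trans ?_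
  refine (congr($(((PresheafOfModules.toPresheaf _).map (kernel.ι C.g).val).naturality k.op).hom y)).trans ?_
  exact congrArg (C.X₂.val.map k.op) hy

theorem bijective_ι_of_θ {B : EtOver X} (hB : Aff B) {M' : SheafOfModules.{u + 1} ((OEtRing X).over B)}
    {N' : Type (u + 1)} [AddCommGroup N'] [Module (Rg (base B).left) N']
    (ι : N' →ₗ[Rg (base B).left] MS M' (id₀ B)) (h : Function.Bijective (θ M' ι (id₀ B))) : Function.Bijective ι := by
  refine ⟨fun n n' hnn => ?_, exists_ι_eq ι h.2⟩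
  let R₀ := Rg (base B).left
  have h1 : (1 : AR (id₀ B)) ⊗ₜ[R₀] n = (1 : AR (id₀ B)) ⊗ₜ[R₀] n' := h.1 (by rw [θ_tmul, θ_tmul, hnn])
  have hb : Function.Bijective (algebraMap R₀ (AR (id₀ B))) :=
    Function.bijective_iff_has_inverse.2 ⟨fun a => a, fun a => congr($((OEt X).obj.map_id (op (base B).left)).hom a),
      fun a => congr($((OEt X).obj.map_id (op (base B).left)).hom a)⟩
  let el := (AlgEquiv.ofBijective (Algebra.ofId R₀ (AR (id₀ B))) hb).toLinearEquiv
  have := congrArg ((TensorProduct.lid R₀ _) ∘ el.symm.toLinearMap.rTensor _) h1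
  have h1' : el.symm (1 : AR (id₀ B)) = 1 := (AlgEquiv.ofBijective (Algebra.ofId R₀ (AR (id₀ B))) hb).symm.map_one
  simpa [h1'] using this

/-- Bijective comparison maps with any modules give goodness. -/
theorem good_of_θ
    (h : ∀ B : EtOver X, Aff B → ∃ (N' : Type (u + 1)) (_ : AddCommGroup N') (_ : Module (Rg (base B).left) N')
      (ι : N' →ₗ[Rg (base B).left] MS (M.over B) (id₀ B)),
      ∀ P : Over (base B), Aff P.left.left → Function.Bijective (θ (M.over B) ι P)) : Good M := by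
  refine ⟨fun {B F} g hE hF => ?_⟩
  obtain ⟨N', _, _, ι, hθ⟩ := h B hE
  let g' : F ⟶ (base B).left := g
  let P : Over (base B) := Over.mk (Over.homMk g (Category.comp_id g) : Over.mk g ⟶ base B)
  let eA : RA g' ≃ₗ[Rg (base B).left] AR P :=
    { toFun := fun a => a, map_add' := fun _ _ => rfl, map_smul' := fun _ _ => rfl, invFun := fun a => a,
      left_inv := fun _ => rfl, right_inv := fun _ => rfl }
  let ι' : N' →ₗ[Rg (base B).left] SA M (𝟙 (base B).left) :=
    { toFun := fun n => ι n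
      map_add' := fun a b => map_add ι a b
      map_smul' := fun r n => map_smul ι r n }
  let eN : N' ≃ₗ[Rg (base B).left] SA M (𝟙 (base B).left) :=
    LinearEquiv.ofBijective ι' (bijective_ι_of_θ hE ι (hθ (id₀ B) hE))
  have key : ∀ z : RA g' ⊗[Rg (base B).left] N', (bc M g' (eN.toLinearMap.lTensor _ z) : sectModEt M F) =
      θ (M.over B) ι P (eA.toLinearMap.rTensor N' z) := by
    intro z
    induction z with
    | zero => simp only [map_zero]
    | tmul a n =>
      rw [LinearMap.lTensor_tmul, LinearMap.rTensor_tmul]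
      refine (bc_tmul M g' a (eN n)).trans ?_
      exact (θ_tmul (M.over B) ι P (eA a) n).symm
    | add a b ha hb => simp only [map_add]; exact congrArg₂ (· + ·) ha hb
  have hb : Function.Bijective fun z => θ (M.over B) ι P (eA.toLinearMap.rTensor N' z) :=
    (hθ P hF).comp (eA.rTensor N').bijective
  have hl : Function.Bijective (eN.toLinearMap.lTensor (RA g')) := (eN.lTensor (RA g')).bijective
  exact (Function.Bijective.of_comp_iff _ hl).1 (bijective_congr (β := sectModEt M F) key hb)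

/-- Comparison maps of a locally exact sequence. -/
theorem θ_bijective_coker {B : EtOver X} {M₁ M₂ M₃ : SheafOfModules.{u + 1} ((OEtRing X).over B)}
    (φ : M₁ ⟶ M₂) (γ : M₂ ⟶ M₃) {N₁ N₂ : Type (u + 1)} [AddCommGroup N₁] [Module (Rg (base B).left) N₁]
    [AddCommGroup N₂] [Module (Rg (base B).left) N₂] (ι₁ : N₁ →ₗ[Rg (base B).left] MS M₁ (id₀ B))
    (ι₂ : N₂ →ₗ[Rg (base B).left] MS M₂ (id₀ B)) (f : N₁ →ₗ[Rg (base B).left] N₂)
    (ι₃ : (N₂ ⧸ LinearMap.range f) →ₗ[Rg (base B).left] MS M₃ (id₀ B))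
    (hφ : ∀ n, appMS φ (id₀ B) (ι₁ n) = ι₂ (f n))
    (hγ : ∀ n, appMS γ (id₀ B) (ι₂ n) = ι₃ ((LinearMap.range f).mkQ n))
    (h₁ : ∀ P : Over (base B), Aff P.left.left → Function.Bijective (θ M₁ ι₁ P))
    (h₂ : ∀ P : Over (base B), Aff P.left.left → Function.Bijective (θ M₂ ι₂ P))
    (hex : ∀ (P : Over (base B)) (x : MS M₂ P), appMS γ P x = 0 →
      ∃ R ∈ etTop X P.left.left, ∀ (V : EtOver X) (k : V ⟶ P.left.left), R k →
        ∃ y : MS M₁ (sub P k), appMS φ (sub P k) y = msMap M₂ (subHom P k) x)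
    (hepi : ∀ (P : Over (base B)) (m : MS M₃ P),
      ∃ R ∈ etTop X P.left.left, ∀ (V : EtOver X) (k : V ⟶ P.left.left), R k →
        ∃ x : MS M₂ (sub P k), appMS γ (sub P k) x = msMap M₃ (subHom P k) m)
    (P : Over (base B)) (hP : Aff P.left.left) : Function.Bijective (θ M₃ ι₃ P) := by
  refine θ_bijective _ ι₃ (fun P hP z hz => ?_) (fun P hP m => ?_) P hP
  · obtain ⟨w, rfl⟩ := LinearMap.lTensor_surjective (AR P) (Submodule.mkQ_surjective (LinearMap.range f)) z
    rw [← appMS_θ γ ι₂ ι₃ _ hγ] at hz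
    obtain ⟨R, hR, hRy⟩ := hex P _ hz
    refine ⟨R, hR, fun V k hk hV => ?_⟩
    obtain ⟨v₁, hv₁⟩ := hRy V k hk
    obtain ⟨v, rfl⟩ := (h₁ (sub P k) hV).2 v₁
    have e₁ : (arMap (subHom P k)).toLinearMap.rTensor _ w = f.lTensor (AR (sub P k)) v := by
      apply (h₂ (sub P k) hV).1
      rw [← msMap_θ, ← appMS_θ φ ι₁ ι₂ f hφ, hv₁]
    rw [← LinearMap.comp_apply, LinearMap.rTensor_comp_lTensor, ← LinearMap.lTensor_comp_rTensor,
      LinearMap.comp_apply, e₁, ← LinearMap.lTensor_comp_apply]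
    rw [show (LinearMap.range f).mkQ ∘ₗ f = 0 from LinearMap.ext fun v =>
      (Submodule.Quotient.mk_eq_zero _).2 ⟨v, rfl⟩, LinearMap.lTensor_zero, LinearMap.zero_apply]
  · obtain ⟨R, hR, hRm⟩ := hepi P m
    refine ⟨R, hR, fun V k hk hV => ?_⟩
    obtain ⟨x, hx⟩ := hRm V k hk
    obtain ⟨w, rfl⟩ := (h₂ (sub P k) hV).2 x
    exact ⟨_, (appMS_θ γ ι₂ ι₃ _ hγ _ w).symm.trans hx⟩

/-- A cokernel of a morphism of good modules is good. -/
theorem good_of_right_exact (C : ShortComplex (ModEt X)) (hC : C.Exact) (hg : Epi C.g) (h₁ : Good C.X₁)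
    (h₂ : Good C.X₂) : Good C.X₃ := by
  refine good_of_θ fun B hB => ?_
  let f₀ : SA C.X₁ (𝟙 (base B).left) →ₗ[Rg (base B).left] SA C.X₂ (𝟙 (base B).left) := appSA C.f _
  let g₀ : SA C.X₂ (𝟙 (base B).left) →ₗ[Rg (base B).left] MS (C.X₃.over B) (id₀ B) :=
    (idι C.X₃ B) ∘ₗ appSA C.g _
  have hgf : LinearMap.range f₀ ≤ LinearMap.ker g₀ := by
    rintro _ ⟨x, rfl⟩
    exact congr(($(C.zero)).val.app (op B) (show sectModEt C.X₁ B from x))
  refine ⟨_, inferInstance, inferInstance, (LinearMap.range f₀).liftQ g₀ hgf, fun P hP => ?_⟩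
  refine θ_bijective_coker ((SheafOfModules.overFunctor (OEtRing X) B).map C.f)
    ((SheafOfModules.overFunctor (OEtRing X) B).map C.g) (idι C.X₁ B) (idι C.X₂ B) f₀ _ (fun n => rfl)
    (fun n => rfl) (h₁.θ_bijective hB) (h₂.θ_bijective hB) (fun Q x hx => ?_) (fun Q m => ?_) P hP
  · exact exists_preimage_of_exact C hC Q.left.left x hx
  · exact exists_preimage_epi C.g Q.left.left m

/-- Sections over affine objects of a short exact sequence with quasi-coherent left term are exact. -/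
theorem surjective_appSA (C : ShortComplex (ModEt X)) (hC : C.ShortExact) (h₁ : Good C.X₁) {E : EtOver X}
    (hE : Aff E) : Function.Surjective (appSA C.g (𝟙 E)) := by
  classical
  intro m
  have := hC.epi_g
  have hf := hC.mono_f
  haveI := hE
  obtain ⟨R, hR, hRm⟩ := exists_preimage_epi C.g E (show sectModEt C.X₃ E from m)
  obtain ⟨E', p, κ, _, Ek, j, -, hp, hEk, hRj, hcov, -⟩ := exists_affine_cover hR
  let h : ∀ k, Ek k ⟶ E := fun k => j k ≫ p
  have hs : ∀ x : ↥E.obj.left.left, ∃ k, x ∈ Set.range (h k).hom.left.left := fun x => by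
    obtain ⟨y, rfl⟩ := hp.surj x
    obtain ⟨k, z, hz⟩ := exists_range_of_mem_etTop hcov y
    exact ⟨k, z, show p.hom.left.left ((j k).hom.left.left z) = _ by rw [hz]⟩
  choose x hx using fun k => hRm _ _ (hRj k)
  let xs : ∀ k, SA C.X₂ (h k) := fun k => x k
  have hxs : ∀ k, appSA C.g (h k) (xs k) = resL C.X₃ (𝟙 E) (h k) (h k) (Category.comp_id _) m := hx
  let e₂ : ∀ q : κ × κ, EtOver.pullbackObj (h q.1) (h q.2) ⟶ E := fun q =>
    EtOver.pullbackFst (h q.1) (h q.2) ≫ h q.1
  let d₁ : ∀ (M : ModEt X) (q : κ × κ), SA M (h q.1) →ₗ[Rg E] SA M (e₂ q) := fun M q =>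
    resL M (h q.1) (e₂ q) (EtOver.pullbackFst (h q.1) (h q.2)) rfl
  let d₂ : ∀ (M : ModEt X) (q : κ × κ), SA M (h q.2) →ₗ[Rg E] SA M (e₂ q) := fun M q =>
    resL M (h q.2) (e₂ q) (EtOver.pullbackSnd (h q.1) (h q.2)) (EtOver.pullback_condition _ _).symm
  have hd : ∀ q : κ × κ, ∃ c : SA C.X₁ (e₂ q), appSA C.f (e₂ q) c = d₂ C.X₂ q (xs q.2) - d₁ C.X₂ q (xs q.1) := by
    intro q
    refine (((left_exact C hC.exact hf (e₂ q)).2 _).1 ?_)
    rw [map_sub, sub_eq_zero]
    simp only [d₁, d₂]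
    rw [appSA_resL, appSA_resL, hxs, hxs, resL_resL, resL_resL]
    exact resL_congr _ _ _ (EtOver.pullback_condition (h q.1) (h q.2)).symm _ _ m
  choose c hc using hd
  let Ψ : (∀ k, SA C.X₁ (h k)) →ₗ[Rg E] (∀ q, SA C.X₁ (e₂ q)) :=
    LinearMap.pi fun q => d₂ C.X₁ q ∘ₗ LinearMap.proj q.2 - d₁ C.X₁ q ∘ₗ LinearMap.proj q.1
  have hΨ : c ∈ LinearMap.range Ψ := by
    refine mem_of_cover h hEk hs _ c fun i => ?_
    haveI := hEk i
    let g := h i
    let π₁ := TensorProduct.piRight (Rg E) (Rg E) (RA g) (fun k => SA C.X₁ (h k))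
    let π₂ := TensorProduct.piRight (Rg E) (Rg E) (RA g) (fun q => SA C.X₁ (e₂ q))
    have hfib : ∀ (F : EtOver X) (e : F ⟶ E), Aff F → Function.Bijective (fib C.X₁ g e) := fun F e hF =>
      haveI := hF
      fib_bijective C.X₁ g e (h₁.bij _ hF (aff_pullbackObj g e hE (hEk i) hF))
    choose b hb using fun k => (hfib _ (h k) (hEk k)).2
      (show SA C.X₁ (EtOver.pullbackFst g (h k) ≫ g) from c (i, k))
    have key : Ψ.lTensor (RA g) (π₁.symm b) = (1 : RA g) ⊗ₜ c := by
      apply π₂.injective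
      funext q
      have e1 : ∀ w : RA g ⊗[Rg E] (∀ k, SA C.X₁ (h k)), π₂ (Ψ.lTensor (RA g) w) q =
          (d₂ C.X₁ q).lTensor _ (π₁ w q.2) - (d₁ C.X₁ q).lTensor _ (π₁ w q.1) := by
        intro w
        induction w with
        | zero => simp
        | tmul a n => simp [π₁, π₂, Ψ, tmul_sub]
        | add a a' ha ha' => simp only [map_add, Pi.add_apply, ha, ha']; abel
      rw [e1, LinearEquiv.apply_symm_apply, show π₂ ((1 : RA g) ⊗ₜ c) q = (1 : RA g) ⊗ₜ c q by simp [π₂]]
      apply (hfib _ (e₂ q) (aff_pullbackObj _ _ hE (hEk q.1) (hEk q.2))).1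
      let T := EtOver.pullbackObj g (e₂ q)
      let t₁ : T ⟶ EtOver.pullbackObj g (h q.1) := (EtOver.isPullback g (h q.1)).lift (EtOver.pullbackFst g (e₂ q))
        (EtOver.pullbackSnd g (e₂ q) ≫ EtOver.pullbackFst (h q.1) (h q.2))
        ((EtOver.pullback_condition g (e₂ q)).trans (Category.assoc _ _ _).symm)
      let t₂ : T ⟶ EtOver.pullbackObj g (h q.2) := (EtOver.isPullback g (h q.2)).lift (EtOver.pullbackFst g (e₂ q))
        (EtOver.pullbackSnd g (e₂ q) ≫ EtOver.pullbackSnd (h q.1) (h q.2)) (by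
          rw [Category.assoc, ← EtOver.pullback_condition (h q.1) (h q.2)]
          exact EtOver.pullback_condition g (e₂ q))
      rw [map_sub]
      simp only [d₁, d₂]
      rw [fib_natural C.X₁ g (h q.2) (e₂ q) _ (EtOver.pullback_condition _ _).symm t₂
          ((EtOver.isPullback g (h q.2)).lift_fst _ _ _) ((EtOver.isPullback g (h q.2)).lift_snd _ _ _),
        fib_natural C.X₁ g (h q.1) (e₂ q) _ rfl t₁ ((EtOver.isPullback g (h q.1)).lift_fst _ _ _)
          ((EtOver.isPullback g (h q.1)).lift_snd _ _ _), hb, hb, fib_tmul]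
      apply (left_exact C hC.exact hf (EtOver.pullbackFst g (e₂ q) ≫ g)).1
      rw [map_sub, appSA_resL, appSA_resL, appSA_smul, appSA_resL, hc q]
      have hcq : ∀ k, (appSA C.f (EtOver.pullbackFst g (h k) ≫ g)
          (show SA C.X₁ (EtOver.pullbackFst g (h k) ≫ g) from c (i, k))) =
          resL C.X₂ (h k) (EtOver.pullbackFst g (h k) ≫ g) (EtOver.pullbackSnd g (h k))
              (EtOver.pullback_condition g (h k)).symm (xs k) -
            resL C.X₂ g (EtOver.pullbackFst g (h k) ≫ g) (EtOver.pullbackFst g (h k)) rfl (xs i) :=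
        fun k => hc (i, k)
      rw [hcq, hcq, show (rs (EtOver.pullbackFst g (e₂ q)) (1 : RA g) : RA (EtOver.pullbackFst g (e₂ q) ≫ g)) = 1
        from map_one (rs (EtOver.pullbackFst g (e₂ q))), one_smul]
      simp only [d₁, d₂, map_sub]
      simp only [resL_resL]
      have a1 : t₂ ≫ EtOver.pullbackFst g (h q.2) = t₁ ≫ EtOver.pullbackFst g (h q.1) :=
        ((EtOver.isPullback g (h q.2)).lift_fst _ _ _).trans ((EtOver.isPullback g (h q.1)).lift_fst _ _ _).symm
      rw [resL_congr C.X₂ _ _ a1 _ (by rw [Category.assoc]; show t₁ ≫ EtOver.pullbackFst g (h q.1) ≫ g = _; rw [← Category.assoc, (EtOver.isPullback g (h q.1)).lift_fst]) (xs i),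
        resL_congr C.X₂ _ _ ((EtOver.isPullback g (h q.1)).lift_snd _ _ _) _
          (by simp only [e₂, Category.assoc]; exact (EtOver.pullback_condition g (e₂ q)).symm) (xs q.1),
        resL_congr C.X₂ _ _ ((EtOver.isPullback g (h q.2)).lift_snd _ _ _) _
          (by rw [Category.assoc, ← EtOver.pullback_condition (h q.1) (h q.2)]
              exact (EtOver.pullback_condition g (e₂ q)).symm) (xs q.2)]
      abel
    refine ⟨Ψ.rangeRestrict.lTensor _ (π₁.symm b), ?_⟩
    rw [← LinearMap.lTensor_comp_apply]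
    exact key
  obtain ⟨b, hb⟩ := hΨ
  let y : ∀ k, SA C.X₂ (h k) := fun k => xs k - appSA C.f (h k) (b k)
  have hcov' : Sieve.ofArrows Ek h ∈ etTop X E :=
    AlgSp.ofArrows_mem_etTop _ _ fun z => hs z
  obtain ⟨z, hz⟩ := exists_glue C.X₂ h hcov' (fun k => y k) fun k l => by
    have h1 : d₂ C.X₂ (k, l) (y l) = d₁ C.X₂ (k, l) (y k) := by
      have h2 : d₂ C.X₁ (k, l) (b l) - d₁ C.X₁ (k, l) (b k) = c (k, l) := congrFun hb (k, l)
      have h3 := congrArg (appSA C.f (e₂ (k, l))) h2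
      rw [hc, map_sub] at h3
      simp only [d₁, d₂, y, map_sub, appSA_resL] at h3 ⊢
      rw [sub_eq_sub_iff_sub_eq_sub]
      exact h3.symm
    exact h1.symm
  refine ⟨z, ext_of_cover' C.X₃ h hcov' fun k => ?_⟩
  show resL C.X₃ (𝟙 E) (h k) (h k) (Category.comp_id _) (appSA C.g (𝟙 E) z) =
    resL C.X₃ (𝟙 E) (h k) (h k) (Category.comp_id _) m
  rw [← appSA_resL, show resL C.X₂ (𝟙 E) (h k) (h k) (Category.comp_id _) z = y k from hz k]
  show appSA C.g (h k) (xs k - appSA C.f (h k) (b k)) = _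
  rw [map_sub, hxs, ((left_exact C hC.exact hf (h k)).2 _).2 ⟨b k, rfl⟩, sub_zero]

/-- An extension of good modules is good. -/
theorem good_of_extension (C : ShortComplex (ModEt X)) (hC : C.ShortExact) (h₁ : Good C.X₁) (h₃ : Good C.X₃) :
    Good C.X₂ := by
  refine ⟨fun {E F} g hE hF => ?_⟩
  haveI := hE; haveI := hF
  have := flat_RA g
  have hf := hC.mono_f
  obtain ⟨hi, hx⟩ := left_exact C hC.exact hf (𝟙 E)
  obtain ⟨hi', hx'⟩ := left_exact C hC.exact hf g
  have hxT := Module.Flat.lTensor_exact (RA g) hx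
  refine ⟨(injective_iff_map_eq_zero _).2 fun w hw => ?_, fun y => ?_⟩
  · have h0 : (appSA C.g (𝟙 E)).lTensor (RA g) w = 0 := by
      apply (h₃.bij g hE hF).1
      rw [← appSA_bc, hw, map_zero, map_zero]
    obtain ⟨v, rfl⟩ := (hxT w).1 h0
    have hv : v = 0 := by
      apply (h₁.bij g hE hF).1
      apply hi'
      rw [appSA_bc, hw, map_zero, map_zero]
    rw [hv, map_zero]
  · obtain ⟨w, hw⟩ := (h₃.bij g hE hF).2 (appSA C.g g y)
    obtain ⟨u, rfl⟩ := LinearMap.lTensor_surjective (RA g) (surjective_appSA C hC h₁ hE) w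
    have h0 : appSA C.g g (y - bc C.X₂ g u) = 0 := by rw [map_sub, appSA_bc, hw, sub_self]
    obtain ⟨x, hx₀⟩ := (hx' _).1 h0
    obtain ⟨v, rfl⟩ := (h₁.bij g hE hF).2 x
    refine ⟨(appSA C.f (𝟙 E)).lTensor (RA g) v + u, ?_⟩
    rw [map_add, ← appSA_bc, hx₀, sub_add_cancel]

theorem Good.of_iso (h : Good M) (e : M ≅ N) : Good N := by
  have : M.IsQuasicoherent := h.isQuasicoherent
  have : N.IsQuasicoherent := ((SheafOfModules.isQuasicoherent (OEtRing X)).prop_of_iso e ‹_›)
  exact good_of_qcoh N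

end Groth.Agent.AlgSpMod
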