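import Groth.Agent.AlgSpMod.Good
import Groth.Agent.AlgSpMod.WeakAss
import Mathlib.RingTheory.Finiteness.Finsupp

/-!
# Modules whose affine sections commute with base change are quasi-coherent
-/

set_option backward.isDefEq.respectTransparency false
set_option backward.isDefEq.respectTransparency.types false
set_option maxHeartbeats 1000000

universe u

open CategoryTheory CategoryTheory.Limits AlgebraicGeometry Opposite AlgSp TensorProduct
open Groth.Agent Groth.Agent.AlgSpLib Groth.Agent.AlgSpDec

namespace Groth.Agent.AlgSpMod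

variable {S : Scheme.{u}} {X : Sp S}

section Over

variable {B : EtOver X}

/-- The terminal object of the site over `B`. -/
abbrev base (B : EtOver X) : Over B := Over.mk (𝟙 B)

/-- The base as an object over itself. -/
abbrev id₀ (B : EtOver X) : Over (base B) := Over.mk (𝟙 (base B))

/-- An object over `B` as an object over the base. -/
abbrev lift₀ (U : Over B) : Over (base B) :=
  Over.mk (Over.homMk U.hom (Category.comp_id _) : U ⟶ base B)

/-- The global section given by a section over the base. -/
noncomputable def globSec (M : SheafOfModules.{u + 1} ((OEtRing X).over B)) (x : MS M (id₀ B)) : M.sections :=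
  PresheafOfModules.sectionsMk
    (fun U => M.val.map (Over.homMk U.unop.hom (Category.comp_id _) : U.unop ⟶ base B).op x) fun U V f => by
    have e : f.unop ≫ (Over.homMk U.unop.hom (Category.comp_id _) : U.unop ⟶ base B) =
        Over.homMk V.unop.hom (Category.comp_id _) := Over.OverMorphism.ext (Over.w f.unop)
    rw [← e]
    exact (congr($(M.val.presheaf.map_comp
      (Over.homMk U.unop.hom (Category.comp_id _) : U.unop ⟶ base B).op f.unop.op) x)).symm

theorem globSec_val (M : SheafOfModules.{u + 1} ((OEtRing X).over B)) (x : MS M (id₀ B)) (P : Over (base B)) :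
    (globSec M x).val (op P.left) = msMap M (toId P) x := by
  have e : (Over.homMk P.left.hom (Category.comp_id _) : P.left ⟶ base B) = (toId P).left :=
    Over.OverMorphism.ext ((Category.comp_id _).symm.trans (Over.w P.hom)).symm
  show M.val.map (Over.homMk P.left.hom (Category.comp_id _) : P.left ⟶ base B).op x = _
  rw [e]
  rfl

/-- A morphism surjective on sections over affine objects is an epimorphism. -/
theorem epi_of_surjective {M M' : SheafOfModules.{u + 1} ((OEtRing X).over B)} (f : M ⟶ M')
    (h : ∀ P : Over (base B), Aff P.left.left → Function.Surjective (appMS f P)) : Epi f := by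
  refine ⟨fun {Z} a b hab => ?_⟩
  ext U m
  obtain ⟨U⟩ := U
  let P := lift₀ U
  choose W hW hxW _ using fun x : ↥U.left.obj.left.left => exists_isAffineOpen_mem_and_subset
    (U := (⊤ : U.left.obj.left.left.Opens)) (x := x) trivial
  refine ext_of_cover Z (P := P) (κ := ↥U.left.obj.left.left) (Q := fun x => sub P (etOpenι U.left (W x)))
    (fun x => subHom P (etOpenι U.left (W x)))
    (AlgSp.ofArrows_mem_etTop _ _ fun x => ⟨x, by
      show x ∈ Set.range (etOpenι U.left (W x)).hom.left.left
      rw [range_etOpenι]; exact hxW x⟩) fun x => ?_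
  obtain ⟨y, hy⟩ := h (sub P (etOpenι U.left (W x))) (hW x) (msMap M' (subHom P (etOpenι U.left (W x))) m)
  show msMap Z _ (appMS a P m) = msMap Z _ (appMS b P m)
  rw [msMap_appMS, msMap_appMS, ← hy]
  exact congr(($hab).val.app (op (sub P (etOpenι U.left (W x))).left) y)

theorem appMS_injective {M M' : SheafOfModules.{u + 1} ((OEtRing X).over B)} (f : M ⟶ M') [Mono f]
    (P : Over (base B)) : Function.Injective (appMS f P) := by
  let F := SheafOfModules.forget ((OEtRing X).over B) ⋙ PresheafOfModules.evaluation _ (op P.left)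
  exact (ModuleCat.mono_iff_injective (F.map f)).1 inferInstance

variable {M : SheafOfModules.{u + 1} ((OEtRing X).over B)} {N : Type (u + 1)} [AddCommGroup N] [Module (Rg (base B).left) N]
  (ι : N →ₗ[Rg (base B).left] MS M (id₀ B)) {I : Type (u + 1)} (c : (I →₀ Rg (base B).left) →ₗ[Rg (base B).left] N)

/-- The morphism from a free module given by elements. -/
noncomputable def πOf : Fr (B := B) I ⟶ M :=
  M.freeHomEquiv.symm fun i => globSec M (ι (c (Finsupp.single i 1)))

theorem appMS_πOf (P : Over (base B)) (w : AR P ⊗[Rg (base B).left] (I →₀ Rg (base B).left)) :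
    appMS (πOf ι c) P (θ _ (freeι (B := B) (E₀ := base B) I) P w) = θ M ι P (c.lTensor (AR P) w) := by
  refine appMS_θ (πOf ι c) _ ι c (fun v => ?_) P w
  induction v using Finsupp.induction_linear with
  | zero => simp only [map_zero]
  | add a b ha hb => simp only [map_add, ha, hb]
  | single i r =>
    rw [show Finsupp.single i r = r • Finsupp.single i (1 : Rg (base B).left) by simp, map_smul, map_smul, map_smul,
      LinearMap.map_smul_of_tower]
    congr 1
    simp only [freeι, Finsupp.linearCombination_single, one_smul]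
    have h := congrArg (fun s => s.val (op (id₀ B).left))
      (SheafOfModules.sectionsMap_freeHomEquiv_symm_freeSection
        (fun i => globSec M (ι (c (Finsupp.single i 1)))) i)
    refine h.trans ?_
    show (globSec M (ι (c (Finsupp.single i 1)))).val (op (id₀ B).left) = _
    rw [globSec_val, show toId (id₀ B) = 𝟙 _ from Over.OverMorphism.ext rfl]
    exact congr($(M.val.presheaf.map_id (op (base B))) _)

theorem epi_πOf (hs : ∀ P : Over (base B), Aff P.left.left → Function.Surjective (θ M ι P))
    (hc : Function.Surjective c) : Epi (πOf ι c) := by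
  refine epi_of_surjective _ fun P hP m => ?_
  obtain ⟨z, rfl⟩ := hs P hP m
  obtain ⟨w, rfl⟩ := LinearMap.lTensor_surjective (AR P) hc z
  exact ⟨_, appMS_πOf ι c P w⟩

/-- The generators given by a surjection from a free module. -/
noncomputable def gensOf (hs : ∀ P : Over (base B), Aff P.left.left → Function.Surjective (θ M ι P))
    (hc : Function.Surjective c) : M.GeneratingSections where
  I := I
  s i := globSec M (ι (c (Finsupp.single i 1)))
  epi := epi_πOf ι c hs hc

/-- Elements spanning the relations generate a module embedded in the free one which maps to zero. -/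
theorem exists_generators_kernel
    (hθ : ∀ P : Over (base B), Aff P.left.left → Function.Bijective (θ M ι P))
    (hc : Function.Surjective c) {J : Type (u + 1)} (d : (J →₀ Rg (base B).left) →ₗ[Rg (base B).left] (I →₀ Rg (base B).left))
    (hd : Function.Exact d c) {K : SheafOfModules.{u + 1} ((OEtRing X).over B)} (k : K ⟶ Fr (B := B) I) [Mono k]
    (hk : ∀ (P : Over (base B)) (z : MS K P), appMS (πOf ι c) P (appMS k P z) = 0) (y : J → MS K (id₀ B))
    (hy : ∀ j, appMS k (id₀ B) (y j) = freeι (B := B) (E₀ := base B) I (d (Finsupp.single j 1))) :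
    ∃ σ : K.GeneratingSections, σ.I = J := by
  let d' : (J →₀ Rg (base B).left) →ₗ[Rg (base B).left] MS K (id₀ B) :=
    Finsupp.linearCombination (Rg (base B).left) y
  have hd' : ∀ u, appMS k (id₀ B) (d' u) = freeι (B := B) (E₀ := base B) I (d u) := fun u => by
    induction u using Finsupp.induction_linear with
    | zero => simp only [map_zero]
    | add a b ha hb => simp only [map_add, ha, hb]
    | single j r =>
      rw [show Finsupp.single j r = r • Finsupp.single j (1 : Rg (base B).left) by simp, map_smul, map_smul, map_smul,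
        LinearMap.map_smul_of_tower]
      congr 1
      simp only [d', Finsupp.linearCombination_single, one_smul]
      exact hy j
  have he : Epi (πOf d' (LinearMap.id : (J →₀ Rg (base B).left) →ₗ[Rg (base B).left] _)) := by
    refine epi_of_surjective _ fun P hP z => ?_
    obtain ⟨w, hw⟩ := (θ_free_bijective (B := B) (E₀ := base B) I P hP).2 (appMS k P z)
    have h0 : c.lTensor (AR P) w = 0 := by
      apply (hθ P hP).1
      rw [map_zero, ← appMS_πOf, hw]
      exact hk P z
    obtain ⟨v, hv⟩ := (lTensor_exact (AR P) hd hc _).1 h0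
    refine ⟨θ _ (freeι (B := B) (E₀ := base B) J) P v, appMS_injective k P ?_⟩
    rw [appMS_πOf, LinearMap.lTensor_id, LinearMap.id_apply, ← hw, ← hv]
    exact appMS_θ k d' _ d hd' P v
  exact ⟨⟨J, _, he⟩, rfl⟩

/-- A module whose affine sections are base changes has a presentation given by a presentation of them. -/
theorem exists_presentation (hB : Aff B)
    (hθ : ∀ P : Over (base B), Aff P.left.left → Function.Bijective (θ M ι P))
    (hc : Function.Surjective c) {J : Type (u + 1)} (d : (J →₀ Rg (base B).left) →ₗ[Rg (base B).left] (I →₀ Rg (base B).left))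
    (hd : Function.Exact d c) :
    ∃ p : M.Presentation, p.generators.I = I ∧ p.relations.I = J := by
  let π := πOf ι c
  let gens := gensOf ι c (fun P hP => (hθ P hP).2) hc
  have hπ : gens.π = π := rfl
  have hy : ∀ j : J, ∃ y : MS (kernel π) (id₀ B),
      appMS (kernel.ι π) (id₀ B) y = freeι (B := B) (E₀ := base B) I (d (Finsupp.single j 1)) := by
    intro j
    apply exists_kernel_preimage
    obtain ⟨w, hw⟩ := (θ_free_bijective (B := B) (E₀ := base B) I (id₀ B) hB).2
      (freeι (B := B) (E₀ := base B) I (d (Finsupp.single j 1)))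
    have e : w = (1 : AR (id₀ B)) ⊗ₜ d (Finsupp.single j 1) := by
      apply (θ_free_bijective (B := B) (E₀ := base B) I (id₀ B) hB).1
      rw [hw, θ_tmul, one_smul, show toId (id₀ B) = 𝟙 _ from Over.OverMorphism.ext rfl]
      exact (congr($(((Fr (B := B) I)).val.presheaf.map_id (op (base B))) _)).symm
    rw [← hw, appMS_πOf, e, LinearMap.lTensor_tmul, (hd _).2 ⟨_, rfl⟩, tmul_zero, map_zero]
  choose y hy using hy
  obtain ⟨σ, hσ⟩ := exists_generators_kernel ι c hθ hc d hd (kernel.ι π)
    (fun P z => congr(($(kernel.condition π)).val.app (op P.left) z)) y hy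
  exact ⟨⟨gens, σ⟩, rfl, hσ⟩

end Over

variable (M : ModEt X)

/-- Sections over affine objects commute with base change. -/
structure Good : Prop where
  bij : ∀ {E F : EtOver X} (g : F ⟶ E), Aff E → Aff F → Function.Bijective (bc M g)

theorem good_of_qcoh [M.IsQuasicoherent] : Good M := ⟨fun g hE hF => bc_bijective M g hE hF⟩

/-- Sections over an affine object, in the site over it. -/
noncomputable def idι (B : EtOver X) : SA M (𝟙 (base B).left) →ₗ[Rg (base B).left] MS (M.over B) (id₀ B) where
  toFun x := x
  map_add' _ _ := rfl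
  map_smul' _ _ := rfl

variable {M}

theorem Good.θ_bijective (h : Good M) {B : EtOver X} (hB : Aff B) (P : Over (base B)) (hP : Aff P.left.left) :
    Function.Bijective (θ (M.over B) (idι M B) P) := by
  let g : P.left.left ⟶ (base B).left := P.hom.left
  let eA : RA g ≃ₗ[Rg (base B).left] AR P :=
    { toFun := fun a => a, map_add' := fun _ _ => rfl, map_smul' := fun _ _ => rfl, invFun := fun a => a,
      left_inv := fun _ => rfl, right_inv := fun _ => rfl }
  have key : ∀ z : RA g ⊗[Rg (base B).left] SA M (𝟙 (base B).left), (θ (M.over B) (idι M B) P (eA.toLinearMap.rTensor _ z) :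
      sectModEt M P.left.left) = bc M g z := by
    intro z
    induction z with
    | zero => simp only [map_zero]
    | tmul a n =>
      rw [LinearMap.rTensor_tmul]
      refine (θ_tmul (M.over B) (idι M B) P (eA a) n).trans ?_
      exact (bc_tmul M g a n).symm
    | add a b ha hb => simp only [map_add]; exact congrArg₂ (· + ·) ha hb
  refine (Function.Bijective.of_comp_iff _ (eA.rTensor (SA M (𝟙 (base B).left))).bijective).1 ?_
  exact bijective_congr (β := sectModEt M P.left.left) key (h.bij g hB hP)

theorem Good.exists_presentation' (h : Good M) {B : EtOver X} (hB : Aff B) {I J : Type (u + 1)}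
    (c : (I →₀ Rg (base B).left) →ₗ[Rg (base B).left] SA M (𝟙 (base B).left)) (hc : Function.Surjective c)
    (d : (J →₀ Rg (base B).left) →ₗ[Rg (base B).left] (I →₀ Rg (base B).left)) (hd : Function.Exact d c) :
    ∃ p : (M.over B).Presentation, p.generators.I = I ∧ p.relations.I = J :=
  exists_presentation (idι M B) c hB (fun P hP => h.θ_bijective hB P hP) hc d hd

/-- Affine objects cover. -/
theorem coversTop_affine : (etTop X).CoversTop (fun E : {E : EtOver X // Aff E} => E.1) := by
  intro W
  choose O hO hxO _ using fun x : ↥W.obj.left.left => exists_isAffineOpen_mem_and_subset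
    (U := (⊤ : W.obj.left.left.Opens)) (x := x) trivial
  refine (etTop X).superset_covering ?_ (AlgSp.ofArrows_mem_etTop (fun x => etOpen W (O x))
    (fun x => etOpenι W (O x)) fun x => ⟨x, by rw [range_etOpenι]; exact hxO x⟩)
  intro V f hf
  obtain ⟨x, k, rfl⟩ := (Sieve.mem_ofArrows_iff _ _ _).1 hf
  exact (Sieve.mem_ofObjects_iff _ _).2 ⟨⟨etOpen W (O x), hO x⟩, ⟨k⟩⟩

/-- Presentations on all affine objects as quasi-coherence data. -/
noncomputable def qcData (p : ∀ E : {E : EtOver X // Aff E}, (M.over E.1).Presentation) : M.QuasicoherentData where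
  I := {E : EtOver X // Aff E}
  X E := E.1
  coversTop := coversTop_affine
  presentation := p

/-- Generators on all affine objects as local generators data. -/
noncomputable def lgData (σ : ∀ E : {E : EtOver X // Aff E}, (M.over E.1).GeneratingSections) :
    M.LocalGeneratorsData where
  I := {E : EtOver X // Aff E}
  X E := E.1
  coversTop := coversTop_affine
  generators := σ

/-- Modules whose affine sections commute with base change are quasi-coherent. -/
theorem Good.isQuasicoherent (h : Good M) : M.IsQuasicoherent := by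
  have hp : ∀ E : {E : EtOver X // Aff E}, ∃ _p : (M.over E.1).Presentation, True := fun E => by
    let c := Finsupp.linearCombination (Rg E.1) (id : SA M (𝟙 E.1) → SA M (𝟙 E.1))
    let d := Finsupp.linearCombination (Rg E.1) (Subtype.val : LinearMap.ker c → _)
    have hc : Function.Surjective c := fun x => ⟨Finsupp.single x 1, by simp [c]⟩
    have hd : Function.Exact d c := by
      rw [LinearMap.exact_iff, Finsupp.range_linearCombination, Subtype.range_coe]
      exact (Submodule.span_eq _).symm
    obtain ⟨p, -⟩ := h.exists_presentation' E.2 c hc d hd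
    exact ⟨p, trivial⟩
  choose p _ using hp
  exact (qcData p).isQuasicoherent

theorem isQuasicoherent_iff_good : M.IsQuasicoherent ↔ Good M :=
  ⟨fun _ => good_of_qcoh M, Good.isQuasicoherent⟩

theorem isFinitePresentation_of_good (h : Good M)
    (hfp : ∀ E : EtOver X, Aff E → Module.FinitePresentation (Rg E) (SA M (𝟙 E))) : M.IsFinitePresentation := by
  have hp : ∀ E : {E : EtOver X // Aff E}, ∃ p : (M.over E.1).Presentation, p.IsFinite := fun E => by
    have := hfp E.1 E.2
    obtain ⟨n, f, hf⟩ := Module.Finite.exists_fin' (Rg E.1) (SA M (𝟙 E.1))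
    let eI : (ULift.{u + 1} (Fin n) →₀ Rg E.1) ≃ₗ[Rg E.1] (Fin n → Rg E.1) :=
      (Finsupp.domLCongr Equiv.ulift).trans (Finsupp.linearEquivFunOnFinite _ _ _)
    let c := f ∘ₗ eI.toLinearMap
    have hc : Function.Surjective c := hf.comp eI.surjective
    have : Module.Finite (Rg E.1) (LinearMap.ker c) :=
      Module.Finite.iff_fg.2 (Module.FinitePresentation.fg_ker c hc)
    obtain ⟨m, g, hg⟩ := Module.Finite.exists_fin' (Rg E.1) (LinearMap.ker c)
    let eJ : (ULift.{u + 1} (Fin m) →₀ Rg E.1) ≃ₗ[Rg E.1] (Fin m → Rg E.1) :=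
      (Finsupp.domLCongr Equiv.ulift).trans (Finsupp.linearEquivFunOnFinite _ _ _)
    let d := (LinearMap.ker c).subtype ∘ₗ g ∘ₗ eJ.toLinearMap
    have hd : Function.Exact d c := by
      rw [LinearMap.exact_iff, LinearMap.range_comp, LinearMap.range_eq_top.2 (show Function.Surjective (g ∘ₗ eJ.toLinearMap) from hg.comp eJ.surjective),
        Submodule.map_top, Submodule.range_subtype]
    obtain ⟨p, hI, hJ⟩ := h.exists_presentation' E.2 c hc d hd
    exact ⟨p, ⟨⟨by rw [hI]; infer_instance⟩, ⟨by rw [hJ]; infer_instance⟩⟩⟩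
  choose p hp using hp
  have hq : (qcData p).IsFinitePresentation := by
    constructor
    exact hp
  constructor
  exact ⟨qcData p, hq⟩

theorem isFiniteType_of_good (h : Good M)
    (hft : ∀ E : EtOver X, Aff E → Module.Finite (Rg E) (SA M (𝟙 E))) : M.IsFiniteType := by
  have hg : ∀ E : {E : EtOver X // Aff E}, ∃ σ : (M.over E.1).GeneratingSections, Finite σ.I := fun E => by
    have := hft E.1 E.2
    obtain ⟨n, f, hf⟩ := Module.Finite.exists_fin' (Rg E.1) (SA M (𝟙 E.1))
    let eI : (ULift.{u + 1} (Fin n) →₀ Rg E.1) ≃ₗ[Rg E.1] (Fin n → Rg E.1) :=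
      (Finsupp.domLCongr Equiv.ulift).trans (Finsupp.linearEquivFunOnFinite _ _ _)
    exact ⟨gensOf (idι M E.1) (f ∘ₗ eI.toLinearMap) (fun P hP => (h.θ_bijective E.2 P hP).2)
      (hf.comp eI.surjective), (inferInstance : Finite (ULift.{u + 1} (Fin n)))⟩
  choose σ hσ using hg
  have hq : (lgData σ).IsFiniteType := by
    constructor
    intro i
    exact ⟨hσ i⟩
  constructor
  exact ⟨lgData σ, hq⟩

/-! ### Descent along coverings -/

theorem exists_range_of_mem_etTop {E : EtOver X} {κ : Type*} {Ek : κ → EtOver X} {j : ∀ k, Ek k ⟶ E}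
    (hc : Sieve.ofArrows Ek j ∈ etTop X E) (x : ↥E.obj.left.left) :
    ∃ k z, (j k).hom.left.left z = x := by
  obtain ⟨P, hP, hle⟩ := (etPre X).mem_toGrothendieck_iff_of_isStableUnderComposition.1 hc
  obtain ⟨κ', W, w, rfl⟩ := P.exists_eq_ofArrows
  obtain ⟨i, z, hz⟩ := (ofArrows_mem_etPre_iff W w).1 hP x
  obtain ⟨k, a, ha⟩ := (Sieve.mem_ofArrows_iff _ _ _).1 (hle _ _ (Presieve.ofArrows.mk i))
  refine ⟨k, a.hom.left.left z, ?_⟩
  rw [← hz, ha]
  rfl


/-- An element lies in a submodule as soon as it does on a covering. -/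
theorem mem_of_cover {E : EtOver X} [Aff E] {κ : Type*} {Ek : κ → EtOver X} (h : ∀ k, Ek k ⟶ E)
    (hA : ∀ k, Aff (Ek k)) (hs : ∀ x : ↥E.obj.left.left, ∃ k, x ∈ Set.range (h k).hom.left.left)
    {N : Type (u + 1)} [AddCommGroup N] [Module (Rg E) N] (T : Submodule (Rg E) N) (m : N)
    (hm : ∀ k, (1 : RA (h k)) ⊗ₜ[Rg E] m ∈ LinearMap.range (T.subtype.lTensor (RA (h k)))) : m ∈ T := by
  rw [← Submodule.Quotient.mk_eq_zero T]
  by_contra hne
  let x : N ⧸ T := Submodule.Quotient.mk m
  have hI : WeakAss.annEl (Rg E) x ≠ ⊤ := fun hc => hne (by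
    have := WeakAss.mem_annEl.1 (hc ▸ Submodule.mem_top : (1 : Rg E) ∈ WeakAss.annEl (Rg E) x)
    rwa [one_smul] at this)
  obtain ⟨p, hp⟩ := Ideal.nonempty_minimalPrimes hI
  haveI := hp.1.1
  let e : Γ(E.obj.left.left, ⊤) →+* Rg E := (ULift.ringEquiv (R := Γ(E.obj.left.left, ⊤))).symm.toRingHom
  obtain ⟨u, hu⟩ := WeakAssEmpty.exists_primeAtPt_eq (p.comap e)
  obtain ⟨k, w, hw⟩ := hs u
  haveI := hA k
  have : Algebra.Etale (Rg E) (RA (h k)) := etale_RA (h k)
  let q : Ideal (RA (h k)) := pR (Ek k) w
  have : q.IsPrime := (inferInstance : (pR (Ek k) w).IsPrime)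
  have hq : q.comap (algebraMap (Rg E) (RA (h k))) = p := by
    refine (comap_rs_pR (h k) w).trans ?_
    rw [hw, pR, hu, Ideal.comap_comap]
    exact Ideal.comap_id p
  rw [← hq] at hp
  have h0 : (1 : RA (h k)) ⊗ₜ[Rg E] x = 0 := by
    obtain ⟨z, hz⟩ := hm k
    have := congrArg (T.mkQ.lTensor (RA (h k))) hz
    rw [← LinearMap.lTensor_comp_apply, show T.mkQ ∘ₗ T.subtype = 0 from LinearMap.ext fun y =>
      (Submodule.Quotient.mk_eq_zero T).2 y.2, LinearMap.lTensor_zero, LinearMap.zero_apply,
      LinearMap.lTensor_tmul] at this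
    exact this.symm
  refine ‹q.IsPrime›.ne_top ((Ideal.eq_top_iff_one q).2 ((mem_minimalPrimes_tmul (S := RA (h k)) (q := q) hp).1.2 ?_))
  rw [WeakAss.mem_annEl, h0, smul_zero]

theorem finite_of_cover {E : EtOver X} [Aff E] {κ : Type*} [Finite κ] {Ek : κ → EtOver X} (h : ∀ k, Ek k ⟶ E)
    (hA : ∀ k, Aff (Ek k)) (hs : ∀ x : ↥E.obj.left.left, ∃ k, x ∈ Set.range (h k).hom.left.left)
    {N : Type (u + 1)} [AddCommGroup N] [Module (Rg E) N]
    (hfin : ∀ k, Module.Finite (RA (h k)) (RA (h k) ⊗[Rg E] N)) : Module.Finite (Rg E) N := by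
  classical
  have : Fintype κ := Fintype.ofFinite κ
  have hT : ∀ k, ∃ T : Submodule (Rg E) N, T.FG ∧
      ∀ m : N, (1 : RA (h k)) ⊗ₜ[Rg E] m ∈ LinearMap.range (T.subtype.lTensor (RA (h k))) := by
    intro k
    obtain ⟨G, hG⟩ := (hfin k).fg_top
    choose! S hS using fun z : RA (h k) ⊗[Rg E] N => TensorProduct.exists_finset z
    let T : Submodule (Rg E) N := Submodule.span (Rg E) (G.biUnion fun z => (S z).image Prod.snd : Finset N)
    refine ⟨T, ⟨_, rfl⟩, fun m => ?_⟩
    let R' : Submodule (RA (h k)) (RA (h k) ⊗[Rg E] N) :=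
      LinearMap.range (AlgebraTensorModule.map (LinearMap.id : RA (h k) →ₗ[RA (h k)] RA (h k)) T.subtype)
    suffices hR : ∀ z, z ∈ R' by
      obtain ⟨w, hw⟩ := hR ((1 : RA (h k)) ⊗ₜ[Rg E] m)
      exact ⟨w, hw⟩
    intro z
    have hz : z ∈ Submodule.span (RA (h k)) (G : Set (RA (h k) ⊗[Rg E] N)) := hG ▸ Submodule.mem_top
    refine Submodule.span_le.2 ?_ hz
    intro g hg
    rw [SetLike.mem_coe, hS g]
    refine Submodule.sum_mem _ fun i hi => ⟨i.1 ⊗ₜ ⟨i.2, Submodule.subset_span ?_⟩, rfl⟩
    exact Finset.mem_biUnion.2 ⟨g, hg, Finset.mem_image_of_mem _ hi⟩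
  choose T hTfg hT using hT
  refine ⟨?_⟩
  have : (⨆ k, T k) = ⊤ := by
    refine eq_top_iff.2 fun m _ => mem_of_cover h hA hs _ m fun k => ?_
    obtain ⟨w, hw⟩ := hT k m
    refine ⟨(Submodule.inclusion (le_iSup T k)).lTensor _ w, ?_⟩
    rw [← LinearMap.lTensor_comp_apply, Submodule.subtype_comp_inclusion, hw]
  rw [← this]
  exact Submodule.fg_iSup _ hTfg

/-- The comparison map as a linear equivalence over functions upstairs. -/
noncomputable def bcEquiv (h : Good M) {E F : EtOver X} (g : F ⟶ E) (hE : Aff E) (hF : Aff F) :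
    RA g ⊗[Rg E] SA M (𝟙 E) ≃ₗ[RA g] SA M g :=
  LinearEquiv.ofBijective
    { toFun := bc M g, map_add' := map_add (bc M g), map_smul' := bc_smul M g } (h.bij g hE hF)

/-- Sections over an affine object, as a module over its functions. -/
noncomputable def toF {E F : EtOver X} (g : F ⟶ E) : SA M g ≃+ SA M (𝟙 F) := AddEquiv.refl (sectModEt M F)

theorem toF_smul {E F : EtOver X} (g : F ⟶ E) (a : RA g) (x : SA M g) :
    toF g (a • x) = HSMul.hSMul (α := Rg F) (β := SA M (𝟙 F)) a (toF g x) := by
  rw [smul_SA_id]
  rfl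

end Groth.Agent.AlgSpMod
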