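import Groth.Agent.AlgSpMod.PushGlobal
import Groth.Agent.AlgSpMod.Converse
import Groth.Prelude.Def_AlgSpD
import Mathlib.Algebra.Category.ModuleCat.Sheaf.PullbackFree
import Mathlib.CategoryTheory.Functor.Flat
import Mathlib.CategoryTheory.IsConnected

/-!
# Inverse images of quasi-coherent modules are quasi-coherent
-/

set_option backward.isDefEq.respectTransparency false
set_option backward.isDefEq.respectTransparency.types false
set_option maxHeartbeats 1000000

universe u

open CategoryTheory CategoryTheory.Limits AlgebraicGeometry Opposite AlgSp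
open Groth.Agent Groth.Agent.AlgSpLib Groth.Agent.AlgSpDec

namespace Groth.Agent.AlgSpMod

/-! ### Presentations of corepresenting objects -/

section Generic

universe w v₁ v₂ u₁ u₂

variable {C : Type u₁} [Category.{v₁} C] {D : Type u₂} [Category.{v₂} D] {J : GrothendieckTopology C}
  {K : GrothendieckTopology D} {F : C ⥤ D} {R₁ : Sheaf J RingCat.{w}} {R₂ : Sheaf K RingCat.{w}}
  [Functor.IsContinuous F J K] (φ : R₁ ⟶ (F.sheafPushforwardContinuous RingCat.{w} J K).obj R₂)
  [F.Final] [HasSheafify J AddCommGrpCat.{w}] [HasSheafify K AddCommGrpCat.{w}]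
  [J.WEqualsLocallyBijective AddCommGrpCat.{w}] [K.WEqualsLocallyBijective AddCommGrpCat.{w}]

/-- Morphisms out of free modules into a direct image along a final functor. -/
noncomputable def freeEquiv {I : Type w} (P : SheafOfModules.{w} R₂) :
    (SheafOfModules.free I ⟶ P) ≃ (SheafOfModules.free I ⟶ (SheafOfModules.pushforward φ).obj P) :=
  (SheafOfModules.freeHomEquiv P).trans ((Equiv.piCongrRight fun _ =>
    Equiv.ofBijective _ (SheafOfModules.bijective_pushforwardSections φ P)).trans
      (SheafOfModules.freeHomEquiv ((SheafOfModules.pushforward φ).obj P)).symm)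

theorem freeEquiv_comp {I : Type w} {P P' : SheafOfModules.{w} R₂}
    (k : SheafOfModules.free I ⟶ P) (g : P ⟶ P') :
    freeEquiv φ P' (k ≫ g) = freeEquiv φ P k ≫ (SheafOfModules.pushforward φ).map g := by
  simp only [freeEquiv, Equiv.trans_apply]
  rw [SheafOfModules.freeHomEquiv_symm_comp]
  congr 1

theorem freeEquiv_zero {I : Type w} (P : SheafOfModules.{w} R₂) : freeEquiv φ (I := I) P 0 = 0 := by
  rw [show (0 : SheafOfModules.free I ⟶ P) = 0 ≫ (0 : P ⟶ P) from zero_comp.symm, freeEquiv_comp,
    show (SheafOfModules.pushforward φ).map (0 : P ⟶ P) = 0 from rfl, comp_zero]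

theorem nonempty_presentation_of_corepresentableBy {G : SheafOfModules.{w} R₁} (p : G.Presentation)
    {Q : SheafOfModules.{w} R₂}
    (h : (SheafOfModules.pushforward φ ⋙ coyoneda.obj (op G)).CorepresentableBy Q) : Nonempty Q.Presentation := by
  let r : SheafOfModules.free p.relations.I ⟶ SheafOfModules.free p.generators.I :=
    (SheafOfModules.freeHomEquiv _).symm p.relations.s ≫ kernel.ι _
  let ι' : SheafOfModules.free p.generators.I ⟶
      (SheafOfModules.pushforward φ).obj (SheafOfModules.free p.generators.I) := freeEquiv φ _ (𝟙 _)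
  let r' : SheafOfModules.free p.relations.I ⟶ SheafOfModules.free p.generators.I :=
    (freeEquiv φ _).symm (r ≫ ι')
  have hr : ∀ {P : SheafOfModules.{w} R₂} (k : SheafOfModules.free p.generators.I ⟶ P),
      freeEquiv φ P (r' ≫ k) = r ≫ freeEquiv φ P k := fun {P} k => by
    rw [freeEquiv_comp, Equiv.apply_symm_apply, Category.assoc, ← freeEquiv_comp, Category.id_comp]
  have hz : ∀ {P : SheafOfModules.{w} R₂} (k : SheafOfModules.free p.generators.I ⟶ P),
      r' ≫ k = 0 ↔ r ≫ freeEquiv φ P k = 0 := fun {P} k => by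
    rw [← hr k, ← (freeEquiv φ P).apply_eq_iff_eq, freeEquiv_zero]
  have hp := p.isColimit
  have hex : ∀ {P : SheafOfModules.{w} R₂} (k : cokernel r' ⟶ P),
      ∃ m, p.generators.π ≫ m = freeEquiv φ P (cokernel.π r' ≫ k) := fun {P} k =>
    ⟨hp.desc (CokernelCofork.ofπ (freeEquiv φ P (cokernel.π r' ≫ k))
      ((hz _).1 (by rw [cokernel.condition_assoc, zero_comp]))), Cofork.IsColimit.π_desc hp⟩
  choose d hd using @hex
  have hr0 : r ≫ p.generators.π = 0 := by simp [r]
  have hcomp : ∀ {P P' : SheafOfModules.{w} R₂} (g : P ⟶ P') (k : cokernel r' ⟶ P),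
      d (k ≫ g) = d k ≫ (SheafOfModules.pushforward φ).map g := fun {P P'} g k =>
    (cancel_epi p.generators.π).1 (((hd (k ≫ g)).trans ((congrArg (freeEquiv φ P') (Category.assoc _ k g).symm).trans
      (freeEquiv_comp φ _ g))).trans ((congrArg (· ≫ _) (hd k).symm).trans (Category.assoc _ _ _)))
  let c : (SheafOfModules.pushforward φ ⋙ coyoneda.obj (op G)).CorepresentableBy (cokernel r') :=
    { homEquiv := fun {P} =>
        { toFun := fun k => d k
          invFun := fun m => cokernel.desc r' ((freeEquiv φ P).symm (p.generators.π ≫ m))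
            ((hz _).2 (by rw [Equiv.apply_symm_apply, ← Category.assoc, hr0, zero_comp]))
          left_inv := fun k => coequalizer.hom_ext ((cokernel.π_desc _ _ _).trans
            ((Equiv.symm_apply_eq _).2 (hd k)))
          right_inv := fun m => (cancel_epi p.generators.π).1 ((hd _).trans
            ((congrArg (freeEquiv φ P) (cokernel.π_desc _ _ _)).trans (Equiv.apply_symm_apply _ _))) }
      homEquiv_comp := fun {P P'} g k => hcomp g k }
  exact ⟨(SheafOfModules.presentationOfIsCokernelFree r' (cokernel.π r') (cokernel.condition r')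
    (cokernelIsCokernel r')).ofIsIso (c.uniqueUpToIso h).hom⟩

end Generic

variable {S : Scheme.{u}} {X Y : Sp S} {f : X ⟶ Y} (hf : Representable f)

theorem coverPreserving_bc : CoverPreserving (etTop Y) (etTop X) (EtOver.bc hf) where
  cover_preserve {E R} hR := by
    obtain ⟨P, hP, hPR⟩ := (etPre Y).mem_toGrothendieck_iff_of_isStableUnderComposition.1 hR
    obtain ⟨κ, Z, g, rfl⟩ := P.exists_eq_ofArrows
    have h2 := EtOver.etPre_le_comap_bc hf _ hP
    rw [Precoverage.mem_comap_iff, Presieve.map_ofArrows] at h2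
    refine (etTop X).superset_covering ?_ ((etPre X).generate_mem_toGrothendieck h2)
    rw [Sieve.generate_le_iff, Presieve.ofArrows_le_iff]
    exact fun i => Sieve.image_mem_functorPushforward _ _ (hPR _ _ (Presieve.ofArrows.mk i))

theorem bcMap_eq_of {T : EtOver X} {P : EtOver Y} (t t' : T ⟶ EtOver.bcObj hf P)
    (h : t.hom.left ≫ EtOver.bcπ hf P = t'.hom.left ≫ EtOver.bcπ hf P) : t = t' :=
  EtOver.hom_ext _ _ (hf.hom_ext ((EtOver.w t).trans (EtOver.w t').symm) h)

theorem preservesLimit_pair_bc (A B : EtOver Y) : PreservesLimit (pair A B) (EtOver.bc hf) := by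
  refine preservesLimit_of_preserves_limit_cone (EtOver.prodIsLimit A B) ((isLimitMapConeBinaryFanEquiv (EtOver.bc hf) (EtOver.prodFst A B) (EtOver.prodSnd A B)).symm ?_)
  have ex : ∀ {T : EtOver X} (g₁ : T ⟶ EtOver.bcObj hf A) (g₂ : T ⟶ EtOver.bcObj hf B),
      ∃ t : T ⟶ EtOver.bcObj hf (EtOver.prodObj A B),
        t ≫ EtOver.bcMap hf (EtOver.prodFst A B) = g₁ ∧ t ≫ EtOver.bcMap hf (EtOver.prodSnd A B) = g₂ := by
    intro T g₁ g₂
    obtain ⟨P, p₁, p₂, t, h₁, h₂⟩ := exists_bc_pair hf g₁ g₂
    let l := BinaryFan.IsLimit.lift' (EtOver.prodIsLimit A B) p₁ p₂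
    refine ⟨t ≫ EtOver.bcMap hf l.1, ?_, ?_⟩
    · rw [Category.assoc, show EtOver.bcMap hf l.1 ≫ EtOver.bcMap hf (EtOver.prodFst A B) = EtOver.bcMap hf p₁ from
        ((EtOver.bc hf).map_comp _ _).symm.trans (congrArg (EtOver.bc hf).map l.2.1)]
      exact h₁
    · rw [Category.assoc, show EtOver.bcMap hf l.1 ≫ EtOver.bcMap hf (EtOver.prodSnd A B) = EtOver.bcMap hf p₂ from
        ((EtOver.bc hf).map_comp _ _).symm.trans (congrArg (EtOver.bc hf).map l.2.2)]
      exact h₂
  refine BinaryFan.IsLimit.mk _ (fun {T} g₁ g₂ => (ex g₁ g₂).choose) (fun {T} g₁ g₂ => (ex g₁ g₂).choose_spec.1)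
    (fun {T} g₁ g₂ => (ex g₁ g₂).choose_spec.2) fun {T} g₁ g₂ m h₁ h₂ => ?_
  have key : ∀ {Q : EtOver Y} (p : EtOver.prodObj A B ⟶ Q) (a b : T ⟶ EtOver.bcObj hf (EtOver.prodObj A B)),
      a ≫ EtOver.bcMap hf p = b ≫ EtOver.bcMap hf p →
      (a.hom.left ≫ EtOver.bcπ hf _) ≫ p.hom.left = (b.hom.left ≫ EtOver.bcπ hf _) ≫ p.hom.left := by
    intro Q p a b h
    have h' := congrArg (fun k => k.hom.left ≫ EtOver.bcπ hf Q) h
    simp only [Category.assoc] at h' ⊢
    rw [← EtOver.bcMap_snd hf p]
    exact (Category.assoc _ _ _).symm.trans (h'.trans (Category.assoc _ _ _))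
  refine bcMap_eq_of hf _ _ (Functor.relativelyRepresentable.hom_ext' B.property.1 ?_ ?_)
  · exact key (EtOver.prodSnd A B) m _ (h₂.trans (ex g₁ g₂).choose_spec.2.symm)
  · exact key (EtOver.prodFst A B) m _ (h₁.trans (ex g₁ g₂).choose_spec.1.symm)

variable (E : EtOver Y)

theorem isContinuous_post :
    (Over.post (X := E) (EtOver.bc hf)).IsContinuous ((etTop Y).over E) ((etTop X).over ((EtOver.bc hf).obj E)) := by
  haveI : HasFiniteLimits (Over E) := hasFiniteLimits_of_hasTerminal_and_pullbacks
  haveI : PreservesLimitsOfShape WalkingCospan (Over.post (X := E) (EtOver.bc hf)) := by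
    haveI : PreservesLimitsOfShape WalkingCospan
        (Over.post (X := E) (EtOver.bc hf) ⋙ CategoryTheory.Over.forget ((EtOver.bc hf).obj E)) :=
      inferInstanceAs (PreservesLimitsOfShape WalkingCospan (CategoryTheory.Over.forget E ⋙ EtOver.bc hf))
    exact preservesLimitsOfShape_of_reflects_of_preserves _ (CategoryTheory.Over.forget ((EtOver.bc hf).obj E))
  haveI : PreservesLimit (Functor.empty.{0} (Over E)) (Over.post (X := E) (EtOver.bc hf)) :=
    preservesLimit_of_preserves_limit_cone CategoryTheory.Over.mkIdTerminal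
      ((isLimitMapConeEmptyConeEquiv _ _).symm (CategoryTheory.Over.mkIdTerminal.ofIso
        (CategoryTheory.Over.isoMk (f := Over.mk (𝟙 ((EtOver.bc hf).obj E)))
          (g := (Over.post (EtOver.bc hf)).obj (Over.mk (𝟙 E))) (Iso.refl _)
          ((Category.id_comp _).trans ((EtOver.bc hf).map_id E)))))
  haveI : PreservesLimitsOfShape (Discrete PEmpty.{1}) (Over.post (X := E) (EtOver.bc hf)) :=
    preservesLimitsOfShape_pempty_of_preservesTerminal _
  haveI : PreservesFiniteLimits (Over.post (X := E) (EtOver.bc hf)) :=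
    preservesFiniteLimits_of_preservesTerminal_and_pullbacks _
  haveI := flat_of_preservesFiniteLimits (Over.post (X := E) (EtOver.bc hf))
  exact Functor.isContinuous_of_coverPreserving (compatiblePreservingOfFlat _ _)
    ((coverPreserving_bc hf).overPost E)

theorem final_post : (Over.post (X := E) (EtOver.bc hf)).Final := by
  refine ⟨fun P => ?_⟩
  let c : ∀ A : StructuredArrow P (Over.post (X := E) (EtOver.bc hf)),
      A ⟶ StructuredArrow.mk (Y := Over.mk (𝟙 E)) (CategoryTheory.Over.homMk P.hom ((congrArg (P.hom ≫ ·) ((EtOver.bc hf).map_id E)).trans (Category.comp_id _))) := fun A =>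
    StructuredArrow.homMk (CategoryTheory.Over.homMk A.right.hom (Category.comp_id _))
      (CategoryTheory.Over.OverMorphism.ext (CategoryTheory.Over.w A.hom))
  haveI : Nonempty (StructuredArrow P (Over.post (X := E) (EtOver.bc hf))) :=
    ⟨StructuredArrow.mk (Y := Over.mk (𝟙 E)) (CategoryTheory.Over.homMk P.hom ((congrArg (P.hom ≫ ·) ((EtOver.bc hf).map_id E)).trans (Category.comp_id _)))⟩
  exact zigzag_isConnected fun A B => (Zigzag.of_hom (c A)).trans (Zigzag.of_inv (c B))

/-- The map of structure sheaves over an object. -/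
noncomputable def φE :
    haveI := isContinuous_post hf E
    (OEtRing Y).over E ⟶ ((Over.post (X := E) (EtOver.bc hf)).sheafPushforwardContinuous RingCat.{u + 1}
      ((etTop Y).over E) ((etTop X).over ((EtOver.bc hf).obj E))).obj ((OEtRing X).over ((EtOver.bc hf).obj E)) :=
  haveI := isContinuous_post hf E
  ((CategoryTheory.Over.forget E).sheafPushforwardContinuous RingCat.{u + 1} ((etTop Y).over E) (etTop Y)).map
    (bcRingHom hf)

/-- Direct image of modules over an object. -/
noncomputable def pushOver : ModEtOn ((EtOver.bc hf).obj E) ⥤ ModEtOn E :=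
  haveI := isContinuous_post hf E
  SheafOfModules.pushforward.{u + 1} (φE hf E)

/-- The comparison of the two ways to base change a product with an object. -/
noncomputable def starIso : Over.star E ⋙ Over.post (EtOver.bc hf) ≅ EtOver.bc hf ⋙ Over.star ((EtOver.bc hf).obj E) :=
  NatIso.ofComponents (fun V =>
    haveI := preservesLimit_pair_bc hf E V
    CategoryTheory.Over.isoMk (asIso (prodComparison (EtOver.bc hf) E V)) (by
      show prodComparison (EtOver.bc hf) E V ≫ ((Over.star ((EtOver.bc hf).obj E)).obj ((EtOver.bc hf).obj V)).hom =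
        (EtOver.bc hf).map ((Over.star E).obj V).hom
      exact ((congrArg (prodComparison (EtOver.bc hf) E V ≫ ·) ((CategoryTheory.Over.star_obj_hom _ _).trans (prod.lift_fst _ _))).trans
        (prodComparison_fst (EtOver.bc hf) E V)).trans
          (congrArg (EtOver.bc hf).map ((CategoryTheory.Over.star_obj_hom E V).trans (prod.lift_fst _ _)).symm)))
    fun {V W} k => CategoryTheory.Over.OverMorphism.ext (by
      haveI := preservesLimit_pair_bc hf E V
      haveI := preservesLimit_pair_bc hf E W
      show (EtOver.bc hf).map (prod.map (𝟙 E) k) ≫ prodComparison (EtOver.bc hf) E W =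
        prodComparison (EtOver.bc hf) E V ≫ prod.map (𝟙 _) ((EtOver.bc hf).map k)
      refine (prodComparison_natural (EtOver.bc hf) (𝟙 E) k).trans ?_
      exact congrArg (fun a => prodComparison (EtOver.bc hf) E V ≫ prod.map a ((EtOver.bc hf).map k))
        ((EtOver.bc hf).map_id E))

/-- Direct images commute with direct images from objects. -/
noncomputable def pushOnPushIso :
    pushOnModEt ((EtOver.bc hf).obj E) ⋙ pushModEt hf ≅ pushOver hf E ⋙ pushOnModEt E :=
  haveI := isContinuous_post hf E
  haveI : (EtOver.bc hf ⋙ Over.star ((EtOver.bc hf).obj E)).IsContinuous (etTop Y) ((etTop X).over ((EtOver.bc hf).obj E)) :=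
    Functor.isContinuous_comp _ _ _ (etTop X) _
  haveI : (Over.star E ⋙ Over.post (EtOver.bc hf)).IsContinuous (etTop Y) ((etTop X).over ((EtOver.bc hf).obj E)) :=
    Functor.isContinuous_comp _ _ _ ((etTop Y).over E) _
  SheafOfModules.pushforwardComp (bcRingHom hf) (SheafOfModules.pushforwardOver ((EtOver.bc hf).obj E)) ≪≫
    SheafOfModules.pushforwardCongr₂ _ (starIso hf E) (by
      haveI := fun V => preservesLimit_pair_bc hf E V
      ext V : 3
      show ((bcRingHom hf).hom.app V ≫ (OEtRing X).obj.map prod.snd.op) ≫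
          (OEtRing X).obj.map (prodComparison (EtOver.bc hf) E V.unop).op =
        (OEtRing Y).obj.map prod.snd.op ≫ (bcRingHom hf).hom.app (op (E ⨯ V.unop))
      rw [Category.assoc, ← Functor.map_comp, ← op_comp, prodComparison_snd]
      exact ((bcRingHom hf).hom.naturality (prod.snd : E ⨯ V.unop ⟶ V.unop).op).symm) ≪≫
    (SheafOfModules.pushforwardComp (SheafOfModules.pushforwardOver E) (φE hf E)).symm

variable [(SheafOfModules.pushforward.{u + 1} (bcRingHom hf)).IsRightAdjoint]

/-- Morphisms out of a restricted inverse image. -/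
noncomputable def homEquivOver (G : ModEt Y) :
    (pushOver hf E ⋙ coyoneda.obj (op ((resModEt E).obj G))).CorepresentableBy
      ((resModEt ((EtOver.bc hf).obj E)).obj ((pullModEt hf).obj G)) :=
  let adj₁ := (((pullPushAdjModEt hf).comp (resPushAdjEt ((EtOver.bc hf).obj E))).ofNatIsoRight (pushOnPushIso hf E))
  { homEquiv := fun {P} => (adj₁.homEquiv G P).trans ((resPushAdjEt E).homEquiv G ((pushOver hf E).obj P)).symm
    homEquiv_comp := fun {P P'} g k => by
      show ((resPushAdjEt E).homEquiv G _).symm (adj₁.homEquiv G P' (k ≫ g)) =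
        ((resPushAdjEt E).homEquiv G _).symm (adj₁.homEquiv G P k) ≫ (pushOver hf E).map g
      rw [adj₁.homEquiv_naturality_right, ← Adjunction.homEquiv_naturality_right_symm]
      rfl }

/-- A presentation of a restricted inverse image. -/
theorem nonempty_presentation_pull (G : ModEt Y) (p : (G.over E).Presentation) :
    Nonempty (((pullModEt hf).obj G).over ((EtOver.bc hf).obj E)).Presentation :=
  haveI := isContinuous_post hf E
  haveI := final_post hf E
  nonempty_presentation_of_corepresentableBy (φE hf E) p (homEquivOver hf E G)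

theorem isQuasicoherent_pull (hY : IsAlgSpace Y) (G : ModEt Y) [hG : G.IsQuasicoherent] :
    ((pullModEt hf).obj G).IsQuasicoherent := by
  obtain ⟨q⟩ := hG.nonempty_quasicoherentData
  refine SheafOfModules.QuasicoherentData.isQuasicoherent (M := (pullModEt hf).obj G)
    { I := q.I
      X := fun i => (EtOver.bc hf).obj (q.X i)
      coversTop := fun W => ?_
      presentation := fun i => (nonempty_presentation_pull hf (q.X i) G (q.presentation i)).some }
  refine (etTop X).transitive (bcSieve_mem hf hY W) _ fun {T} g hg => ?_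
  obtain ⟨V, ⟨t⟩⟩ := hg
  refine (etTop X).superset_covering ?_
    ((etTop X).pullback_stable t ((coverPreserving_bc hf).cover_preserve (q.coversTop V)))
  intro Z h hh
  obtain ⟨A, a, b, ha, -⟩ := hh
  obtain ⟨i, ⟨v⟩⟩ := (Sieve.mem_ofObjects_iff ..).1 ha
  exact (Sieve.mem_ofObjects_iff ..).2 ⟨i, ⟨b ≫ (EtOver.bc hf).map v⟩⟩

end Groth.Agent.AlgSpMod
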