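import Groth.Agent.AlgSpMod.WeakAssEtale
import Mathlib.RingTheory.Ideal.GoingUp
import Mathlib.RingTheory.Finiteness.ModuleFinitePresentation

/-!
# Weakly associated primes under finite ring maps; restriction of scalars
-/

set_option maxHeartbeats 400000

namespace Groth.Agent.AlgSpMod

open Groth.Agent

universe u

variable {A B : Type u} [CommRing A] [CommRing B] [Algebra A B] {N : Type u} [AddCommGroup N] [Module A N]
  [Module B N] [IsScalarTower A B N]

theorem annEl_comap (s : N) : (WeakAss.annEl B s).comap (algebraMap A B) = WeakAss.annEl A s := by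
  ext a
  rw [Ideal.mem_comap, WeakAss.mem_annEl, WeakAss.mem_annEl, algebraMap_smul]

/-- Weakly associated primes over the smaller ring come from the larger one. -/
theorem exists_weakAss_over {s : N} {p : Ideal A} (hp : p ∈ (WeakAss.annEl A s).minimalPrimes) :
    ∃ q : Ideal B, q ∈ (WeakAss.annEl B s).minimalPrimes ∧ q.comap (algebraMap A B) = p := by
  rw [← annEl_comap (B := B)] at hp
  exact Ideal.exists_minimalPrimes_comap_eq _ p hp

/-- An element of a finite algebra separating one prime over `p` from the others, idempotent up to scalars. -/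
theorem exists_separating [Module.Finite A B] (q : Ideal B) [q.IsPrime] :
    ∃ (ε : B) (c : A), c ∉ q.comap (algebraMap A B) ∧ ε ∉ q ∧
      (∀ Q : Ideal B, Q.IsPrime → Q.comap (algebraMap A B) = q.comap (algebraMap A B) → Q ≠ q → ε ∈ Q) ∧
      ε * ε - algebraMap A B c * ε ∈ (q.comap (algebraMap A B)).map (algebraMap A B) := by
  classical
  set p := q.comap (algebraMap A B) with hp
  have hfin : {Q : Ideal B | Q.IsPrime ∧ Q.comap (algebraMap A B) = p}.Finite := by
    refine (Algebra.QuasiFinite.finite_primesOver (S := B) p).subset fun Q hQ => ⟨hQ.1, ⟨hQ.2.symm⟩⟩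
  -- an element in all the other primes
  let T := hfin.toFinset.erase q
  have hb : ∀ Q ∈ T, ¬ Q ≤ q := by
    intro Q hQ hle
    obtain ⟨hne, hQT⟩ := Finset.mem_erase.1 hQ
    obtain ⟨hQp, hQc⟩ := hfin.mem_toFinset.1 hQT
    haveI := hQp
    exact hne (Algebra.QuasiFinite.eq_of_le_of_under_eq (R := A) Q q hle hQc)
  choose! g hgQ hgq using fun Q (hQ : Q ∈ T) => Set.not_subset.1 (hb Q hQ)
  let b := ∏ Q ∈ T, g Q
  have hbq : b ∉ q := fun h => by
    obtain ⟨Q, hQ, h'⟩ := (Ideal.IsPrime.prod_mem_iff).1 h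
    exact hgq Q hQ h'
  have hbQ : ∀ Q ∈ T, b ∈ Q := fun Q hQ => by
    obtain ⟨k, hk⟩ := Finset.dvd_prod_of_mem g hQ
    show (∏ Q ∈ T, g Q) ∈ Q
    rw [hk]
    exact Q.mul_mem_right _ (hgQ Q hQ)
  -- a relation for `b` modulo `p`
  obtain ⟨P, hPm, hP⟩ := Algebra.IsIntegral.isIntegral (R := A) b
  let π : Polynomial A →+* Polynomial (A ⧸ p) := Polynomial.mapRingHom (Ideal.Quotient.mk p)
  have hne : π P ≠ 0 := (hPm.map _).ne_zero
  let n := (π P).rootMultiplicity 0
  obtain ⟨Qb, hQb, hQb0⟩ := Polynomial.exists_eq_pow_rootMultiplicity_mul_and_not_dvd (π P) hne 0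
  rw [map_zero, sub_zero] at hQb hQb0
  rw [Polynomial.X_dvd_iff] at hQb0
  obtain ⟨Qt, hQt⟩ := Polynomial.map_surjective (Ideal.Quotient.mk p) Ideal.Quotient.mk_surjective Qb
  let c := Qt.coeff 0
  have hc : c ∉ p := fun h => hQb0 (by rw [← hQt, Polynomial.coeff_map]; exact Ideal.Quotient.eq_zero_iff_mem.2 h)
  let r := Polynomial.aeval b Qt.divX
  let J := p.map (algebraMap A B)
  have hJ : (algebraMap A B c + r * b) * b ^ n ∈ J := by
    have h1 : π (P - Polynomial.X ^ n * Qt) = 0 := by
      rw [map_sub, map_mul, map_pow, show π Polynomial.X = Polynomial.X from Polynomial.map_X _,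
        show π Qt = Qb from hQt, sub_eq_zero]
      exact hQb
    have h2 : Polynomial.aeval b (P - Polynomial.X ^ n * Qt) ∈ J := by
      rw [Polynomial.aeval_eq_sum_range]
      refine J.sum_mem fun i _ => ?_
      rw [Algebra.smul_def]
      refine J.mul_mem_right _ (Ideal.mem_map_of_mem _ ?_)
      have := congrArg (fun g => Polynomial.coeff g i) h1
      simp only [π, Polynomial.coe_mapRingHom, Polynomial.coeff_map, Polynomial.coeff_zero] at this
      exact Ideal.Quotient.eq_zero_iff_mem.1 this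
    have h3 : Polynomial.aeval b Qt = algebraMap A B c + r * b := by
      conv_lhs => rw [← Polynomial.X_mul_divX_add Qt]
      rw [map_add, map_mul, Polynomial.aeval_X, Polynomial.aeval_C, add_comm, mul_comm b]
    rw [map_sub, map_mul, map_pow, Polynomial.aeval_X, h3,
      show Polynomial.aeval b P = 0 from hP, zero_sub, neg_mem_iff, mul_comm] at h2
    exact h2
  have hJq : J ≤ q := Ideal.map_le_iff_le_comap.2 le_rfl
  let ε := (-r * b) ^ n
  have hcε : (algebraMap A B c ^ n - ε) * b ^ n ∈ J := by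
    obtain ⟨t, ht⟩ := sub_dvd_pow_sub_pow (algebraMap A B c) (-r * b) n
    show (algebraMap A B c ^ n - (-r * b) ^ n) * b ^ n ∈ J
    rw [ht, show (algebraMap A B c - -r * b) * t * b ^ n = t * ((algebraMap A B c + r * b) * b ^ n) by ring]
    exact J.mul_mem_left _ hJ
  refine ⟨ε, c ^ n, fun h => hc (Ideal.IsPrime.mem_of_pow_mem (Ideal.IsPrime.comap _) n h), fun h => ?_,
    fun Q hQ hQc hne => ?_, ?_⟩
  · have : algebraMap A B c ^ n ∈ q := by
      simpa using q.add_mem (((‹q.IsPrime›.mem_or_mem (hJq hcε)).resolve_right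
        fun h' => hbq (‹q.IsPrime›.mem_of_pow_mem n h'))) h
    exact hc (‹q.IsPrime›.mem_of_pow_mem n this)
  · have hb' : b ∈ Q := hbQ Q (Finset.mem_erase.2 ⟨hne, hfin.mem_toFinset.2 ⟨hQ, hQc⟩⟩)
    have hJQ : J ≤ Q := Ideal.map_le_iff_le_comap.2 hQc.ge
    rcases Nat.eq_zero_or_pos n with h0 | h0
    · refine absurd (?_ : c ∈ p) hc
      rw [h0, pow_zero, mul_one] at hJ
      have h2 := Q.sub_mem (hJQ hJ) (Q.mul_mem_left r hb')
      rw [add_sub_cancel_right] at h2
      exact hQc ▸ h2
    · exact Q.pow_mem_of_mem (Q.mul_mem_left _ hb') n h0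
  · rw [map_pow, show ε * ε - algebraMap A B c ^ n * ε = (-r) ^ n * (-((algebraMap A B c ^ n - ε) * b ^ n)) by
      rw [show ε = (-r) ^ n * b ^ n from mul_pow _ _ _]; ring]
    exact J.mul_mem_left _ (J.neg_mem hcε)

/-- A minimal prime over an annihilator stays one after killing finitely many of its elements. -/
theorem exists_killed {R : Type u} [CommRing R] {M : Type u} [AddCommGroup M] [Module R M] {q : Ideal R} {y : M}
    (hy : q ∈ (WeakAss.annEl R y).minimalPrimes) (T : Finset R) (hT : (T : Set R) ⊆ q) :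
    ∃ y' : M, q ∈ (WeakAss.annEl R y').minimalPrimes ∧ ∀ g ∈ T, g • y' = 0 := by
  classical
  induction T using Finset.induction with
  | empty => exact ⟨y, hy, by simp⟩
  | @insert g T _ ih =>
    rw [Finset.coe_insert, Set.insert_subset_iff] at hT
    obtain ⟨y', hy', hy'T⟩ := ih hT.2
    have hex : ∃ n, ∃ s ∉ q, s * g ^ n ∈ WeakAss.annEl R y' := by
      obtain ⟨s, hs, n, hn⟩ := WeakAss.exists_mul_pow_mem hy' hT.1
      exact ⟨n, s, hs, hn⟩
    obtain ⟨s, hs, hsn⟩ := Nat.find_spec hex
    obtain ⟨k, hk⟩ : ∃ k, Nat.find hex = k + 1 := by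
      refine ⟨Nat.find hex - 1, (Nat.sub_add_cancel (Nat.one_le_iff_ne_zero.2 fun h0 => ?_)).symm⟩
      rw [h0] at hsn
      exact hs (hy'.1.2 (by simpa using hsn))
    have hle : WeakAss.annEl R y' ≤ WeakAss.annEl R ((s * g ^ k) • y') := fun r hr =>
      WeakAss.mem_annEl.2 (by rw [smul_comm, WeakAss.mem_annEl.1 hr, smul_zero])
    have hq' : WeakAss.annEl R ((s * g ^ k) • y') ≤ q := fun r hr => by
      by_contra hrq
      refine Nat.find_min hex (by omega : k < Nat.find hex)
        ⟨r * s, fun h => (hy'.1.1.mem_or_mem h).elim hrq hs, WeakAss.mem_annEl.2 ?_⟩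
      rw [mul_assoc, mul_smul]
      exact WeakAss.mem_annEl.1 hr
    refine ⟨(s * g ^ k) • y', ⟨⟨hy'.1.1, hq'⟩, fun Q hQ hQq =>
      hy'.2 ⟨hQ.1, hle.trans hQ.2⟩ hQq⟩, fun g' hg' => ?_⟩
    rcases Finset.mem_insert.1 hg' with rfl | hg'
    · rw [smul_smul, mul_comm, mul_assoc, ← pow_succ, ← hk]
      exact WeakAss.mem_annEl.1 hsn
    · rw [smul_comm, hy'T g' hg', smul_zero]

/-- Weakly associated primes map to weakly associated primes under finite maps. -/
theorem comap_mem_weakAss_finite [Module.Finite A B] {q : Ideal B} {y : N}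
    (hy : q ∈ (WeakAss.annEl B y).minimalPrimes) : q.comap (algebraMap A B) ∈ FlatCA.weakAss A N := by
  classical
  haveI := hy.1.1
  obtain ⟨ε, C, hC, hεq, hεQ, hεJ⟩ := exists_separating (A := A) q
  obtain ⟨I, ⟨G, hG⟩, hIp, hεI⟩ := exists_fg_le_map (Set.finite_singleton _) (Set.singleton_subset_iff.2 hεJ)
  rw [Set.singleton_subset_iff] at hεI
  obtain ⟨y', hy', hkill⟩ := exists_killed hy (G.image (algebraMap A B)) (by
    rintro _ hx
    obtain ⟨g, hg, rfl⟩ := Finset.mem_image.1 hx
    exact hIp (hG ▸ Submodule.subset_span hg))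
  have hI0 : I.map (algebraMap A B) ≤ WeakAss.annEl B y' := by
    rw [Ideal.map_le_iff_le_comap, ← hG, Ideal.span_le]
    exact fun g hg => WeakAss.mem_annEl.2 (hkill _ (Finset.mem_image_of_mem _ hg))
  let z := ε • y'
  have hzle : WeakAss.annEl B y' ≤ WeakAss.annEl B z := fun r hr =>
    WeakAss.mem_annEl.2 (by rw [smul_comm, WeakAss.mem_annEl.1 hr, smul_zero])
  have hz1 : algebraMap A B C - ε ∈ WeakAss.annEl B z := by
    refine WeakAss.mem_annEl.2 ?_
    rw [smul_smul, show (algebraMap A B C - ε) * ε = -(ε * ε - algebraMap A B C * ε) by ring]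
    exact WeakAss.mem_annEl.1 ((WeakAss.annEl B y').neg_mem (hI0 hεI))
  refine WeakAss.mem_weakAss_iff.2 ⟨z, ⟨Ideal.IsPrime.comap _, fun a ha => ?_⟩, fun P hP hPp => ?_⟩
  · rw [← annEl_comap (B := B)] at ha
    have : algebraMap A B a * ε ∈ q := hy'.1.2 (WeakAss.mem_annEl.2 (by
      rw [mul_smul]; exact WeakAss.mem_annEl.1 ha))
    exact (‹q.IsPrime›.mem_or_mem this).resolve_right hεq
  · haveI := hP.1
    obtain ⟨Q, hzQ, hQ, hQP⟩ := Ideal.exists_ideal_over_prime_of_isIntegral P (WeakAss.annEl B z)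
      (by rw [annEl_comap]; exact hP.2)
    obtain ⟨Q', hQQ', hQ', hQ'p⟩ := Ideal.exists_ideal_over_prime_of_isIntegral (q.comap (algebraMap A B)) Q
      (hQP ▸ hPp)
    have hQ'q : Q' = q := by
      by_contra hne
      refine hC ?_
      have h2 := Q'.add_mem (hQQ' (hzQ hz1)) (hεQ Q' hQ' hQ'p hne)
      rw [sub_add_cancel] at h2
      exact hQ'p ▸ h2
    have hq : q ≤ Q := hy'.2 ⟨hQ, hzle.trans hzQ⟩ (hQ'q ▸ hQQ')
    exact (Ideal.comap_mono hq).trans hQP.le

/-- Finite presentation over a finitely presented finite algebra. -/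
theorem finitePresentation_iff_restrict [Module.Finite A B] [Algebra.FinitePresentation A B] :
    Module.FinitePresentation B N ↔ Module.FinitePresentation A N := by
  have : Module.FinitePresentation A B := Module.FinitePresentation.of_finite_of_finitePresentation A B
  refine ⟨fun h => Module.FinitePresentation.trans A N B, fun h => ?_⟩
  have : Module.Finite B N := Module.Finite.of_restrictScalars_finite A B N
  obtain ⟨n, f, hf⟩ := Module.Finite.exists_fin' B N
  refine Module.finitePresentation_of_surjective f hf ?_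
  have hA : ((LinearMap.ker f).restrictScalars A).FG :=
    Module.FinitePresentation.fg_ker (f.restrictScalars A) hf
  have : Module.Finite A (LinearMap.ker f) := Module.Finite.iff_fg.2 hA
  exact Module.Finite.iff_fg.1 (Module.Finite.of_restrictScalars_finite A B (LinearMap.ker f))

theorem finite_iff_restrict [Module.Finite A B] : Module.Finite B N ↔ Module.Finite A N :=
  ⟨fun _ => Module.Finite.trans B N, fun _ => Module.Finite.of_restrictScalars_finite A B N⟩

end Groth.Agent.AlgSpMod
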