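import Groth.Agent.AlgSpMod.Noeth
import Groth.Agent.AlgSpMod.WeakAssFinite
import Groth.Agent.AlgSpDec.AffineRep
import Groth.Agent.AlgSpLib.EtLocalInst

/-!
# Direct images of quasi-coherent modules along affine morphisms
-/

set_option backward.isDefEq.respectTransparency false
set_option backward.isDefEq.respectTransparency.types false
set_option maxHeartbeats 1000000

universe u

open CategoryTheory CategoryTheory.Limits AlgebraicGeometry Opposite AlgSp TensorProduct
open Groth.Agent Groth.Agent.AlgSpLib Groth.Agent.AlgSpDec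

namespace Groth.Agent.AlgSpMod

variable {S : Scheme.{u}} {X Y : Sp S} {f : X ⟶ Y} (hf : Representable f)

/-- Functions pulled back to the base change of an object. -/
noncomputable def β (E : EtOver Y) : Rg E →+* Rg (EtOver.bcObj hf E) :=
  ((bcRingHom hf).hom.app (op E)).hom

theorem β_apply (E : EtOver Y) (a : Rg E) : (β hf E a).down = (hf.snd E.obj.hom).left.appTop.hom a.down := rfl

theorem β_natural {E F : EtOver Y} (g : F ⟶ E) (r : Rg E) :
    rs (EtOver.bcMap hf g) (β hf E r) = β hf F (rs g r) := by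
  refine ULift.ext _ _ ?_
  have h : (EtOver.bcMap hf g).hom.left.left ≫ (hf.snd E.obj.hom).left =
      (hf.snd F.obj.hom).left ≫ g.hom.left.left := congrArg CommaMorphism.left (EtOver.bcMap_snd hf g)
  rw [rs_apply, β_apply, β_apply, rs_apply]
  exact congr(($(congrArg Scheme.Hom.appTop h)).hom r.down)

/-- Functions on the base change, as an algebra. -/
def RB (E : EtOver Y) : Type (u + 1) := Rg (EtOver.bcObj hf E)

noncomputable instance (E : EtOver Y) : CommRing (RB hf E) := inferInstanceAs (CommRing (Rg (EtOver.bcObj hf E)))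

noncomputable instance (E : EtOver Y) : Algebra (Rg E) (RB hf E) :=
  (show Rg E →+* RB hf E from β hf E).toAlgebra

variable (M : ModEt X)

/-- Sections over the base change. -/
def SB (E : EtOver Y) : Type (u + 1) := SA M (𝟙 (EtOver.bcObj hf E))

noncomputable instance (E : EtOver Y) : AddCommGroup (SB hf M E) :=
  inferInstanceAs (AddCommGroup (SA M (𝟙 (EtOver.bcObj hf E))))

noncomputable instance (E : EtOver Y) : Module (RB hf E) (SB hf M E) :=
  inferInstanceAs (Module (Rg (EtOver.bcObj hf E)) (SA M (𝟙 (EtOver.bcObj hf E))))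

noncomputable instance (E : EtOver Y) : Module (Rg E) (SB hf M E) :=
  Module.compHom (SB hf M E) (algebraMap (Rg E) (RB hf E))

instance (E : EtOver Y) : IsScalarTower (Rg E) (RB hf E) (SB hf M E) :=
  IsScalarTower.of_algebraMap_smul fun _ _ => rfl

/-- Sections of the direct image. -/
noncomputable def eSB (E : EtOver Y) : SA ((pushModEt hf).obj M) (𝟙 E) ≃ₗ[Rg E] SB hf M E :=
  { toFun := fun x => x
    invFun := fun x => x
    left_inv := fun _ => rfl
    right_inv := fun _ => rfl
    map_add' := fun _ _ => rfl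
    map_smul' := fun r x => by
      rw [RingHom.id_apply, smul_SA_id] }

/-- Functions on the base change of an affine object over another one. -/
def RT {E F : EtOver Y} (_g : F ⟶ E) : Type (u + 1) := Rg (EtOver.bcObj hf F)

noncomputable instance {E F : EtOver Y} (g : F ⟶ E) : CommRing (RT hf g) :=
  inferInstanceAs (CommRing (Rg (EtOver.bcObj hf F)))

noncomputable instance {E F : EtOver Y} (g : F ⟶ E) : Algebra (Rg E) (RT hf g) :=
  (show Rg E →+* RT hf g from (β hf F).comp (rs g)).toAlgebra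

/-- The map from the tensor product of functions. -/
noncomputable def mulRB {E F : EtOver Y} (g : F ⟶ E) : RB hf E ⊗[Rg E] RA g →ₐ[Rg E] RT hf g :=
  Algebra.TensorProduct.productMap
    ⟨(show RB hf E →+* RT hf g from rs (EtOver.bcMap hf g)), fun r => β_natural hf g r⟩
    ⟨(show RA g →+* RT hf g from β hf F), fun _ => rfl⟩

theorem mulRB_bijective {E F : EtOver Y} (g : F ⟶ E) [Aff E] [Aff F] (hW : Aff (EtOver.bcObj hf E)) :
    Function.Bijective (mulRB hf g) := by
  let W := EtOver.bcObj hf E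
  let W' := EtOver.bcObj hf F
  let b := EtOver.bcMap hf g
  let A := Γ(E.obj.left.left, ⊤)
  let B₀ := Γ(W.obj.left.left, ⊤)
  let A' := Γ(F.obj.left.left, ⊤)
  let π := (hf.snd E.obj.hom).left
  let π' := (hf.snd F.obj.hom).left
  have := EtOver.etale_left g
  haveI : IsAffine (hf.pullback E.obj.hom).left := hW
  have H := AlgSpDec.isPushout_appTop (EtOver.isPullback_bcMap_left hf g)
  let _ : Algebra A B₀ := π.appTop.hom.toAlgebra
  let _ : Algebra A A' := g.hom.left.left.appTop.hom.toAlgebra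
  let T := RB hf E ⊗[Rg E] RA g
  let up : A →+* Rg E := ULift.ringEquiv.symm.toRingHom
  let upB : B₀ →+* RB hf E := ULift.ringEquiv.symm.toRingHom
  let upF : A' →+* RA g := ULift.ringEquiv.symm.toRingHom
  let _ : Algebra A T := ((algebraMap (Rg E) T).comp up).toAlgebra
  let la : B₀ →ₐ[A] T := ⟨(Algebra.TensorProduct.includeLeft : RB hf E →ₐ[Rg E] T).toRingHom.comp upB, fun a => by
    show (Algebra.TensorProduct.includeLeft : RB hf E →ₐ[Rg E] T) (algebraMap (Rg E) (RB hf E) (up a)) = _
    rw [AlgHom.commutes]; rfl⟩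
  let ra : A' →ₐ[A] T := ⟨(Algebra.TensorProduct.includeRight : RA g →ₐ[Rg E] T).toRingHom.comp upF, fun a => by
    show (Algebra.TensorProduct.includeRight : RA g →ₐ[Rg E] T) (algebraMap (Rg E) (RA g) (up a)) = _
    rw [AlgHom.commutes]; rfl⟩
  let μ : B₀ ⊗[A] A' →ₐ[A] T := Algebra.TensorProduct.productMap la ra
  let i₁ : Γ(W.obj.left.left, ⊤) ⟶ CommRingCat.of (B₀ ⊗[A] A') :=
    CommRingCat.ofHom Algebra.TensorProduct.includeLeftRingHom
  let i₂ : Γ(F.obj.left.left, ⊤) ⟶ CommRingCat.of (B₀ ⊗[A] A') :=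
    CommRingCat.ofHom (Algebra.TensorProduct.includeRight : A' →ₐ[A] B₀ ⊗[A] A').toRingHom
  have hi : π.appTop ≫ i₁ = g.hom.left.left.appTop ≫ i₂ := by
    ext a
    show algebraMap A B₀ a ⊗ₜ[A] (1 : A') = (1 : B₀) ⊗ₜ[A] algebraMap A A' a
    rw [Algebra.algebraMap_eq_smul_one, TensorProduct.smul_tmul, ← Algebra.algebraMap_eq_smul_one]
  let d := H.desc i₁ i₂ hi
  let ψ : RT hf g →+* T := (μ.toRingHom.comp d.hom).comp ULift.ringEquiv.toRingHom
  have hψ₁ : ∀ x : RB hf E, ψ (rs b x) = x ⊗ₜ 1 := fun x => by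
    show μ ((b.hom.left.left.appTop ≫ d).hom x.down) = _
    rw [H.inl_desc]
    show Algebra.TensorProduct.productMap la ra (x.down ⊗ₜ 1) = _
    rw [Algebra.TensorProduct.productMap_apply_tmul, map_one, mul_one]
    rfl
  have hψ₂ : ∀ a : RA g, ψ (β hf F a) = 1 ⊗ₜ a := fun a => by
    show μ ((π'.appTop ≫ d).hom a.down) = _
    rw [H.inr_desc]
    show Algebra.TensorProduct.productMap la ra (1 ⊗ₜ a.down) = _
    rw [Algebra.TensorProduct.productMap_apply_tmul, map_one, one_mul]
    rfl
  constructor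
  · suffices h : ∀ z : RB hf E ⊗[Rg E] RA g, ψ (mulRB hf g z) = z from
      Function.LeftInverse.injective (g := ψ) h
    intro z
    induction z with
    | zero => exact (congrArg ψ (map_zero (mulRB hf g))).trans (map_zero ψ)
    | tmul x a =>
      show ψ (mulRB hf g (x ⊗ₜ a)) = _
      rw [mulRB, Algebra.TensorProduct.productMap_apply_tmul]
      refine (map_mul ψ _ _).trans ?_
      show ψ (rs b x) * ψ (β hf F a) = _
      rw [hψ₁, hψ₂, Algebra.TensorProduct.tmul_mul_tmul, one_mul, mul_one]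
    | add x y hx hy =>
      exact (congrArg ψ (map_add (mulRB hf g) x y)).trans ((map_add ψ _ _).trans (congrArg₂ (· + ·) hx hy))
  · intro w
    let K : Subring Γ(W'.obj.left.left, ⊤) :=
      (mulRB hf g).range.toSubring.comap ULift.ringEquiv.symm.toRingHom
    refine mem_of_isPushout H K (fun x => ?_) (fun a => ?_) w.down
    · refine ⟨(show RB hf E from ⟨x⟩) ⊗ₜ 1, ?_⟩
      show mulRB hf g _ = _
      rw [mulRB, Algebra.TensorProduct.productMap_apply_tmul, map_one, mul_one]; rfl
    · refine ⟨1 ⊗ₜ (show RA g from ⟨a⟩), ?_⟩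
      show mulRB hf g _ = _
      rw [mulRB, Algebra.TensorProduct.productMap_apply_tmul, map_one, one_mul]; rfl

/-- The comparison of base changes of sections upstairs and downstairs. -/
noncomputable def κT {E F : EtOver Y} (g : F ⟶ E) :
    RA g ⊗[Rg E] SA ((pushModEt hf).obj M) (𝟙 E) →+
      RA (EtOver.bcMap hf g) ⊗[Rg (EtOver.bcObj hf E)] SA M (𝟙 (EtOver.bcObj hf E)) :=
  TensorProduct.liftAddHom
    (AddMonoidHom.mk'
      (fun a => AddMonoidHom.mk'
        (fun n => (show RA (EtOver.bcMap hf g) from β hf F a) ⊗ₜ[Rg (EtOver.bcObj hf E)]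
          (show SA M (𝟙 (EtOver.bcObj hf E)) from n))
        (fun x y => tmul_add _ _ _))
      (fun a a' => AddMonoidHom.ext fun n => by
        show (show RA (EtOver.bcMap hf g) from β hf F (a + a')) ⊗ₜ[Rg (EtOver.bcObj hf E)] _ = _
        rw [show (show RA (EtOver.bcMap hf g) from β hf F (a + a')) =
          (show RA (EtOver.bcMap hf g) from β hf F a) + (show RA (EtOver.bcMap hf g) from β hf F a') from
            map_add (β hf F) a a']
        exact add_tmul _ _ _))
    (fun r a n => by
      have e1 : (show RA (EtOver.bcMap hf g) from β hf F (r • a)) =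
          (β hf E r) • (show RA (EtOver.bcMap hf g) from β hf F a) := by
        refine (map_mul (β hf F) (rs g r) a).trans ?_
        exact congrArg (· * _) (β_natural hf g r).symm
      show (show RA (EtOver.bcMap hf g) from β hf F (r • a)) ⊗ₜ[Rg (EtOver.bcObj hf E)] _ = _
      rw [e1, TensorProduct.smul_tmul]
      rfl)

theorem bc_push {E F : EtOver Y} (g : F ⟶ E) (z : RA g ⊗[Rg E] SA ((pushModEt hf).obj M) (𝟙 E)) :
    (bc M (EtOver.bcMap hf g) (κT hf M g z) : sectModEt M (EtOver.bcObj hf F)) =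
      bc ((pushModEt hf).obj M) g z := by
  induction z with
  | zero => simp only [map_zero]
  | tmul a n =>
    refine (bc_tmul M (EtOver.bcMap hf g) _ _).trans ?_
    exact (bc_tmul ((pushModEt hf).obj M) g a n).symm
  | add a b ha hb => simp only [map_add]; exact congrArg₂ (· + ·) ha hb

theorem κT_bijective {E F : EtOver Y} (g : F ⟶ E) [Aff E] [Aff F] (hW : Aff (EtOver.bcObj hf E)) :
    Function.Bijective (κT hf M g) := by
  let W := EtOver.bcObj hf E
  let b := EtOver.bcMap hf g
  let μ := AlgEquiv.ofBijective (mulRB hf g) (mulRB_bijective hf g hW)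
  let σ : SB hf M E ⊗[RB hf E] (RB hf E ⊗[Rg E] RA g) ≃+ SB hf M E ⊗[Rg E] RA g :=
    (AlgebraTensorModule.cancelBaseChange (Rg E) (RB hf E) (RB hf E) (SB hf M E) (RA g)).toAddEquiv
  let c : SB hf M E ⊗[Rg E] RA g ≃ₗ[Rg E] RA g ⊗[Rg E] SA ((pushModEt hf).obj M) (𝟙 E) :=
    (TensorProduct.comm _ _ _).trans ((eSB hf M E).symm.lTensor (RA g))
  let eS : SB hf M E ≃+ SA M (𝟙 W) := AddEquiv.refl (SA M (𝟙 W))
  have hμ : ∀ (r : RB hf E) w, (show RA b from μ (r • w)) = (show Rg W from r) • (show RA b from μ w) := by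
    intro r w
    rw [show r • w = (r ⊗ₜ[Rg E] (1 : RA g)) * w by
      induction w with
      | zero => simp
      | tmul x a => rw [TensorProduct.smul_tmul', Algebra.TensorProduct.tmul_mul_tmul, one_mul, smul_eq_mul]
      | add x y hx hy => rw [smul_add, mul_add, hx, hy]]
    rw [map_mul]
    show (show RA b from mulRB hf g (r ⊗ₜ 1)) * (show RA b from μ w) = _
    rw [mulRB, Algebra.TensorProduct.productMap_apply_tmul, map_one, mul_one]
    rfl
  let ν : SB hf M E ⊗[RB hf E] (RB hf E ⊗[Rg E] RA g) →+ RA b ⊗[Rg W] SA M (𝟙 W) :=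
    TensorProduct.liftAddHom
      (AddMonoidHom.mk' (fun m => AddMonoidHom.mk' (fun w => (show RA b from μ w) ⊗ₜ[Rg W] (eS m))
        (fun x y => (congrArg (fun k : RA b => k ⊗ₜ[Rg W] eS m) (map_add μ x y)).trans (add_tmul _ _ _)))
        fun x y => AddMonoidHom.ext fun w => by
          show _ ⊗ₜ[Rg W] eS (x + y) = _
          rw [map_add, tmul_add]; rfl)
      (fun r m w => by
        show (show RA b from μ w) ⊗ₜ[Rg W] eS (r • m) = (show RA b from μ (r • w)) ⊗ₜ[Rg W] eS m
        rw [hμ, TensorProduct.smul_tmul]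
        rfl)
  let ν' : RA b ⊗[Rg W] SA M (𝟙 W) →+ SB hf M E ⊗[RB hf E] (RB hf E ⊗[Rg E] RA g) :=
    TensorProduct.liftAddHom
      (AddMonoidHom.mk' (fun w => AddMonoidHom.mk' (fun m => (eS.symm m) ⊗ₜ[RB hf E] (μ.symm w))
        (fun x y => (congrArg (fun k => k ⊗ₜ[RB hf E] μ.symm w) (map_add eS.symm x y)).trans (add_tmul _ _ _)))
        fun x y => AddMonoidHom.ext fun m => by
          show _ ⊗ₜ[RB hf E] μ.symm (x + y) = _
          rw [map_add, tmul_add]; rfl)
      (fun r w m => by
        show (eS.symm m) ⊗ₜ[RB hf E] (μ.symm (r • w)) = (eS.symm (r • m)) ⊗ₜ[RB hf E] μ.symm w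
        rw [show eS.symm (r • m) = (show RB hf E from r) • eS.symm m from rfl, TensorProduct.smul_tmul]
        congr 1
        apply μ.injective
        rw [μ.apply_symm_apply]
        exact ((hμ r (μ.symm w)).trans (congrArg (r • ·) (μ.apply_symm_apply w))).symm)
  have hν : Function.Bijective ν := by
    refine Function.bijective_iff_has_inverse.2 ⟨ν', fun z => ?_, fun z => ?_⟩
    · induction z with
      | zero => simp only [map_zero]
      | tmul m w =>
        show (eS.symm (eS m)) ⊗ₜ[RB hf E] μ.symm (μ w) = _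
        rw [μ.symm_apply_apply, eS.symm_apply_apply]
      | add x y hx hy => simp only [map_add, hx, hy]
    · induction z with
      | zero => simp only [map_zero]
      | tmul w m =>
        show (show RA b from μ (μ.symm w)) ⊗ₜ[Rg W] eS (eS.symm m) = _
        rw [μ.apply_symm_apply, eS.apply_symm_apply]
      | add x y hx hy => simp only [map_add, hx, hy]
  have key : ∀ z, κT hf M g (c (σ z)) = ν z := by
    intro z
    induction z with
    | zero => simp only [map_zero]
    | tmul m w =>
      induction w with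
      | zero => rw [tmul_zero]; simp only [map_zero]
      | tmul x a =>
        show (show RA b from β hf F a) ⊗ₜ[Rg W] ((show Rg W from x) • eS m) = (show RA b from μ (x ⊗ₜ a)) ⊗ₜ[Rg W] eS m
        rw [← TensorProduct.smul_tmul]
        congr 1
      | add x y hx hy => simp only [tmul_add, map_add] at hx hy ⊢; rw [hx, hy]
    | add x y hx hy => simp only [map_add, hx, hy]
  have hcσ : Function.Bijective fun z => c (σ z) := c.bijective.comp σ.bijective
  exact (Function.Bijective.of_comp_iff _ hcσ).1 (bijective_congr key hν)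

variable (hA : ∀ E : EtOver Y, Aff E → Aff (EtOver.bcObj hf E))

include hA in
/-- Direct images along affine morphisms of good modules are good. -/
theorem good_push (h : Good M) : Good ((pushModEt hf).obj M) := by
  refine ⟨fun {E F} g hE hF => ?_⟩
  haveI := hE; haveI := hF
  exact bijective_congr (β := sectModEt M (EtOver.bcObj hf F)) (fun z => (bc_push hf M g z).symm)
    ((h.bij _ (hA E hE) (hA F hF)).comp (κT_bijective hf M g (hA E hE)))

theorem aff_bcObj_of_isAffineMor (h : IsAffineMor f) (E : EtOver Y) (hE : Aff E) : Aff (EtOver.bcObj hf E) := by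
  have : IsAffineHom (hf.snd E.obj.hom).left :=
    (repWith_isAffineHom_of_isAffineMor h).property _ _ _ (hf.isPullback E.obj.hom)
  haveI : IsAffine E.obj.left.left := hE
  exact isAffine_of_isAffineHom (hf.snd E.obj.hom).left

theorem isAffineMor_of_isFiniteMor (h : IsFiniteMor f) : IsAffineMor f := fun Z hZ g => by
  obtain ⟨W, i, fst, sq, hW, -⟩ := h hZ g
  exact ⟨W, i, fst, sq, hW⟩

theorem finite_RB (h : IsFiniteMor f) (E : EtOver Y) (hE : Aff E) : Module.Finite (Rg E) (RB hf E) := by
  have : IsFinite (hf.snd E.obj.hom).left :=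
    (isFiniteMor_iff_repWith.1 h).property _ _ _ (hf.isPullback E.obj.hom)
  haveI : IsAffine E.obj.left.left := hE
  have h1 := (hf.snd E.obj.hom).left.finite_appTop
  have h2 : (β hf E).Finite := by
    have e : β hf E = ((ULift.ringEquiv (R := Γ((hf.pullback E.obj.hom).left, ⊤))).symm.toRingHom.comp
        (hf.snd E.obj.hom).left.appTop.hom).comp (ULift.ringEquiv (R := Γ(E.obj.left.left, ⊤))).toRingHom :=
      RingHom.ext fun a => rfl
    rw [e]
    exact ((RingHom.Finite.of_surjective _ (ULift.ringEquiv (R := Γ((hf.pullback E.obj.hom).left, ⊤))).symm.surjective).comp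
      h1).comp (RingHom.Finite.of_surjective _ (ULift.ringEquiv (R := Γ(E.obj.left.left, ⊤))).surjective)
  exact h2

theorem finitePresentation_RB (hY : IsAlgSpace Y) (h : IsFinitePresentationMor f) (hfin : IsFiniteMor f) (E : EtOver Y) (hE : Aff E) :
    Algebra.FinitePresentation (Rg E) (RB hf E) := by
  have hl : RepWith @LocallyOfFinitePresentation f := repWith_of_locP hY hf h.1
  have : LocallyOfFinitePresentation (hf.snd E.obj.hom).left := hl.property _ _ _ (hf.isPullback E.obj.hom)
  haveI : IsAffine E.obj.left.left := hE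
  haveI : IsAffine (hf.pullback E.obj.hom).left :=
    aff_bcObj_of_isAffineMor hf (isAffineMor_of_isFiniteMor hfin) E hE
  have h1 : (hf.snd E.obj.hom).left.appTop.hom.FinitePresentation :=
    HasRingHomProperty.appTop (P := @LocallyOfFinitePresentation) _ inferInstance
  let eW := ULift.ringEquiv (R := Γ((hf.pullback E.obj.hom).left, ⊤))
  let eE := ULift.ringEquiv (R := Γ(E.obj.left.left, ⊤))
  have h2 : (β hf E).FinitePresentation := by
    have e : β hf E = (eW.symm.toRingHom.comp (hf.snd E.obj.hom).left.appTop.hom).comp eE.toRingHom :=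
      RingHom.ext fun a => rfl
    rw [e]
    exact ((RingHom.FinitePresentation.of_bijective eW.symm.bijective).comp h1).comp
      (RingHom.FinitePresentation.of_bijective eE.bijective)
  exact h2

theorem exists_pR_eq (E : EtOver X) [IsAffine E.obj.left.left] (p : Ideal (Rg E)) [p.IsPrime] :
    ∃ u : ↥E.obj.left.left, pR E u = p := by
  let d : Rg E →+* Γ(E.obj.left.left, ⊤) := (ULift.ringEquiv (R := Γ(E.obj.left.left, ⊤))).toRingHom
  let e : Γ(E.obj.left.left, ⊤) →+* Rg E := (ULift.ringEquiv (R := Γ(E.obj.left.left, ⊤))).symm.toRingHom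
  obtain ⟨u, hu⟩ := WeakAssEmpty.exists_primeAtPt_eq (p.comap e)
  refine ⟨u, ?_⟩
  show Ideal.comap d _ = p
  rw [hu, Ideal.comap_comap]
  exact Ideal.comap_id p

theorem comap_β_pR (E : EtOver Y) (w : ↥(EtOver.bcObj hf E).obj.left.left) :
    (pR (EtOver.bcObj hf E) w).comap (β hf E) = pR E ((hf.snd E.obj.hom).left w) := by
  rw [pR, pR, Ideal.comap_comap, ← comap_appTop_primeAtPt (hf.snd E.obj.hom).left w, Ideal.comap_comap]
  exact congrArg (fun k : Rg E →+* Γ((EtOver.bcObj hf E).obj.left.left, ⊤) =>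
    (primeAtPt (EtOver.bcObj hf E).obj.left.left w).comap k) (RingHom.ext fun a => rfl)

theorem map_ofPt_bcObj (E : EtOver Y) (w : ↥(EtOver.bcObj hf E).obj.left.left) :
    Points.map f (Points.ofPt (EtOver.bcObj hf E).obj.hom w) = Points.ofPt E.obj.hom ((hf.snd E.obj.hom).left w) := by
  rw [Points.map_ofPt]
  refine (congrArg (fun k => Points.ofPt k w) (hf.w E.obj.hom)).trans ?_
  exact ofPt_comp _ _ _

theorem exists_bcObj_point (E : EtOver Y) (x : Points X) (u : ↥E.obj.left.left)
    (hu : Points.ofPt E.obj.hom u = Points.map f x) :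
    ∃ w : ↥(EtOver.bcObj hf E).obj.left.left,
      Points.ofPt (EtOver.bcObj hf E).obj.hom w = x ∧ (hf.snd E.obj.hom).left w = u := by
  rw [Points.ofPt_eq_map_ofScheme] at hu
  obtain ⟨z, hz₁, hz₂⟩ := exists_point_of_isPullback (EtOver.isPullback_bcObj hf E) hu.symm
  let W := (EtOver.bcObj hf E).obj.left
  refine ⟨Points.toScheme W z, ?_, ?_⟩
  · rw [Points.ofPt_eq_map_ofScheme, Points.ofScheme_toScheme, hz₁]
  · rw [← Points.ofScheme_toScheme W z, Points.map_ofPt, Category.id_comp] at hz₂
    exact ((Points.toScheme_ofPt _ _).symm.trans (congrArg (Points.toScheme E.obj.left) hz₂)).trans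
      (Points.toScheme_ofScheme _ _)

include hA in
theorem weakAss_push_subset [M.IsQuasicoherent] :
    WeakAssEt ((pushModEt hf).obj M) ⊆ Points.map f '' WeakAssEt M := by
  rintro y ⟨E, hE, u, hu, hw⟩
  obtain ⟨s, hs⟩ := (isWeakAssOn_iff _ E u).1 hw
  haveI : IsAffine (EtOver.bcObj hf E).obj.left.left := hA E hE
  have hs' : pR E u ∈ (WeakAss.annEl (Rg E) (eSB hf M E s)).minimalPrimes := by
    have e : WeakAss.annEl (Rg E) (eSB hf M E s) = WeakAss.annEl (Rg E) s :=
      WeakAss.annEl_map_of_injective (eSB hf M E).toLinearMap (eSB hf M E).injective s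
    rw [e]; exact hs
  obtain ⟨q, hq, hqp⟩ := exists_weakAss_over (B := RB hf E) hs'
  haveI := hq.1.1
  obtain ⟨w, rfl⟩ := exists_pR_eq (EtOver.bcObj hf E) (show Ideal (Rg (EtOver.bcObj hf E)) from q)
  refine ⟨_, ⟨EtOver.bcObj hf E, hA E hE, w, rfl, (isWeakAssOn_iff M _ w).2 ⟨_, hq⟩⟩, ?_⟩
  rw [map_ofPt_bcObj, ← hu]
  exact congrArg _ (pR_injective E ((comap_β_pR hf E w).symm.trans hqp))

include hA in
theorem weakAss_push_eq [M.IsQuasicoherent] (hY : IsAlgSpace Y)
    (hfin : ∀ E : EtOver Y, Aff E → Module.Finite (Rg E) (RB hf E)) :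
    WeakAssEt ((pushModEt hf).obj M) = Points.map f '' WeakAssEt M := by
  refine (weakAss_push_subset hf M hA).antisymm ?_
  rintro _ ⟨x, hx, rfl⟩
  obtain ⟨E, hE, u, hu⟩ := exists_affine_chart_point hY (Points.map f x)
  obtain ⟨w, hwx, hwu⟩ := exists_bcObj_point hf E x u hu
  haveI : IsAffine (EtOver.bcObj hf E).obj.left.left := hA E hE
  obtain ⟨t, ht⟩ := (isWeakAssOn_iff M _ w).1 (isWeakAssOn_of_mem M hx _ w hwx)
  have := hfin E hE
  obtain ⟨s, hs⟩ := comap_mem_weakAss_finite (A := Rg E) (B := RB hf E) (N := SB hf M E) (y := t)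
    (q := (show Ideal (RB hf E) from pR (EtOver.bcObj hf E) w)) ht
  refine ⟨E, hE, u, hu, (isWeakAssOn_iff _ E u).2 ⟨(eSB hf M E).symm s, ?_⟩⟩
  have e : WeakAss.annEl (Rg E) ((eSB hf M E).symm s) = WeakAss.annEl (Rg E) s :=
    WeakAss.annEl_map_of_injective (eSB hf M E).symm.toLinearMap (eSB hf M E).symm.injective s
  rw [e, ← hwu, ← comap_β_pR hf E w]
  exact hs

end Groth.Agent.AlgSpMod

namespace Groth.Agent.AlgSpMod

variable {S : Scheme.{u}} {X Y : Sp S} {f : X ⟶ Y} (hf : Representable f) (M : ModEt X)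

theorem finite_of_bc_iso (h : Good M) {E F : EtOver X} (g : F ⟶ E) (hE : Aff E) (hF : Aff F)
    [Module.Finite (Rg E) (SA M (𝟙 E))] : Module.Finite (Rg F) (SA M (𝟙 F)) := by
  letI : Module (RA g) (SA M (𝟙 F)) := Module.compHom (SA M (𝟙 F)) (show RA g →+* Rg F from RingHom.id _)
  let e : SA M g ≃ₗ[RA g] SA M (𝟙 F) := { toF g with map_smul' := toF_smul g }
  have : Module.Finite (RA g) (SA M (𝟙 F)) := Module.Finite.equiv ((bcEquiv h g hE hF).trans e)
  exact this

theorem fp_of_bc_iso (h : Good M) {E F : EtOver X} (g : F ⟶ E) (hE : Aff E) (hF : Aff F)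
    [Module.FinitePresentation (Rg E) (SA M (𝟙 E))] : Module.FinitePresentation (Rg F) (SA M (𝟙 F)) := by
  letI : Module (RA g) (SA M (𝟙 F)) := Module.compHom (SA M (𝟙 F)) (show RA g →+* Rg F from RingHom.id _)
  let e : SA M g ≃ₗ[RA g] SA M (𝟙 F) := { toF g with map_smul' := toF_smul g }
  have : Module.FinitePresentation (RA g) (SA M (𝟙 F)) :=
    Module.FinitePresentation.of_equiv ((bcEquiv h g hE hF).trans e)
  exact this

/-- Affine objects are covered by finitely many affine objects over pulled back charts. -/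
theorem exists_cover_bcObj (hY : IsAlgSpace Y) (hA : ∀ E : EtOver Y, Aff E → Aff (EtOver.bcObj hf E))
    (U : EtOver X) [Aff U] : ∃ (κ : Type (u + 1)) (_ : Finite κ) (E : κ → EtOver Y) (F : κ → EtOver X)
      (g₁ : ∀ k, F k ⟶ U) (_ : ∀ k, F k ⟶ EtOver.bcObj hf (E k)),
      (∀ k, Aff (E k)) ∧ (∀ k, Aff (F k)) ∧
      ∀ x : ↥U.obj.left.left, ∃ k, x ∈ Set.range (g₁ k).hom.left.left := by
  have key : ∀ v : ↥U.obj.left.left, ∃ (E : EtOver Y) (F : EtOver X) (g₁ : F ⟶ U) (_ : F ⟶ EtOver.bcObj hf E),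
      Aff E ∧ Aff F ∧ v ∈ Set.range g₁.hom.left.left := fun v => by
    obtain ⟨E, hE, u', hu'⟩ := exists_affine_chart_point hY (Points.map f (Points.ofPt U.obj.hom v))
    obtain ⟨w, hw, -⟩ := exists_bcObj_point hf E _ u' hu'
    haveI := hA E hE
    obtain ⟨F, g₁, g₂, z, hF, hz, -⟩ := exists_common_affine v w hw.symm
    exact ⟨E, F, g₁, g₂, hE, hF, z, hz⟩
  choose E F g₁ g₂ hE hF hv using key
  haveI : IsAffine U.obj.left.left := ‹Aff U›
  obtain ⟨t, ht⟩ := isCompact_univ.elim_finite_subcover (fun v => Set.range (g₁ v).hom.left.left)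
    (fun v => by
      have := EtOver.etale_left (g₁ v)
      exact (g₁ v).hom.left.left.isOpenMap.isOpen_range)
    (fun x _ => Set.mem_iUnion.2 ⟨x, hv x⟩)
  refine ⟨ULift.{u + 1} {v // v ∈ t}, inferInstance, fun k => E k.down.1, fun k => F k.down.1,
    fun k => g₁ k.down.1, fun k => g₂ k.down.1, fun k => hE _, fun k => hF _, fun x => ?_⟩
  obtain ⟨v, hvt, hx⟩ := Set.mem_iUnion₂.1 (ht (Set.mem_univ x))
  exact ⟨⟨⟨v, hvt⟩⟩, hx⟩

theorem finite_of_bcObj [M.IsQuasicoherent] (hY : IsAlgSpace Y) (hA : ∀ E : EtOver Y, Aff E → Aff (EtOver.bcObj hf E))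
    (h : ∀ E : EtOver Y, Aff E → Module.Finite (Rg (EtOver.bcObj hf E)) (SA M (𝟙 (EtOver.bcObj hf E))))
    (U : EtOver X) (hU : Aff U) : Module.Finite (Rg U) (SA M (𝟙 U)) := by
  obtain ⟨κ, _, E, F, g₁, g₂, hE, hF, hs⟩ := exists_cover_bcObj hf hY hA U
  refine finite_of_cover g₁ hF hs fun k => ?_
  have := h (E k) (hE k)
  have := finite_of_bc_iso M (good_of_qcoh M) (g₂ k) (hA _ (hE k)) (hF k)
  exact finite_bc (g₁ k) hU (hF k)

theorem fp_of_bcObj [M.IsQuasicoherent] (hY : IsAlgSpace Y) (hA : ∀ E : EtOver Y, Aff E → Aff (EtOver.bcObj hf E))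
    (h : ∀ E : EtOver Y, Aff E →
      Module.FinitePresentation (Rg (EtOver.bcObj hf E)) (SA M (𝟙 (EtOver.bcObj hf E))))
    (U : EtOver X) (hU : Aff U) : Module.FinitePresentation (Rg U) (SA M (𝟙 U)) := by
  obtain ⟨κ, _, E, F, g₁, g₂, hE, hF, hs⟩ := exists_cover_bcObj hf hY hA U
  refine finitePresentation_of_cover g₁ hF hs fun k => ?_
  have := h (E k) (hE k)
  exact finitePresentation_bc (g₁ k) hU (hF k) (fp_of_bc_iso M (good_of_qcoh M) (g₂ k) (hA _ (hE k)) (hF k))

theorem finite_push_iff (hY : IsAlgSpace Y) (h : IsFiniteMor f) [M.IsQuasicoherent] :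
    M.IsFiniteType ↔ ((pushModEt hf).obj M).IsFiniteType := by
  have hA : ∀ E : EtOver Y, Aff E → Aff (EtOver.bcObj hf E) :=
    aff_bcObj_of_isAffineMor hf (isAffineMor_of_isFiniteMor h)
  haveI : ((pushModEt hf).obj M).IsQuasicoherent := (good_push hf M hA (good_of_qcoh M)).isQuasicoherent
  rw [isFiniteType_iff, isFiniteType_iff]
  constructor
  · intro hM E hE
    have := finite_RB hf h E hE
    have : Module.Finite (RB hf E) (SB hf M E) := hM (EtOver.bcObj hf E) (hA E hE)
    have : Module.Finite (Rg E) (SB hf M E) := (finite_iff_restrict (A := Rg E) (B := RB hf E)).1 this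
    exact Module.Finite.equiv (eSB hf M E).symm
  · intro hP
    refine finite_of_bcObj hf M hY hA fun E hE => ?_
    have := finite_RB hf h E hE
    have := hP E hE
    have h2 : Module.Finite (Rg E) (SB hf M E) := Module.Finite.equiv (eSB hf M E)
    exact (finite_iff_restrict (A := Rg E) (B := RB hf E) (N := SB hf M E)).2 h2

theorem fp_push_iff (hY : IsAlgSpace Y) (h : IsFiniteMor f) (hfp : IsFinitePresentationMor f) [M.IsQuasicoherent] :
    M.IsFinitePresentation ↔ ((pushModEt hf).obj M).IsFinitePresentation := by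
  have hA : ∀ E : EtOver Y, Aff E → Aff (EtOver.bcObj hf E) :=
    aff_bcObj_of_isAffineMor hf (isAffineMor_of_isFiniteMor h)
  haveI : ((pushModEt hf).obj M).IsQuasicoherent := (good_push hf M hA (good_of_qcoh M)).isQuasicoherent
  rw [isFinitePresentation_iff, isFinitePresentation_iff]
  constructor
  · intro hM E hE
    have := finite_RB hf h E hE
    have := finitePresentation_RB hf hY hfp h E hE
    have : Module.FinitePresentation (RB hf E) (SB hf M E) := hM (EtOver.bcObj hf E) (hA E hE)
    have : Module.FinitePresentation (Rg E) (SB hf M E) :=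
      (finitePresentation_iff_restrict (A := Rg E) (B := RB hf E)).1 this
    exact Module.FinitePresentation.of_equiv (eSB hf M E).symm
  · intro hP
    refine fp_of_bcObj hf M hY hA fun E hE => ?_
    have := finite_RB hf h E hE
    have := finitePresentation_RB hf hY hfp h E hE
    have := hP E hE
    have h2 : Module.FinitePresentation (Rg E) (SB hf M E) := Module.FinitePresentation.of_equiv (eSB hf M E)
    exact (finitePresentation_iff_restrict (A := Rg E) (B := RB hf E) (N := SB hf M E)).2 h2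

theorem finitePresentation_push (hY : IsLocNoethSp Y) (h : IsFiniteMor f) [M.IsFinitePresentation] :
    ((pushModEt hf).obj M).IsFinitePresentation := by
  have hA : ∀ E : EtOver Y, Aff E → Aff (EtOver.bcObj hf E) :=
    aff_bcObj_of_isAffineMor hf (isAffineMor_of_isFiniteMor h)
  refine isFinitePresentation_of_finite hY (good_push hf M hA (good_of_fp M)) fun E hE => ?_
  have := finite_RB hf h E hE
  have : Module.Finite (RB hf E) (SB hf M E) := finite_of_fp (M := M) (EtOver.bcObj hf E) (hA E hE)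
  have : Module.Finite (Rg E) (SB hf M E) := (finite_iff_restrict (A := Rg E) (B := RB hf E)).1 this
  exact Module.Finite.equiv (eSB hf M E).symm

end Groth.Agent.AlgSpMod
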