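import Groth.Agent.AlgSpMod.AffineCech
import Groth.Agent.AlgSpMod.Converse
import Groth.Agent.EtLC12.AmitsurMod

/-!
# Quasi-coherent modules have no higher cohomology on affine objects
-/

set_option backward.isDefEq.respectTransparency false
set_option backward.isDefEq.respectTransparency.types false
set_option maxHeartbeats 1000000

universe u

open CategoryTheory CategoryTheory.Limits AlgebraicGeometry Opposite AlgSp TensorProduct
open Groth.Agent Groth.Agent.AlgSpLib Groth.Agent.AlgSpDec Groth.Agent.EtFound Groth.Agent.DescLib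
open Groth.Agent.EtLC12

namespace Groth.Agent.AlgSpMod

variable {S : Scheme.{u}} {X : Sp S} {U : EtOver X} [HasFiniteProducts (Over U)] (Y : Over U)

/-- The powers of a covering object. -/
noncomputable abbrev pwY (n : ℕ) : Over U := ∏ᶜ fun _ : Fin (n + 1) => Y

/-- Functions on the covering. -/
abbrev AY : Type (u + 1) := RA Y.hom

/-- Pullback of functions along a projection. -/
noncomputable def ev (n : ℕ) (k : Fin (n + 1)) : AY Y →ₐ[Rg U] RA (pwY Y n).hom :=
  ⟨(show RA Y.hom →+* RA (pwY Y n).hom from rs (Pi.π (fun _ : Fin (n + 1) => Y) k).left), fun r => by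
    show rs (Pi.π (fun _ : Fin (n + 1) => Y) k).left (rs Y.hom r) = rs (pwY Y n).hom r
    rw [rs_comp, Over.w]⟩

/-- Functions on a power from the tensor power of functions. -/
noncomputable def Φ (n : ℕ) : AmitsurAll.T (Rg U) (AY Y) n →ₐ[Rg U] RA (pwY Y n).hom :=
  AmitsurAll.lift fun k => ev Y n k

theorem Φ_incl (n : ℕ) (k : Fin (n + 1)) (a : AY Y) :
    Φ Y n (AmitsurAll.incl (Rg U) (AY Y) n k a) = ev Y n k a :=
  AmitsurAll.lift_incl _ _ _

theorem Φ_succ_tmul (n : ℕ) (a : AY Y) (t : AmitsurAll.T (Rg U) (AY Y) n) :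
    Φ Y (n + 1) (a ⊗ₜ[Rg U] t) = ev Y (n + 1) 0 a *
      (show RA (pwY Y (n + 1)).hom from
        rs (Pi.lift (fun k => Pi.π (fun _ : Fin (n + 2) => Y) k.succ) : pwY Y (n + 1) ⟶ pwY Y n).left (Φ Y n t)) := by
  let p : pwY Y (n + 1) ⟶ pwY Y n := Pi.lift fun k => Pi.π (fun _ : Fin (n + 2) => Y) k.succ
  let ψ : RA (pwY Y n).hom →ₐ[Rg U] RA (pwY Y (n + 1)).hom :=
    ⟨(show RA (pwY Y n).hom →+* RA (pwY Y (n + 1)).hom from rs p.left), fun r => by
      show rs p.left (rs (pwY Y n).hom r) = rs (pwY Y (n + 1)).hom r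
      rw [rs_comp, Over.w]⟩
  have e : ψ.comp (Φ Y n) = AmitsurAll.lift fun k => ev Y (n + 1) k.succ := by
    refine AmitsurAll.hom_ext fun k b => ?_
    rw [AlgHom.comp_apply, Φ_incl, AmitsurAll.lift_incl]
    show rs p.left (rs (Pi.π (fun _ : Fin (n + 1) => Y) k).left b) = rs (Pi.π (fun _ : Fin (n + 2) => Y) k.succ).left b
    rw [rs_comp, ← Over.comp_left, Pi.lift_π]
  show Algebra.TensorProduct.lift (ev Y (n + 1) 0) (AmitsurAll.lift fun k => ev Y (n + 1) k.succ) (fun _ _ => Commute.all _ _) (a ⊗ₜ t) = _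
  rw [Algebra.TensorProduct.lift_tmul, ← e]
  rfl

theorem Φ_bijective (hU : Aff U) (hY : Aff Y.left) : ∀ n, Function.Bijective (Φ Y n) := by
  intro n
  induction n with
  | zero =>
    haveI : IsIso (Pi.π (fun _ : Fin 1 => Y) 0) := by
      refine ⟨Pi.lift fun _ => 𝟙 Y, ?_, Pi.lift_π _ _⟩
      refine Pi.hom_ext _ _ fun k => ?_
      obtain rfl := Fin.fin_one_eq_zero k
      rw [Category.assoc, Pi.lift_π, Category.comp_id, Category.id_comp]
    haveI : IsIso (Pi.π (fun _ : Fin 1 => Y) 0).left :=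
      inferInstanceAs (IsIso ((CategoryTheory.Over.forget U).map (Pi.π (fun _ : Fin 1 => Y) 0)))
    exact ConcreteCategory.bijective_of_isIso ((OEt X).obj.map (Pi.π (fun _ : Fin 1 => Y) 0).left.op)
  | succ n ih =>
    haveI := hU
    haveI := hY
    haveI : Aff (pwY Y n).left := aff_pi hU n (fun _ => Y) fun _ => hY
    let P := EtOver.pullbackObj Y.hom (pwY Y n).hom
    let fst := EtOver.pullbackFst Y.hom (pwY Y n).hom
    let snd := EtOver.pullbackSnd Y.hom (pwY Y n).hom
    let Zp : Over U := Over.mk (fst ≫ Y.hom)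
    let qf : Zp ⟶ Y := Over.homMk fst
    let qs : Zp ⟶ pwY Y n := Over.homMk snd (EtOver.pullback_condition _ _).symm
    let inv' : Zp ⟶ pwY Y (n + 1) := Pi.lift (Fin.cases qf fun k => qs ≫ Pi.π (fun _ : Fin (n + 1) => Y) k)
    let p : pwY Y (n + 1) ⟶ pwY Y n := Pi.lift fun k => Pi.π (fun _ : Fin (n + 2) => Y) k.succ
    let j₀ : (pwY Y (n + 1)).left ⟶ P := (EtOver.isPullback Y.hom (pwY Y n).hom).lift
      (Pi.π (fun _ : Fin (n + 2) => Y) 0).left p.left ((Over.w _).trans (Over.w p).symm)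
    have hj₁ : j₀ ≫ fst = (Pi.π (fun _ : Fin (n + 2) => Y) 0).left := (EtOver.isPullback _ _).lift_fst _ _ _
    have hj₂ : j₀ ≫ snd = p.left := (EtOver.isPullback _ _).lift_snd _ _ _
    let j : pwY Y (n + 1) ⟶ Zp := Over.homMk j₀ (by
      show j₀ ≫ fst ≫ Y.hom = _
      rw [← Category.assoc, hj₁, Over.w])
    haveI : IsIso j := by
      refine ⟨inv', Pi.hom_ext _ _ fun k => ?_, ?_⟩
      · rw [Category.assoc, Pi.lift_π, Category.id_comp]
        induction k using Fin.cases with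
        | zero => exact Over.OverMorphism.ext hj₁
        | succ k =>
          show j ≫ qs ≫ _ = _
          rw [← Category.assoc, show j ≫ qs = p from Over.OverMorphism.ext hj₂, Pi.lift_π]
      · refine Over.OverMorphism.ext ((EtOver.isPullback _ _).hom_ext ?_ ?_)
        · show (inv' ≫ j).left ≫ fst = 𝟙 _ ≫ fst
          rw [Over.comp_left, Category.assoc, show j.left = j₀ from rfl, hj₁, ← Over.comp_left, Pi.lift_π,
            Category.id_comp]
          rfl
        · show (inv' ≫ j).left ≫ snd = 𝟙 _ ≫ snd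
          rw [Over.comp_left, Category.assoc, show j.left = j₀ from rfl, hj₂, ← Over.comp_left, Category.id_comp]
          refine congrArg CommaMorphism.left (show inv' ≫ p = qs from Pi.hom_ext _ _ fun k => ?_)
          rw [Category.assoc, Pi.lift_π, Pi.lift_π]
          rfl
    haveI : IsIso j.left := inferInstanceAs (IsIso ((CategoryTheory.Over.forget U).map j))
    have hb1 : Function.Bijective (Algebra.TensorProduct.map (AlgHom.id (Rg U) (AY Y)) (Φ Y n)) :=
      (TensorProduct.congr (LinearEquiv.refl (Rg U) (AY Y))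
        (LinearEquiv.ofBijective (Φ Y n).toLinearMap ih)).bijective
    have hb2 : Function.Bijective (mulRA Y.hom (pwY Y n).hom) := mulRA_bijective _ _
    have hb3 : Function.Bijective (rs j.left) :=
      ConcreteCategory.bijective_of_isIso ((OEt X).obj.map j.left.op)
    let Θ : AY Y ⊗[Rg U] AmitsurAll.T (Rg U) (AY Y) n → RA (pwY Y (n + 1)).hom := fun z =>
      rs j.left (mulRA Y.hom (pwY Y n).hom (Algebra.TensorProduct.map (AlgHom.id (Rg U) (AY Y)) (Φ Y n) z))
    refine bijective_congr (f := fun z => Φ Y (n + 1) z) (g := Θ) (fun z => ?_) (hb3.comp (hb2.comp hb1))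
    revert z
    suffices h : ∀ z : AY Y ⊗[Rg U] AmitsurAll.T (Rg U) (AY Y) n, Φ Y (n + 1) z = Θ z from fun z => h z
    intro z
    induction z with
    | zero => exact (map_zero (Φ Y (n + 1))).trans (by simp only [Θ, map_zero])
    | tmul a t =>
      rw [Φ_succ_tmul]
      show _ = rs j.left (mulRA Y.hom (pwY Y n).hom
        (Algebra.TensorProduct.map (AlgHom.id (Rg U) (AY Y)) (Φ Y n) (a ⊗ₜ t)))
      rw [Algebra.TensorProduct.map_tmul, mulRA, Algebra.TensorProduct.productMap_apply_tmul]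
      refine Eq.trans ?_ (map_mul (rs j.left) _ _).symm
      show rs (Pi.π (fun _ : Fin (n + 2) => Y) 0).left a * rs p.left (Φ Y n t) =
        rs j.left (rs fst a) * rs j.left (rs snd (Φ Y n t))
      exact congrArg₂ (· * ·) ((congrArg (fun m => rs m a) hj₁.symm).trans (rs_comp fst j₀ a).symm)
        ((congrArg (fun m => rs m (Φ Y n t)) hj₂.symm).trans (rs_comp snd j₀ _).symm)
    | add x y hx hy =>
      refine (map_add (Φ Y (n + 1)) x y).trans ((congrArg₂ (· + ·) hx hy).trans ?_)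
      simp only [Θ, map_add]

/-- The transition maps. -/
noncomputable abbrev tm (n : ℕ) (i : Fin (n + 2)) : pwY Y (n + 1) ⟶ pwY Y n :=
  Pi.lift fun k => Pi.π (fun _ : Fin (n + 2) => Y) (i.succAbove k)

theorem Φ_face (n : ℕ) (i : Fin (n + 2)) (t : AmitsurAll.T (Rg U) (AY Y) n) :
    Φ Y (n + 1) (AmitsurAll.face _ _ n i t) = (show RA (pwY Y (n + 1)).hom from rs (tm Y n i).left (Φ Y n t)) := by
  let ψ : RA (pwY Y n).hom →ₐ[Rg U] RA (pwY Y (n + 1)).hom :=
    ⟨(show RA (pwY Y n).hom →+* RA (pwY Y (n + 1)).hom from rs (tm Y n i).left), fun r => by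
      show rs (tm Y n i).left (rs (pwY Y n).hom r) = rs (pwY Y (n + 1)).hom r
      rw [rs_comp, Over.w]⟩
  refine DFunLike.congr_fun (f := (Φ Y (n + 1)).comp (AmitsurAll.face _ _ n i))
    (g := ψ.comp (Φ Y n)) (AmitsurAll.hom_ext fun k a => ?_) t
  show Φ Y (n + 1) (AmitsurAll.face _ _ n i _) = rs (tm Y n i).left (Φ Y n _)
  rw [AmitsurAll.face, AmitsurAll.lift_incl, Φ_incl, Φ_incl]
  show rs (Pi.π (fun _ : Fin (n + 2) => Y) (i.succAbove k)).left a =
    rs (tm Y n i).left (rs (Pi.π (fun _ : Fin (n + 1) => Y) k).left a)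
  rw [rs_comp, ← Over.comp_left, Pi.lift_π]

variable (M : ModEt X)

/-- Sections on a power from the tensor power of functions. -/
noncomputable def ψM (n : ℕ) :
    AmitsurAll.T (Rg U) (AY Y) n ⊗[Rg U] SA M (𝟙 U) →ₗ[Rg U] SA M (pwY Y n).hom :=
  bc M (pwY Y n).hom ∘ₗ (Φ Y n).toLinearMap.rTensor (SA M (𝟙 U))

theorem ψM_bijective (hM : Good M) (hU : Aff U) (hY : Aff Y.left) (n : ℕ) : Function.Bijective (ψM Y M n) :=
  (hM.bij _ hU (aff_pi hU n (fun _ => Y) fun _ => hY)).comp
    ((LinearEquiv.ofBijective (Φ Y n).toLinearMap (Φ_bijective Y hU hY n)).rTensor (SA M (𝟙 U))).bijective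

theorem ψM_face (n : ℕ) (i : Fin (n + 2)) (z : AmitsurAll.T (Rg U) (AY Y) n ⊗[Rg U] SA M (𝟙 U)) :
    ψM Y M (n + 1) ((AmitsurAll.face (Rg U) (AY Y) n i).toLinearMap.rTensor _ z) =
      resL M (pwY Y n).hom (pwY Y (n + 1)).hom (tm Y n i).left (Over.w _) (ψM Y M n z) := by
  induction z with
  | zero => simp only [map_zero]
  | tmul t m =>
    simp only [ψM, LinearMap.comp_apply, LinearMap.rTensor_tmul, AlgHom.toLinearMap_apply, bc_tmul, resL_smul,
      resL_resL, Φ_face]
    congr 1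
    show M.val.map (pwY Y (n + 1)).hom.op (show sectModEt M U from m) =
      M.val.map ((tm Y n i).left ≫ (pwY Y n).hom).op (show sectModEt M U from m)
    rw [Over.w (tm Y n i)]
  | add a b ha hb => simp only [map_add, ha, hb]

omit [HasFiniteProducts (Over U)] in
theorem isAffAcyc_toAb (hM : Good M) : IsAffAcyc ((toAbEt X).obj M) := by
  intro U _ Y hU hY hs p
  haveI := hU
  haveI := hY
  haveI : Module.FaithfullyFlat (Rg U) (AY Y) :=
    RingHom.faithfullyFlat_algebraMap_iff.1 (show (algebraMap (Rg U) (RA Y.hom)).FaithfullyFlat from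
      faithfullyFlat_rs Y.hom hs)
  haveI : LocallySmall.{u + 1} (EtOver X) := ⟨fun _ _ => inferInstance⟩
  refine (HomologicalComplex.exactAt_iff_isZero_homology _ _).1 ?_
  rw [HomologicalComplex.exactAt_iff' _ p (p + 1) (p + 2) (by simp) (by simp), ShortComplex.ab_exact_iff]
  let P := ((toAbEt X).obj M).obj
  let Uf : PUnit.{u + 2} → Over U := fun _ => Y
  intro (x : (EtCech.cechComplex Uf P).X (p + 1))
    (hx : ((EtCech.cechComplex Uf P).d (p + 1) (p + 2)).hom x = 0)
  let v : SA M (pwY Y (p + 1)).hom := CechInjGen.cev Uf P (p + 1) (fun _ => ⟨⟩) x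
  obtain ⟨y, hy⟩ := (ψM_bijective Y M hM hU hY (p + 1)).2 v
  have hD : AmitsurMod.DM (Rg U) (AY Y) (SA M (𝟙 U)) (p + 1) y = 0 := by
    apply (ψM_bijective Y M hM hU hY (p + 2)).1
    rw [map_zero, AmitsurMod.DM_apply, map_sum]
    simp only [map_zsmul, ψM_face, hy]
    refine Eq.trans ?_ ((congrArg (CechInjGen.cev Uf P (p + 2) fun _ => ⟨⟩) hx).trans
      (map_zero (CechInjGen.cev Uf P (p + 2) fun _ => ⟨⟩)))
    rw [CechInjGen.cev_d]
    rfl
  obtain ⟨w, hw⟩ := AmitsurMod.exact_DM (SA M (𝟙 U)) p y hD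
  obtain ⟨z, hz⟩ := CechInjGen.exists_cev Uf P (n := p) fun _ => ψM Y M p w
  refine ⟨z, CechInjGen.cev_ext _ _ fun i => ?_⟩
  refine (CechInjGen.cev_d _ _ p i z).trans ?_
  refine Eq.trans ?_ ((congrArg (ψM Y M (p + 1)) hw).trans hy)
  rw [AmitsurMod.DM_apply, map_sum]
  simp only [map_zsmul, ψM_face]
  refine Finset.sum_congr rfl fun k _ => ?_
  rw [hz]
  rfl

end Groth.Agent.AlgSpMod
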