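import Groth.Agent.AlgSpMod.Push
import Groth.Agent.AlgSpDec.PushEssImage

/-!
# Modules killed by the ideal of a closed subspace come from the subspace
-/

set_option backward.isDefEq.respectTransparency false
set_option backward.isDefEq.respectTransparency.types false
set_option maxHeartbeats 1000000

universe u

open CategoryTheory CategoryTheory.Limits AlgebraicGeometry Opposite AlgSp TensorProduct
open Groth.Agent Groth.Agent.AlgSpLib Groth.Agent.AlgSpDec Groth.Agent.AlgSpDec.ClosedPush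

namespace Groth.Agent.AlgSpMod

variable {S : Scheme.{u}} {Z X : Sp S} {f : Z ⟶ X}

theorem surjective_β (hi : RepWith @IsClosedImmersion f) (V : EtOver X) (hV : Aff V) :
    Function.Surjective (β hi.1 V) := by
  have : IsClosedImmersion (EtOver.bcπ hi.1 V).left := hi.property_snd V.obj.hom
  haveI : IsAffine V.obj.left.left := hV
  have hs : Function.Surjective (EtOver.bcπ hi.1 V).left.appTop :=
    (IsClosedImmersion.isAffine_surjective_of_isAffine (f := (EtOver.bcπ hi.1 V).left)).2
  intro r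
  obtain ⟨a, ha⟩ := hs r.down
  exact ⟨⟨a⟩, ULift.ext _ _ ha⟩

theorem aff_bcObj_closed (hi : RepWith @IsClosedImmersion f) (V : EtOver X) (hV : Aff V) :
    Aff (EtOver.bcObj hi.1 V) := by
  have : IsClosedImmersion (EtOver.bcπ hi.1 V).left := hi.property_snd V.obj.hom
  haveI : IsAffine V.obj.left.left := hV
  exact isAffine_of_isAffineHom (EtOver.bcπ hi.1 V).left

variable (hi : RepWith @IsClosedImmersion f) (F : ModEt X)

/-- Multiplication of a section by a function. -/
noncomputable abbrev sm {M : ModEt X} {V : EtOver X} (a : Rg V) (s : sectModEt M V) : sectModEt M V :=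
  HSMul.hSMul (α := (OEtRing X).obj.obj (op V)) a s

/-- The kernel of restriction of functions to the subspace kills all sections. -/
def Killed : Prop :=
  ∀ (V : EtOver X), Aff V → ∀ (d : Rg V) (t : sectModEt F V), β hi.1 V d = 0 → sm d t = 0

/-- The value of the action of a function on the base change. -/
def ActSpec {E : EtOver X} (c : Rg (EtOver.bcObj hi.1 E)) (s x : sectModEt F E) : Prop :=
  ∀ (V : EtOver X) (k : V ⟶ E), Aff V → ∀ a : Rg V, β hi.1 V a = rs (EtOver.bcMap hi.1 k) c →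
    F.val.map k.op x = sm a (F.val.map k.op s)

theorem exists_affine_open_cover (E : EtOver X) : ∃ (κ : Type u) (V : κ → EtOver X) (h : ∀ k, V k ⟶ E),
    (∀ k, Aff (V k)) ∧ Sieve.ofArrows V h ∈ etTop X E := by
  choose O hO hxO _ using fun x : ↥E.obj.left.left => exists_isAffineOpen_mem_and_subset
    (U := (⊤ : E.obj.left.left.Opens)) (x := x) trivial
  exact ⟨↥E.obj.left.left, fun x => etOpen E (O x), fun x => etOpenι E (O x), hO,
    AlgSp.ofArrows_mem_etTop _ _ fun x => ⟨x, by rw [range_etOpenι]; exact hxO x⟩⟩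

variable {hi F}

theorem rs_bcMap_comp {E V W : EtOver X} (k : V ⟶ E) (l : W ⟶ V) (c : Rg (EtOver.bcObj hi.1 E)) :
    rs (EtOver.bcMap hi.1 (l ≫ k)) c = rs (EtOver.bcMap hi.1 l) (rs (EtOver.bcMap hi.1 k) c) := by
  rw [rs_comp]
  exact congrArg (fun m => rs m c) ((EtOver.bc hi.1).map_comp l k)

theorem map_comp_sect {M : ModEt X} {E V W : EtOver X} (k : V ⟶ E) (l : W ⟶ V) (s : sectModEt M E) :
    M.val.map (l ≫ k).op s = M.val.map l.op (M.val.map k.op s) :=
  congr($(M.val.presheaf.map_comp k.op l.op) s)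

theorem map_sm {M : ModEt X} {V W : EtOver X} (l : W ⟶ V) (a : Rg V) (t : sectModEt M V) :
    M.val.map l.op (sm a t) = sm (rs l a) (M.val.map l.op t) :=
  M.val.map_smul l.op a t

theorem sm_eq_of_β (hk : Killed hi F) {V : EtOver X} (hV : Aff V) (a a' : Rg V) (t : sectModEt F V)
    (h : β hi.1 V a = β hi.1 V a') : sm a t = sm a' t := by
  have := hk V hV (a - a') t (by rw [map_sub, h, sub_self])
  rw [← sub_eq_zero, ← this]
  exact (sub_smul _ _ _).symm

theorem res_sm (hk : Killed hi F) {E V W : EtOver X} (k : V ⟶ E) (l : W ⟶ V) (hW : Aff W)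
    (c : Rg (EtOver.bcObj hi.1 E)) (s : sectModEt F E) (a : Rg V) (ha : β hi.1 V a = rs (EtOver.bcMap hi.1 k) c)
    (a' : Rg W) (ha' : β hi.1 W a' = rs (EtOver.bcMap hi.1 (l ≫ k)) c) :
    F.val.map l.op (sm a (F.val.map k.op s)) = sm a' (F.val.map (l ≫ k).op s) := by
  rw [map_sm, ← map_comp_sect]
  refine sm_eq_of_β hk hW _ _ _ ?_
  rw [← β_natural, ha, ha', rs_bcMap_comp (hi := hi)]

theorem ActSpec.unique {E : EtOver X} {c : Rg (EtOver.bcObj hi.1 E)} {s x y : sectModEt F E}
    (hx : ActSpec hi F c s x) (hy : ActSpec hi F c s y) : x = y := by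
  obtain ⟨κ, V, h, hV, hcov⟩ := exists_affine_open_cover E
  refine ext_of_cover' F h hcov fun k => ?_
  obtain ⟨a, ha⟩ := surjective_β hi (V k) (hV k) (rs (EtOver.bcMap hi.1 (h k)) c)
  rw [hx _ (h k) (hV k) a ha, hy _ (h k) (hV k) a ha]

theorem exists_act (hk : Killed hi F) {E : EtOver X} (c : Rg (EtOver.bcObj hi.1 E)) (s : sectModEt F E) :
    ∃ x, ActSpec hi F c s x := by
  obtain ⟨κ, V, h, hV, hcov⟩ := exists_affine_open_cover E
  choose a ha using fun k => surjective_β hi (V k) (hV k) (rs (EtOver.bcMap hi.1 (h k)) c)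
  have hex := exists_glue F h hcov (fun k => sm (a k) (F.val.map (h k).op s)) fun k l => by
    obtain ⟨κ', W, w, hW, hcov'⟩ := exists_affine_open_cover (EtOver.pullbackObj (h k) (h l))
    refine ext_of_cover' F w hcov' fun i => ?_
    obtain ⟨a', ha'⟩ := surjective_β hi (W i) (hW i)
      (rs (EtOver.bcMap hi.1 ((w i ≫ EtOver.pullbackFst (h k) (h l)) ≫ h k)) c)
    rw [← map_comp_sect, ← map_comp_sect, res_sm hk (h k) _ (hW i) c s _ (ha k) a' ha']
    have e : (w i ≫ EtOver.pullbackFst (h k) (h l)) ≫ h k = (w i ≫ EtOver.pullbackSnd (h k) (h l)) ≫ h l := by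
      rw [Category.assoc, Category.assoc, EtOver.pullback_condition]
    rw [res_sm hk (h l) _ (hW i) c s _ (ha l) a' (by rw [← e]; exact ha')]
    rw [e]
  obtain ⟨x, hx⟩ := hex
  refine ⟨x, fun W k hW b hb => ?_⟩
  obtain ⟨κ', T, t, hT, hcov'⟩ : ∃ (κ' : κ → Type u) (T : ∀ j, κ' j → EtOver X)
      (t : ∀ j i, T j i ⟶ EtOver.pullbackObj k (h j)), (∀ j i, Aff (T j i)) ∧
      ∀ j, Sieve.ofArrows (T j) (t j) ∈ etTop X (EtOver.pullbackObj k (h j)) := by
    choose κ' T t hT hc using fun j => exists_affine_open_cover (EtOver.pullbackObj k (h j))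
    exact ⟨κ', T, t, hT, hc⟩
  have hcovW : Sieve.ofArrows (fun j => EtOver.pullbackObj k (h j)) (fun j => EtOver.pullbackFst k (h j)) ∈
      etTop X W := by
    refine (etTop X).superset_covering ?_ ((etTop X).pullback_stable k hcov)
    intro Y g hg
    obtain ⟨j, b', hb'⟩ := (Sieve.mem_ofArrows_iff _ _ _).1 hg
    exact (Sieve.mem_ofArrows_iff _ _ _).2
      ⟨j, (EtOver.isPullback k (h j)).lift g b' hb', ((EtOver.isPullback k (h j)).lift_fst _ _ _).symm⟩
  refine ext_of_cover' F _ hcovW fun j => ext_of_cover' F (t j) (hcov' j) fun i => ?_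
  let u₁ := t j i ≫ EtOver.pullbackFst k (h j)
  let u₂ := t j i ≫ EtOver.pullbackSnd k (h j)
  have e : u₁ ≫ k = u₂ ≫ h j := by
    simp only [u₁, u₂, Category.assoc, EtOver.pullback_condition]
  obtain ⟨b', hb'⟩ := surjective_β hi (T j i) (hT j i) (rs (EtOver.bcMap hi.1 (u₁ ≫ k)) c)
  rw [← map_comp_sect (EtOver.pullbackFst k (h j)) (t j i), ← map_comp_sect (EtOver.pullbackFst k (h j)) (t j i),
    show F.val.map (t j i ≫ EtOver.pullbackFst k (h j)).op (sm b (F.val.map k.op s)) =
    sm b' (F.val.map (u₁ ≫ k).op s) from res_sm hk k u₁ (hT j i) c s b hb b' hb']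
  show F.val.map u₁.op (F.val.map k.op x) = _
  rw [← map_comp_sect, e, map_comp_sect, hx, res_sm hk (h j) u₂ (hT j i) c s _ (ha j) b' (by rw [← e]; exact hb')]

variable (hk : Killed hi F)

/-- The action of functions on the base change on sections upstairs. -/
noncomputable def act {E : EtOver X} (c : Rg (EtOver.bcObj hi.1 E)) (s : sectModEt F E) : sectModEt F E :=
  (exists_act hk c s).choose

theorem act_spec {E : EtOver X} (c : Rg (EtOver.bcObj hi.1 E)) (s : sectModEt F E) : ActSpec hi F c s (act hk c s) :=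
  (exists_act hk c s).choose_spec

theorem act_eq {E : EtOver X} {c : Rg (EtOver.bcObj hi.1 E)} {s x : sectModEt F E} (hx : ActSpec hi F c s x) :
    act hk c s = x := (act_spec hk c s).unique hx

theorem act_β {E : EtOver X} (r : Rg E) (s : sectModEt F E) : act hk (β hi.1 E r) s = sm r s := by
  refine act_eq hk fun V k hV a ha => ?_
  rw [map_sm]
  exact sm_eq_of_β hk hV _ _ _ (by rw [ha, β_natural])

theorem map_act {E E' : EtOver X} (g : E' ⟶ E) (c : Rg (EtOver.bcObj hi.1 E)) (s : sectModEt F E) :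
    F.val.map g.op (act hk c s) = act hk (rs (EtOver.bcMap hi.1 g) c) (F.val.map g.op s) := by
  refine (act_eq hk (E := E') (x := F.val.map g.op (act hk c s)) fun V k hV a ha => ?_).symm
  rw [← map_comp_sect, ← map_comp_sect]
  exact act_spec hk c s V (k ≫ g) hV a (by rw [ha, rs_bcMap_comp (hi := hi)])

theorem act_one {E : EtOver X} (s : sectModEt F E) : act hk (1 : Rg (EtOver.bcObj hi.1 E)) s = s := by
  rw [← map_one (β hi.1 E), act_β]
  exact one_smul _ s

theorem act_zero {E : EtOver X} (s : sectModEt F E) : act hk (0 : Rg (EtOver.bcObj hi.1 E)) s = 0 := by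
  rw [← map_zero (β hi.1 E), act_β]
  exact zero_smul _ s

theorem act_smul_zero {E : EtOver X} (c : Rg (EtOver.bcObj hi.1 E)) : act hk c (0 : sectModEt F E) = 0 :=
  act_eq hk fun V k hV a ha => by
    rw [map_zero]
    exact (smul_zero _).symm

theorem act_add {E : EtOver X} (c : Rg (EtOver.bcObj hi.1 E)) (s t : sectModEt F E) :
    act hk c (s + t) = act hk c s + act hk c t :=
  act_eq hk fun V k hV a ha => by
    rw [map_add, map_add, act_spec hk c s V k hV a ha, act_spec hk c t V k hV a ha]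
    exact (smul_add _ _ _).symm

theorem add_act {E : EtOver X} (c d : Rg (EtOver.bcObj hi.1 E)) (s : sectModEt F E) :
    act hk (c + d) s = act hk c s + act hk d s :=
  act_eq hk fun V k hV a ha => by
    obtain ⟨a₁, h₁⟩ := surjective_β hi V hV (rs (EtOver.bcMap hi.1 k) c)
    obtain ⟨a₂, h₂⟩ := surjective_β hi V hV (rs (EtOver.bcMap hi.1 k) d)
    rw [map_add, act_spec hk c s V k hV a₁ h₁, act_spec hk d s V k hV a₂ h₂,
      sm_eq_of_β hk hV a (a₁ + a₂) _ (by rw [ha, map_add, map_add, h₁, h₂])]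
    exact (add_smul _ _ _).symm

theorem mul_act {E : EtOver X} (c d : Rg (EtOver.bcObj hi.1 E)) (s : sectModEt F E) :
    act hk (c * d) s = act hk c (act hk d s) :=
  act_eq hk fun V k hV a ha => by
    obtain ⟨a₁, h₁⟩ := surjective_β hi V hV (rs (EtOver.bcMap hi.1 k) c)
    obtain ⟨a₂, h₂⟩ := surjective_β hi V hV (rs (EtOver.bcMap hi.1 k) d)
    rw [act_spec hk c _ V k hV a₁ h₁, act_spec hk d s V k hV a₂ h₂,
      sm_eq_of_β hk hV a (a₁ * a₂) _ (by rw [ha, map_mul, map_mul, h₁, h₂])]
    exact (mul_smul (α := (OEtRing X).obj.obj (op V)) a₁ a₂ (F.val.map k.op s : sectModEt F V)).symm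

end Groth.Agent.AlgSpMod
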