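import Groth.Agent.AlgSpMod.Good
import Groth.Agent.EtFound.CechInjGen
import Groth.Agent.EtFound.CechSurjGen
import Groth.Agent.SiteBase.AbSecExact
import Mathlib.CategoryTheory.Limits.Constructions.Over.Products
import Mathlib.CategoryTheory.Sites.SheafCohomology.Basic
import Mathlib.Algebra.Homology.DerivedCategory.Ext.EnoughInjectives

/-!
# Cartan's criterion on the small etale site of an algebraic space
-/

set_option backward.isDefEq.respectTransparency false
set_option backward.isDefEq.respectTransparency.types false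
set_option maxHeartbeats 1000000

universe u

open CategoryTheory CategoryTheory.Limits AlgebraicGeometry Opposite AlgSp Abelian
open Groth.Agent Groth.Agent.AlgSpLib Groth.Agent.AlgSpDec Groth.Agent.EtFound

namespace Groth.Agent.AlgSpMod

variable {S : Scheme.{u}} {X : Sp S}

theorem hasFiniteProducts_over (U : EtOver X) : HasFiniteProducts (Over U) :=
  haveI := CategoryTheory.Over.ConstructProducts.over_binaryProduct_of_pullback (C := EtOver X) (B := U)
  hasFiniteProducts_of_has_binary_and_terminal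

theorem aff_of_iso {U V : EtOver X} (e : U ≅ V) (hV : Aff V) : Aff U := by
  haveI : IsAffine ((EtOver.forget X ⋙ CategoryTheory.Over.forget S).obj V) := hV
  exact IsAffine.of_isIso ((EtOver.forget X ⋙ CategoryTheory.Over.forget S).mapIso e).hom

/-- No higher Cech cohomology for one affine covering of an affine object. -/
def IsAffAcyc (G : AbEt X) : Prop :=
  ∀ (U : EtOver X) [HasFiniteProducts (Over U)] (Y : Over U), Aff U → Aff Y.left →
    Surjective Y.hom.hom.left.left → ∀ p, IsZero (EtCech.cechH (fun _ : PUnit.{u + 2} => Y) G.obj (p + 1))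

theorem aff_pullback {E E₁ E₂ : EtOver X} (q₁ : E₁ ⟶ E) (q₂ : E₂ ⟶ E) (hE : Aff E) (h₁ : Aff E₁) (h₂ : Aff E₂) :
    Aff (pullback q₁ q₂) :=
  aff_of_iso (EtOver.isPullback q₁ q₂).isoPullback.symm (aff_pullbackObj q₁ q₂ hE h₁ h₂)

theorem aff_pi {U : EtOver X} [HasFiniteProducts (Over U)] (hU : Aff U) :
    ∀ (n : ℕ) (Y : Fin (n + 1) → Over U), (∀ k, Aff (Y k).left) → Aff (∏ᶜ Y).left := by
  intro n
  induction n with
  | zero =>
    intro Y hY
    haveI : IsIso (Pi.π Y 0) := by
      refine ⟨Pi.lift fun k => eqToHom (by rw [Fin.fin_one_eq_zero k]), ?_, ?_⟩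
      · refine Pi.hom_ext _ _ fun k => ?_
        obtain rfl := Fin.fin_one_eq_zero k
        simp
      · simp
    exact aff_of_iso ((CategoryTheory.Over.forget U).mapIso (asIso (Pi.π Y 0))) (hY 0)
  | succ n ih =>
    intro Y hY
    haveI : HasBinaryProducts (Over U) := inferInstance
    have h0 := hY 0
    have h1 := ih (fun k => Y (Fin.succ k)) fun k => hY _
    let e : ∏ᶜ Y ≅ (Y 0 ⨯ ∏ᶜ fun k => Y (Fin.succ k)) :=
      { hom := prod.lift (Pi.π Y 0) (Pi.lift fun k => Pi.π Y (Fin.succ k))
        inv := Pi.lift (Fin.cases prod.fst fun k => prod.snd ≫ Pi.π (fun k => Y (Fin.succ k)) k)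
        hom_inv_id := Pi.hom_ext _ _ fun k => by
          rw [Category.assoc, Pi.lift_π, Category.id_comp]
          induction k using Fin.cases with
          | zero => exact prod.lift_fst _ _
          | succ k =>
            refine (Category.assoc _ _ _).symm.trans ?_
            exact (congrArg (· ≫ _) (prod.lift_snd _ _)).trans (Pi.lift_π _ _)
        inv_hom_id := by
          refine prod.hom_ext ?_ (Pi.hom_ext _ _ fun k => ?_)
          · rw [Category.assoc, Category.id_comp]
            exact (congrArg (_ ≫ ·) (prod.lift_fst _ _)).trans (Pi.lift_π _ 0)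
          · rw [Category.assoc, Category.assoc, Category.id_comp]
            refine (congrArg (_ ≫ ·) ((Category.assoc _ _ _).symm.trans
              (congrArg (· ≫ _) (prod.lift_snd _ _)))).trans ?_
            exact ((congrArg (_ ≫ ·) (Pi.lift_π _ k)).trans (Pi.lift_π _ k.succ)) }
    exact aff_of_iso ((CategoryTheory.Over.forget U).mapIso e)
      (aff_of_iso (CategoryTheory.Over.prodLeftIsoPullback (Y 0) (∏ᶜ fun k => Y (Fin.succ k)))
        (aff_pullback _ _ hU h0 h1))

theorem isAffAcyc_of_injective (G : AbEt X) [Injective G] : IsAffAcyc G := by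
  intro U _ Y _ _ _ p
  haveI : LocallySmall.{u + 1} (EtOver X) := ⟨fun _ _ => inferInstance⟩
  haveI : Injective G.obj :=
    Injective.injective_of_adjoint (sheafificationAdjunction (etTop X) AddCommGrpCat.{u + 1}) G
  exact CechInjGen.isZero_cechH_injective _ G.obj p

theorem isSheafFor_covers {κ : Type*} (G : AbEt X) {E : EtOver X} (Z : κ → EtOver X) (g : ∀ i, Z i ⟶ E)
    (h : ∀ x : ↥E.obj.left.left, ∃ i, x ∈ Set.range (g i).hom.left.left) :
    Presieve.IsSheafFor (G.obj ⋙ forget AddCommGrpCat.{u + 1}) (Presieve.ofArrows Z g) := by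
  rw [Presieve.isSheafFor_iff_generate]
  exact ((isSheaf_iff_isSheaf_of_type _ _).1
    ((Presheaf.isSheaf_iff_isSheaf_forget (etTop X) G.obj (forget AddCommGrpCat.{u + 1})).1 G.2)) _
    (AlgSp.ofArrows_mem_etTop Z g h)

theorem subsingleton_of_isEmpty (G : AbEt X) (V : EtOver X) [IsEmpty ↥V.obj.left.left] :
    Subsingleton (G.obj.obj (op V)) := by
  refine ⟨fun a b => ?_⟩
  refine (isSheafFor_covers G (κ := PEmpty.{u + 1}) (fun i => i.elim) (fun i => i.elim)
    fun x => isEmptyElim x).isSeparatedFor.ext fun W w hw => ?_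
  obtain ⟨i⟩ := hw
  exact i.elim

/-- A covering of an affine object is refined by a single affine covering, disjointly made of members of it. -/
theorem exists_affine_refinement {E : EtOver X} (hE : Aff E) {R : Sieve E} (hR : R ∈ etTop X E) :
    ∃ (κ : Type u) (_ : Fintype κ) (W : κ → EtOver X) (T : EtOver X) (q : T ⟶ E) (ι : ∀ k, W k ⟶ T),
      Aff T ∧ Surjective q.hom.left.left ∧ (∀ k, R (ι k ≫ q)) ∧ (∀ k, Mono (ι k)) ∧
      (∀ x : ↥T.obj.left.left, ∃ k, x ∈ Set.range (ι k).hom.left.left) ∧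
      ∀ k l, k ≠ l → ∀ a b, (ι k).hom.left.left a ≠ (ι l).hom.left.left b := by
  classical
  haveI := hE
  obtain ⟨P, hP, hPR⟩ := (etPre X).mem_toGrothendieck_iff_of_isStableUnderComposition.1 hR
  obtain ⟨κ₀, W, w, rfl⟩ := P.exists_eq_ofArrows
  have pt : ∀ x : ↥E.obj.left.left, ∃ (N : EtOver X) (n : N ⟶ E), Aff N ∧ R n ∧
      x ∈ Set.range n.hom.left.left := by
    intro x
    obtain ⟨i, z, rfl⟩ := (ofArrows_mem_etPre_iff W w).1 hP x
    obtain ⟨O, hO, hzO, -⟩ := exists_isAffineOpen_mem_and_subset (U := (⊤ : (W i).obj.left.left.Opens))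
      (x := z) trivial
    obtain ⟨z', rfl⟩ := (range_etOpenι (W i) O).ge hzO
    exact ⟨etOpen (W i) O, etOpenι (W i) O ≫ w i, hO,
      R.downward_closed (hPR _ _ (Presieve.ofArrows.mk i)) _, z', rfl⟩
  choose N n hN hn hx using pt
  obtain ⟨t, ht⟩ := (isCompact_univ (X := ↥E.obj.left.left)).elim_finite_subcover
    (fun x => Set.range (n x).hom.left.left)
    (fun x => by have := EtOver.etale_left (n x); exact (n x).hom.left.left.isOpenMap.isOpen_range)
    (fun x _ => Set.mem_iUnion.2 ⟨x, hx x⟩)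
  let T : {x // x ∈ t} → Over S := fun k => (N k.1).obj.left
  let d : sigmaOver T ⟶ E.obj.left := Over.homMk (Sigma.desc fun k => (n k.1).hom.left.left)
    (Sigma.hom_ext _ _ fun k => by
      show Sigma.ι (fun k => (T k).left) k ≫ Sigma.desc _ ≫ _ = Sigma.ι (fun k => (T k).left) k ≫ Sigma.desc _
      rw [Sigma.ι_desc_assoc, Sigma.ι_desc, Over.w])
  have hd : ∀ k, sigmaι T k ≫ d = (n k.1).hom.left := fun k => Over.OverMorphism.ext (Sigma.ι_desc _ _)
  have : Etale d.left := (IsZariskiLocalAtSource.iff_of_openCover (sigmaOpenCover fun k => (T k).left)).2 fun k => by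
    show Etale (Sigma.ι (fun k => (T k).left) k ≫ Sigma.desc _)
    rw [Sigma.ι_desc]; exact EtOver.etale_left (n k.1)
  let E' : EtOver X := EtOver.mk ((yon S).map d ≫ E.obj.hom)
    (repWith_comp ((repWith_yon_map_iff _ _).2 this) E.property)
  let q : E' ⟶ E := EtOver.homMk d rfl
  let ι : ∀ k : {x // x ∈ t}, N k.1 ⟶ E' := fun k => EtOver.homMk (sigmaι T k) (by
    show (yon S).map (sigmaι T k) ≫ (yon S).map d ≫ E.obj.hom = _
    rw [← Category.assoc, ← Functor.map_comp, hd, EtOver.w])
  have hιq : ∀ k, ι k ≫ q = n k.1 := fun k => EtOver.hom_ext _ _ (hd k)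
  have hA : ∀ k, IsAffine (T k).left := fun k => hN k.1
  have hE' : Aff E' := inferInstanceAs (IsAffine (∐ fun k => (T k).left))
  refine ⟨{x // x ∈ t}, inferInstance, fun k => N k.1, E', q, ι, hE', ⟨fun x => ?_⟩,
    fun k => (hιq k).symm ▸ hn k.1, fun k => ?_, fun y => ?_, fun k l hkl a b h => ?_⟩
  · obtain ⟨i, hi, z, rfl⟩ : ∃ i ∈ t, x ∈ Set.range (n i).hom.left.left := by
      simpa using ht (Set.mem_univ x)
    have e : (sigmaι T ⟨i, hi⟩).left ≫ d.left = (n i).hom.left.left := congrArg CommaMorphism.left (hd ⟨i, hi⟩)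
    exact ⟨(sigmaι T ⟨i, hi⟩).left z, (Scheme.Hom.comp_apply _ _ z).symm.trans congr($e z)⟩
  · haveI : Mono (sigmaι T k).left := inferInstanceAs (Mono (Sigma.ι (fun k => (T k).left) k))
    exact ⟨fun a b h => EtOver.hom_ext _ _ (Over.OverMorphism.ext
      ((cancel_mono (sigmaι T k).left).1 (congrArg (fun m => m.hom.left.left) h)))⟩
  · obtain ⟨k, v, hv⟩ := exists_sigmaι T y
    exact ⟨k, v, hv⟩
  · exact Set.disjoint_iff_forall_ne.1
      (TopologicalSpace.Opens.coe_disjoint.2
        (disjoint_opensRange_sigmaι (fun k => (T k).left) k l hkl)) ⟨a, rfl⟩ ⟨b, rfl⟩ h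

theorem bijective_sections_of_disjoint (G : AbEt X) {T : EtOver X} {κ : Type*} (W : κ → EtOver X)
    (ι : ∀ k, W k ⟶ T) [∀ k, Mono (ι k)] (hcov : ∀ x : ↥T.obj.left.left, ∃ k, x ∈ Set.range (ι k).hom.left.left)
    (hdisj : ∀ k l, k ≠ l → ∀ a b, (ι k).hom.left.left a ≠ (ι l).hom.left.left b) :
    Function.Bijective (fun (s : G.obj.obj (op T)) (k : κ) => G.obj.map (ι k).op s) := by
  have h := isSheafFor_covers G W ι hcov
  refine ⟨fun s t hst => h.isSeparatedFor.ext fun V v hv => ?_, fun x => ?_⟩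
  · obtain ⟨i⟩ := hv
    exact congrFun hst i
  · have hc : Presieve.Arrows.Compatible (G.obj ⋙ forget AddCommGrpCat.{u + 1}) ι x := by
      intro i j V a b hab
      by_cases hij : i = j
      · subst hij
        rw [(cancel_mono (ι i)).1 hab]
      · have : IsEmpty ↥V.obj.left.left := ⟨fun v => hdisj i j hij (a.hom.left.left v) (b.hom.left.left v) (by
          show (a ≫ ι i).hom.left.left v = (b ≫ ι j).hom.left.left v
          rw [hab])⟩
        have := subsingleton_of_isEmpty G V
        exact Subsingleton.elim (α := G.obj.obj (op V)) _ _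
    obtain ⟨s, hs, -⟩ := (Presieve.isSheafFor_arrows_iff _ _).1 h x hc
    exact ⟨s, funext hs⟩

variable (C : ShortComplex (AbEt X)) (hC : C.ShortExact)

include hC

theorem sections_surjective (h1 : IsAffAcyc C.X₁) {V : EtOver X} (hV : Aff V) :
    Function.Surjective (C.g.hom.app (op V)).hom := by
  intro z
  haveI : LocallySmall.{u + 1} (EtOver X) := ⟨fun _ _ => inferInstance⟩
  haveI := hC.mono_f
  haveI := hC.epi_g
  haveI := hasFiniteProducts_over V
  have hloc : Presheaf.IsLocallySurjective (etTop X) C.g.hom :=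
    (Sheaf.isLocallySurjective_iff_epi' AddCommGrpCat.{u + 1} C.g).2 inferInstance
  obtain ⟨κ, _, W, T, g, i, hT, hg, hR, hi, hcov, hdisj⟩ :=
    exists_affine_refinement hV (hloc.imageSieve_mem (U := V) z)
  choose s hs using hR
  haveI := hi
  obtain ⟨t, ht⟩ := (bijective_sections_of_disjoint C.X₂ W i hcov hdisj).2 s
  have htg : C.g.hom.app (op T) t = C.X₃.obj.map g.op z := by
    refine (bijective_sections_of_disjoint C.X₃ W i hcov hdisj).1 (funext fun k => ?_)
    refine (NatTrans.naturality_apply C.g.hom (i k).op t).symm.trans ?_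
    refine (congrArg _ (congrFun ht k)).trans ((hs k).trans ?_)
    rw [op_comp, Functor.map_comp]
    rfl
  let Uf : PUnit.{u + 2} → Over V := fun _ => Over.mk g
  have hsheaf : ∀ F : AbEt X, Presieve.IsSheafFor (F.obj ⋙ forget AddCommGrpCat.{u + 1})
      (Presieve.ofArrows (fun k => (Uf k).left) fun k => (Uf k).hom) := fun F =>
    isSheafFor_covers F _ _ fun x => by
      obtain ⟨y, hy⟩ := hg.1 x
      exact ⟨⟨⟩, y, hy⟩
  exact CechSurjGen.exists_lift_of_isZero_cechH_one (Uf := Uf) C.f.hom C.g.hom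
    (fun T => SiteBase.sheaf_app_injective C.f T.unop)
    (fun T y hy => (SiteBase.secExact_iff C T.unop).1 (hC.exact.map_of_mono_of_preservesKernel
      (sheafToPresheaf (etTop X) AddCommGrpCat.{u + 1} ⋙
        (evaluation (EtOver X)ᵒᵖ AddCommGrpCat.{u + 1}).obj T) inferInstance inferInstance) y hy)
    (fun T x => congrArg (fun t : C.X₁ ⟶ C.X₃ => (t.hom.app T).hom x) C.zero)
    (h1 V (Over.mk g) hV hT hg 0) (hsheaf _) (hsheaf _) z (fun _ => t) (fun _ => htg)

theorem isAffAcyc_X₃ (h1 : IsAffAcyc C.X₁) (h2 : IsAffAcyc C.X₂) : IsAffAcyc C.X₃ := by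
  intro U _ Y hU hY hs p
  haveI : LocallySmall.{u + 1} (EtOver X) := ⟨fun _ _ => inferInstance⟩
  haveI := hC.mono_f
  haveI := hC.epi_g
  exact CechSurjGen.isZero_cechH_quot C.f.hom C.g.hom
    (fun T => SiteBase.sheaf_app_injective C.f T.unop)
    (fun T y hy => (SiteBase.secExact_iff C T.unop).1 (hC.exact.map_of_mono_of_preservesKernel
      (sheafToPresheaf (etTop X) AddCommGrpCat.{u + 1} ⋙
        (evaluation (EtOver X)ᵒᵖ AddCommGrpCat.{u + 1}).obj T) inferInstance inferInstance) y hy)
    (fun T x => congrArg (fun t : C.X₁ ⟶ C.X₃ => (t.hom.app T).hom x) C.zero) p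
    (h1 U Y hU hY hs (p + 1)) (h2 U Y hU hY hs p)
    (fun n i => sections_surjective C hC h1 (aff_pi hU n (fun _ => Y) fun _ => hY))

omit hC

/-- Cartan's criterion, for a site with an affine terminal object. -/
theorem subsingleton_HEt_of_isAffAcyc {T₀ : EtOver X} (hT : IsTerminal T₀) (hA : Aff T₀) (n : ℕ) :
    ∀ G : AbEt X, IsAffAcyc G → Subsingleton (HEt X G (n + 1)) := by
  induction n with
  | zero =>
    intro G hG
    let P := ShortComplex.mk (Injective.ι G) (cokernel.π _) (cokernel.condition (Injective.ι G))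
    have hE : P.ShortExact := { exact := ShortComplex.exact_of_g_is_cokernel _ (cokernelIsCokernel _) }
    haveI : Injective P.X₂ := inferInstanceAs (Injective (Injective.under G))
    refine subsingleton_of_forall_eq 0 fun x => ?_
    obtain ⟨y, rfl⟩ := Ext.covariant_sequence_exact₁ _ hE x (Ext.eq_zero_of_injective _) (n₀ := 0) rfl
    obtain ⟨t, ht⟩ := sections_surjective P hE hG hA (Sheaf.H.equiv₀ P.X₃ hT y)
    have hy : y = Sheaf.H.map P.g 0 ((Sheaf.H.equiv₀ P.X₂ hT).symm t) := by
      refine (Sheaf.H.equiv₀ P.X₃ hT).injective ?_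
      rw [← Sheaf.H.equiv₀_naturality, AddEquiv.apply_symm_apply]
      exact ht.symm
    rw [hy, Sheaf.H.map_apply, Ext.comp_assoc_of_second_deg_zero, hE.comp_extClass, Ext.comp_zero]
  | succ n ih =>
    intro G hG
    let P := ShortComplex.mk (Injective.ι G) (cokernel.π _) (cokernel.condition (Injective.ι G))
    have hE : P.ShortExact := { exact := ShortComplex.exact_of_g_is_cokernel _ (cokernelIsCokernel _) }
    haveI hI : Injective P.X₂ := inferInstanceAs (Injective (Injective.under G))
    refine subsingleton_of_forall_eq 0 fun x => ?_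
    obtain ⟨z, rfl⟩ := Ext.covariant_sequence_exact₁ _ hE x (Ext.eq_zero_of_injective _) (n₀ := n + 1) rfl
    haveI := ih P.X₃ (isAffAcyc_X₃ P hE hG (isAffAcyc_of_injective P.X₂))
    rw [Subsingleton.elim (α := HEt X P.X₃ (n + 1)) z 0, Ext.zero_comp]

end Groth.Agent.AlgSpMod
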