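import Groth.Agent.AlgSpDec.EtStalkAb
import Groth.Prelude.Def_AlgSpOX2
import Mathlib.CategoryTheory.Adjunction.Unique
import Mathlib.CategoryTheory.Preadditive.Injective.Basic
import Mathlib.CategoryTheory.Sites.Abelian

/-!
# Inverse images on small etale sites are exact on monomorphisms, so direct images preserve injectives
-/

set_option backward.isDefEq.respectTransparency false
set_option backward.isDefEq.respectTransparency.types false

universe u

open CategoryTheory CategoryTheory.Limits AlgebraicGeometry Opposite AlgSp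
open Groth.Agent Groth.Agent.AlgSpLib Groth.Agent.AlgSpDec

namespace Groth.Agent.AlgSpMod

variable {S : Scheme.{u}} {X Y : Sp S} {f : X ⟶ Y} (hf : Representable f)

/-- Lifts of the image of a point are lifts of the point to the base changes. -/
noncomputable def liftsBcEquiv (p : FieldPt X) (E : EtOver Y) :
    (FieldPt.liftsTo (p.map f)).obj E ≃ (FieldPt.liftsTo p).obj (EtOver.bcObj hf E) where
  toFun v := ⟨hf.lift p.toHom v.1 ((v.2.trans (FieldPt.toHom_map f p)).symm), hf.lift_fst _ _ _⟩
  invFun w := ⟨w.1 ≫ EtOver.bcπ hf E, by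
    have := congrArg ((yon S).map w.1 ≫ ·) (EtOver.isPullback_bcObj hf E).w
    refine Eq.trans ?_ (FieldPt.toHom_map f p).symm
    refine ((congrArg (· ≫ E.obj.hom) ((yon S).map_comp _ _)).trans (Category.assoc _ _ _)).trans ?_
    refine this.symm.trans ?_
    exact (Category.assoc _ _ _).symm.trans (congrArg (· ≫ f) w.2)⟩
  left_inv v := Subtype.ext (hf.lift_snd _ _ _)
  right_inv w := Subtype.ext (hf.hom_ext ((hf.lift_fst _ _ _).trans w.2.symm) (hf.lift_snd _ _ _))

/-- Naturality of `liftsBcEquiv`. -/
noncomputable def liftsBcIso (p : FieldPt X) :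
    FieldPt.liftsTo (p.map f) ≅ EtOver.bc hf ⋙ FieldPt.liftsTo p :=
  NatIso.ofComponents (fun E => (liftsBcEquiv hf p E).toIso) fun {E E'} g => by
    refine ConcreteCategory.hom_ext _ _ fun v => Subtype.ext (hf.hom_ext ?_ ?_)
    · refine (hf.lift_fst _ _ _).trans ?_
      show _ = (yon S).map (_ ≫ _) ≫ _
      rw [Functor.map_comp, Category.assoc]
      exact ((congrArg (_ ≫ ·) (EtOver.map_bcMap_fst hf g)).trans (hf.lift_fst _ _ _)).symm
    · refine (hf.lift_snd _ _ _).trans ?_
      show v.1 ≫ g.hom.left = (_ ≫ _) ≫ _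
      rw [Category.assoc]
      exact ((congrArg (_ ≫ ·) (EtOver.bcMap_snd hf g)).trans ((Category.assoc _ _ _).symm.trans
        (congrArg (· ≫ g.hom.left) (hf.lift_snd _ _ _)))).symm

variable (hX : IsAlgSpace X) (hY : IsAlgSpace Y) (p : FieldPt X) (hp : p.IsGeometric)

/-- The direct image of a skyscraper is the skyscraper at the image point. -/
noncomputable def skyPushIso (hp' : (p.map f).IsGeometric) :
    (EtPoint.point hX p hp).skyscraperSheafFunctor ⋙ pushEt hf AddCommGrpCat.{u + 1} ≅
      (EtPoint.point hY (p.map f) hp').skyscraperSheafFunctor :=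
  (fullyFaithfulSheafToPresheaf (etTop Y) AddCommGrpCat.{u + 1}).whiskeringRight _ |>.preimageIso
    ((flipFunctor _ _ _).mapIso (Functor.isoWhiskerRight (NatIso.op (liftsBcIso hf p)) piFunctor.{u}.flip))

/-- Stalks of inverse images are stalks at the image point. -/
noncomputable def pullStalkIso (hp' : (p.map f).IsGeometric) :
    pullEt hf AddCommGrpCat.{u + 1} ⋙ (EtPoint.point hX p hp).sheafFiber ≅
      (EtPoint.point hY (p.map f) hp').sheafFiber :=
  (((pullPushAdjEt hf AddCommGrpCat.{u + 1}).comp (EtPoint.point hX p hp).skyscraperSheafAdjunction).ofNatIsoRight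
    (skyPushIso hf hX hY p hp hp')).leftAdjointUniq (EtPoint.point hY (p.map f) hp').skyscraperSheafAdjunction

include hX hY in
theorem mono_map_pullEt {A B : AbEt Y} (φ : A ⟶ B) [Mono φ] :
    Mono ((pullEt hf AddCommGrpCat.{u + 1}).map φ) := by
  haveI : HasColimitsOfSize.{u, u} AddCommGrpCat.{u + 1} := hasColimitsOfSizeShrink.{u, u, u + 1, u + 1} _
  haveI : AB5OfSize.{u, u} AddCommGrpCat.{u + 1} := AB5OfSize_shrink.{u, u, u + 1, u + 1} _
  refine Preadditive.mono_of_kernel_zero (IsZero.eq_of_src
    (EtStalkAb.isZero_of_stalks (kernel ((pullEt hf AddCommGrpCat.{u + 1}).map φ)) hX fun p hp => ?_) _ _)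
  have hp' : (p.map f).IsGeometric := hp
  let F := (EtPoint.point hX p hp).sheafFiber (A := AddCommGrpCat.{u + 1})
  haveI : PreservesFiniteLimits F := EtPoint.preservesFiniteLimits_stalkEtFunctor AddCommGrpCat.{u + 1} hX hp
  haveI : PreservesFiniteLimits ((EtPoint.point hY (p.map f) hp').sheafFiber (A := AddCommGrpCat.{u + 1})) :=
    EtPoint.preservesFiniteLimits_stalkEtFunctor AddCommGrpCat.{u + 1} hY hp'
  haveI h1 : Mono (F.map ((pullEt hf AddCommGrpCat.{u + 1}).map φ)) :=
    ((MorphismProperty.monomorphisms _).arrow_mk_iso_iff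
      (((Functor.mapArrowFunctor _ _).mapIso (pullStalkIso hf hX hY p hp hp')).app (Arrow.mk φ))).2
      (inferInstance : Mono ((EtPoint.point hY (p.map f) hp').sheafFiber.map φ))
  haveI : F.Additive := Functor.additive_of_preserves_binary_products _
  have h2 : F.map (kernel.ι ((pullEt hf AddCommGrpCat.{u + 1}).map φ)) = 0 := by
    rw [← cancel_mono (F.map ((pullEt hf AddCommGrpCat.{u + 1}).map φ)), ← F.map_comp, kernel.condition,
      F.map_zero, zero_comp]
  exact AddCommGrpCat.subsingleton_of_isZero (IsZero.of_mono_eq_zero _ h2)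

include hX hY in
theorem injective_pushEt (I : AbEt X) [Injective I] : Injective ((pushEt hf AddCommGrpCat.{u + 1}).obj I) := by
  haveI : (pullEt hf AddCommGrpCat.{u + 1}).PreservesMonomorphisms := ⟨fun φ _ => mono_map_pullEt hf hX hY φ⟩
  exact Injective.injective_of_adjoint (pullPushAdjEt hf AddCommGrpCat.{u + 1}) I

end Groth.Agent.AlgSpMod
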