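import Groth.Agent.AlgSpMod.Push
import Groth.Agent.AlgSpMod.PullExact
import Mathlib.CategoryTheory.Sites.SheafCohomology.Basic

/-!
# Global sections of a direct image
-/

set_option backward.isDefEq.respectTransparency false
set_option backward.isDefEq.respectTransparency.types false

universe u

open CategoryTheory CategoryTheory.Limits AlgebraicGeometry Opposite AlgSp Abelian
open Groth.Agent Groth.Agent.AlgSpLib Groth.Agent.AlgSpDec

namespace Groth.Agent.AlgSpMod

variable {S : Scheme.{u}} {X Y : Sp S} {f : X ⟶ Y} (hf : Representable f)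

/-- The objects over some base changed object. -/
def bcSieve (W : EtOver X) : Sieve W where
  arrows T _ := ∃ V : EtOver Y, Nonempty (T ⟶ EtOver.bcObj hf V)
  downward_closed := by
    rintro T T' g ⟨V, ⟨t⟩⟩ k
    exact ⟨V, ⟨k ≫ t⟩⟩

theorem bcSieve_mem (hY : IsAlgSpace Y) (W : EtOver X) : bcSieve hf W ∈ etTop X W := by
  have key : ∀ v : ↥W.obj.left.left, ∃ (T : EtOver X) (g : T ⟶ W), bcSieve hf W g ∧
      v ∈ Set.range g.hom.left.left := fun v => by
    obtain ⟨V, -, u', hu'⟩ := exists_affine_chart_point hY (Points.map f (Points.ofPt W.obj.hom v))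
    obtain ⟨w, hw, -⟩ := exists_bcObj_point hf V _ u' hu'
    obtain ⟨T, g₁, g₂, z, -, hz, -⟩ := exists_common_affine v w hw.symm
    exact ⟨T, g₁, ⟨V, ⟨g₂⟩⟩, z, hz⟩
  choose T g hg hv using key
  refine (etTop X).superset_covering ?_ (AlgSp.ofArrows_mem_etTop T g fun v => ⟨v, hv v⟩)
  rw [Sieve.generate_le_iff, Presieve.ofArrows_le_iff]
  exact hg

/-- Two maps to base changed objects factor through a third one. -/
theorem exists_bc_pair {T : EtOver X} {V₁ V₂ : EtOver Y} (g₁ : T ⟶ EtOver.bcObj hf V₁)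
    (g₂ : T ⟶ EtOver.bcObj hf V₂) : ∃ (P : EtOver Y) (p₁ : P ⟶ V₁) (p₂ : P ⟶ V₂) (t : T ⟶ EtOver.bcObj hf P),
      t ≫ EtOver.bcMap hf p₁ = g₁ ∧ t ≫ EtOver.bcMap hf p₂ = g₂ := by
  have key : ∀ {V : EtOver Y} (g : T ⟶ EtOver.bcObj hf V),
      (yon S).map (g.hom.left ≫ EtOver.bcπ hf V) ≫ V.obj.hom = T.obj.hom ≫ f := by
    intro V g
    refine ((congrArg (· ≫ V.obj.hom) ((yon S).map_comp _ _)).trans (Category.assoc _ _ _)).trans ?_
    refine (congrArg (_ ≫ ·) (EtOver.isPullback_bcObj hf V).w.symm).trans ?_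
    exact (Category.assoc _ _ _).symm.trans (congrArg (· ≫ f) (EtOver.w g))
  let hr := V₂.property.1
  let c := hr.lift' (g₂.hom.left ≫ EtOver.bcπ hf V₂) (g₁.hom.left ≫ EtOver.bcπ hf V₁)
    ((key g₂).trans (key g₁).symm)
  have c₁ : c ≫ (EtOver.prodFst V₁ V₂).hom.left = g₁.hom.left ≫ EtOver.bcπ hf V₁ :=
    Functor.relativelyRepresentable.lift'_snd _ _ _ _
  have c₂ : c ≫ (EtOver.prodSnd V₁ V₂).hom.left = g₂.hom.left ≫ EtOver.bcπ hf V₂ :=
    Functor.relativelyRepresentable.lift'_fst _ _ _ _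
  have hc : (yon S).map c ≫ (EtOver.prodObj V₁ V₂).obj.hom = T.obj.hom ≫ f := by
    refine Eq.trans ?_ (key g₁)
    rw [← c₁, Functor.map_comp, Category.assoc, EtOver.w]
  let t : T ⟶ EtOver.bcObj hf (EtOver.prodObj V₁ V₂) :=
    EtOver.homMk (hf.lift T.obj.hom c hc.symm) (hf.lift_fst _ _ _)
  have fin : ∀ {V : EtOver Y} (p : EtOver.prodObj V₁ V₂ ⟶ V) (g : T ⟶ EtOver.bcObj hf V),
      c ≫ p.hom.left = g.hom.left ≫ EtOver.bcπ hf V → t ≫ EtOver.bcMap hf p = g := by
    intro V p g h
    refine EtOver.hom_ext _ _ (hf.hom_ext ?_ ?_)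
    · exact (EtOver.w (t ≫ EtOver.bcMap hf p)).trans (EtOver.w g).symm
    · show (hf.lift T.obj.hom c hc.symm ≫ _) ≫ _ = _
      rw [Category.assoc]
      refine (congrArg (_ ≫ ·) (EtOver.bcMap_snd hf p)).trans ?_
      refine (Category.assoc _ _ _).symm.trans ?_
      exact (congrArg (· ≫ p.hom.left) (hf.lift_snd _ _ _)).trans h
  exact ⟨_, EtOver.prodFst V₁ V₂, EtOver.prodSnd V₁ V₂, t, fin _ _ c₁, fin _ _ c₂⟩

variable (G : AbEt X)

/-- Restriction of families to base changed objects. -/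
noncomputable def resFam (η : (Functor.const (EtOver X)ᵒᵖ).obj (AddCommGrpCat.of (ULift.{u + 1} ℤ)) ⟶
      (sheafToPresheaf (etTop X) AddCommGrpCat.{u + 1}).obj G) :
    (Functor.const (EtOver Y)ᵒᵖ).obj (AddCommGrpCat.of (ULift.{u + 1} ℤ)) ⟶
      (sheafToPresheaf (etTop Y) AddCommGrpCat.{u + 1}).obj ((pushEt hf AddCommGrpCat.{u + 1}).obj G) where
  app V := η.app (op (EtOver.bcObj hf V.unop))
  naturality {V W} g := η.naturality (EtOver.bcMap hf g.unop).op

theorem bijective_resFam (hY : IsAlgSpace Y) : Function.Bijective (resFam hf G) := by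
  have sep : ∀ W : EtOver X, ∀ a b : G.obj.obj (op W),
      (∀ (T : EtOver X) (g : T ⟶ W), bcSieve hf W g → G.obj.map g.op a = G.obj.map g.op b) → a = b :=
    fun W a b h => (Presheaf.IsSheaf.isSheafFor ((sheafCompose _ (forget AddCommGrpCat.{u + 1})).obj G).2 _ (bcSieve_mem hf hY W)).isSeparatedFor.ext
      fun T g hg => h T g hg
  constructor
  · intro η η' h
    refine NatTrans.ext (funext fun W => ConcreteCategory.hom_ext _ _ fun n => sep W.unop _ _ fun T g hg => ?_)
    obtain ⟨V, ⟨t⟩⟩ := hg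
    refine (NatTrans.naturality_apply η g.op n).symm.trans (Eq.trans ?_ (NatTrans.naturality_apply η' g.op n))
    show η.app (op T) n = η'.app (op T) n
    have e : η.app (op (EtOver.bcObj hf V)) n = η'.app (op (EtOver.bcObj hf V)) n :=
      ConcreteCategory.congr_hom (congrArg (fun k => NatTrans.app k (op V)) h) n
    exact (NatTrans.naturality_apply η t.op n).trans
      ((congrArg (G.obj.map t.op) e).trans (NatTrans.naturality_apply η' t.op n).symm)
  · intro θ
    have wd : ∀ (T : EtOver X) (V₁ V₂ : EtOver Y) (g₁ : T ⟶ EtOver.bcObj hf V₁) (g₂ : T ⟶ EtOver.bcObj hf V₂) n,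
        G.obj.map g₁.op (θ.app (op V₁) n) = G.obj.map g₂.op (θ.app (op V₂) n) := by
      intro T V₁ V₂ g₁ g₂ n
      obtain ⟨P, p₁, p₂, t, rfl, rfl⟩ := exists_bc_pair hf g₁ g₂
      rw [op_comp, op_comp, Functor.map_comp, Functor.map_comp, ConcreteCategory.comp_apply,
        ConcreteCategory.comp_apply]
      exact congrArg (G.obj.map t.op) ((NatTrans.naturality_apply θ p₁.op n).symm.trans
        (NatTrans.naturality_apply θ p₂.op n))
    have ex : ∀ (W : EtOver X) (n : ULift.{u + 1} ℤ), ∃ s : G.obj.obj (op W), ∀ (T : EtOver X) (g : T ⟶ W)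
        (V : EtOver Y) (t : T ⟶ EtOver.bcObj hf V), G.obj.map g.op s = G.obj.map t.op (θ.app (op V) n) := by
      intro W n
      let x : Presieve.FamilyOfElements (G.obj ⋙ forget AddCommGrpCat.{u + 1}) (bcSieve hf W).arrows :=
        fun T g hg => G.obj.map hg.choose_spec.some.op (θ.app (op hg.choose) n)
      have hx : x.SieveCompatible := by
        intro T T' g k hg
        show G.obj.map _ _ = G.obj.map k.op (G.obj.map _ _)
        rw [← ConcreteCategory.comp_apply, ← G.obj.map_comp, ← op_comp]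
        exact wd T' _ _ _ _ n
      obtain ⟨s, hs, -⟩ := Presheaf.IsSheaf.isSheafFor ((sheafCompose _ (forget AddCommGrpCat.{u + 1})).obj G).2 _
        (bcSieve_mem hf hY W) x ((Presieve.compatible_iff_sieveCompatible x).2 hx)
      exact ⟨s, fun T g V t => (hs g ⟨V, ⟨t⟩⟩).trans (wd T _ _ _ _ n)⟩
    choose s hs using ex
    refine ⟨{
      app := fun W => AddCommGrpCat.ofHom
        { toFun := s W.unop
          map_zero' := sep _ _ _ fun T g hg => by
            obtain ⟨V, ⟨t⟩⟩ := hg
            exact (hs _ _ T g V t).trans (((congrArg (G.obj.map t.op) (map_zero (θ.app (op V)).hom)).trans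
              (map_zero (G.obj.map t.op).hom)).trans (map_zero (G.obj.map g.op).hom).symm)
          map_add' := fun a b => sep _ _ _ fun T g hg => by
            obtain ⟨V, ⟨t⟩⟩ := hg
            exact (hs _ _ T g V t).trans (by
              rw [map_add (G.obj.map g.op).hom, hs _ _ T g V t, hs _ _ T g V t]
              exact ((congrArg (G.obj.map t.op) (map_add (θ.app (op V)).hom a b)).trans (map_add (G.obj.map t.op).hom _ _))) }
      naturality := fun W W' k => ConcreteCategory.hom_ext _ _ fun n => sep _ _ _ fun T g hg => by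
        obtain ⟨V, ⟨t⟩⟩ := hg
        refine (hs _ n T g V t).trans ?_
        show _ = G.obj.map g.op (G.obj.map k (s W.unop n))
        rw [← ConcreteCategory.comp_apply, ← G.obj.map_comp]
        exact (hs _ n T (g ≫ k.unop) V t).symm }, ?_⟩
    refine NatTrans.ext (funext fun V => ConcreteCategory.hom_ext _ _ fun n => ?_)
    have := hs (EtOver.bcObj hf V.unop) n _ (𝟙 _) V.unop (𝟙 _)
    show s (EtOver.bcObj hf V.unop) n = θ.app V n
    simpa using this

/-- Global sections of a direct image are global sections. -/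
noncomputable def globEquiv (hY : IsAlgSpace Y) :
    ((constantSheaf (etTop X) AddCommGrpCat.{u + 1}).obj (AddCommGrpCat.of (ULift.{u + 1} ℤ)) ⟶ G) ≃+
      ((constantSheaf (etTop Y) AddCommGrpCat.{u + 1}).obj (AddCommGrpCat.of (ULift.{u + 1} ℤ)) ⟶
        (pushEt hf AddCommGrpCat.{u + 1}).obj G) :=
  ((sheafificationAdjunction (etTop X) AddCommGrpCat.{u + 1}).homAddEquiv _ G).trans
    ((AddEquiv.ofBijective (AddMonoidHom.mk' (resFam hf G) fun _ _ => rfl) (bijective_resFam hf G hY)).trans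
      ((sheafificationAdjunction (etTop Y) AddCommGrpCat.{u + 1}).homAddEquiv _ _).symm)

theorem globEquiv_naturality (hY : IsAlgSpace Y) {G G' : AbEt X} (φ : G ⟶ G')
    (y : (constantSheaf (etTop X) AddCommGrpCat.{u + 1}).obj (AddCommGrpCat.of (ULift.{u + 1} ℤ)) ⟶ G) :
    globEquiv hf G' hY (y ≫ φ) = globEquiv hf G hY y ≫ (pushEt hf AddCommGrpCat.{u + 1}).map φ := by
  show ((sheafificationAdjunction (etTop Y) AddCommGrpCat.{u + 1}).homEquiv _ _).symm (resFam hf G'
      ((sheafificationAdjunction (etTop X) AddCommGrpCat.{u + 1}).homEquiv _ _ (y ≫ φ))) = _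
  rw [Adjunction.homEquiv_naturality_right,
    show resFam hf G' ((sheafificationAdjunction (etTop X) AddCommGrpCat.{u + 1}).homEquiv _ _ y ≫
        (sheafToPresheaf _ _).map φ) = resFam hf G ((sheafificationAdjunction (etTop X) AddCommGrpCat.{u + 1}).homEquiv _ _ y) ≫
        (sheafToPresheaf _ _).map ((pushEt hf AddCommGrpCat.{u + 1}).map φ) from rfl,
    Adjunction.homEquiv_naturality_right_symm]
  rfl

end Groth.Agent.AlgSpMod
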