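import Groth.Agent.AlgSpMod.AffineVanish
import Groth.Agent.AlgSpMod.PushGlobal
import Groth.Agent.AlgSpMod.ClosedDescent
import Groth.Agent.AlgSpDec.IntPushExact
import Groth.Agent.SitePullUnit.DerivedClass
import Groth.Agent.SiteBase.LerayDegen

/-!
# Direct images of acyclic sheaves along affine morphisms
-/

set_option backward.isDefEq.respectTransparency false
set_option backward.isDefEq.respectTransparency.types false
set_option maxHeartbeats 1000000

universe u

open CategoryTheory CategoryTheory.Limits AlgebraicGeometry Opposite AlgSp Abelian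
open Groth.Agent Groth.Agent.AlgSpLib Groth.Agent.AlgSpDec

namespace Groth.Agent.AlgSpMod

variable {S : Scheme.{u}} {X Y : Sp S} {f : X ⟶ Y} (hf : Representable f)
  (hA : ∀ E : EtOver Y, Aff E → Aff (EtOver.bcObj hf E))

include hA in
theorem epi_map_push_g {C : ShortComplex (AbEt X)} (hC : C.ShortExact) (h1 : IsAffAcyc C.X₁) :
    Epi ((pushEt hf AddCommGrpCat.{u + 1}).map C.g) := by
  rw [← Sheaf.isLocallySurjective_iff_epi']
  refine ⟨fun {E} s => ?_⟩
  obtain ⟨κ, V, h, hV, hcov⟩ := exists_affine_open_cover E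
  refine (etTop Y).superset_covering ?_ hcov
  rw [Sieve.ofArrows, Sieve.generate_le_iff, Presieve.ofArrows_le_iff]
  intro k
  exact sections_surjective C hC h1 (hA _ (hV k)) _

include hA in
theorem shortExact_map_push {C : ShortComplex (AbEt X)} (hC : C.ShortExact) (h1 : IsAffAcyc C.X₁) :
    (C.map (pushEt hf AddCommGrpCat.{u + 1})).ShortExact := by
  haveI := IntPushExact.preservesFiniteLimits_push hf
  haveI := hC.mono_f
  haveI : Mono (C.map (pushEt hf AddCommGrpCat.{u + 1})).f :=
    inferInstanceAs (Mono ((pushEt hf AddCommGrpCat.{u + 1}).map C.f))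
  haveI : Epi (C.map (pushEt hf AddCommGrpCat.{u + 1})).g := epi_map_push_g hf hA hC h1
  haveI : (pushEt hf AddCommGrpCat.{u + 1}).PreservesZeroMorphisms := inferInstance
  exact ShortComplex.ShortExact.mk' (hC.exact.map_of_mono_of_preservesKernel _ hC.mono_f inferInstance)
    inferInstance inferInstance

include hA in
theorem isZero_rpush_of_isAffAcyc (G : AbEt X) (hG : IsAffAcyc G) (q : ℕ) :
    IsZero ((RpushEt hf (q + 1)).obj G) := by
  haveI := IntPushExact.preservesFiniteLimits_push hf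
  exact SitePullUnit.isZero_rightDerived_of_class (pushEt hf AddCommGrpCat.{u + 1}) IsAffAcyc
    (fun C hC h1 h2 => isAffAcyc_X₃ C hC h1 (isAffAcyc_of_injective C.X₂))
    (fun C hC h1 _ => epi_map_push_g hf hA hC h1) hG q

include hA in
theorem nonempty_hEt_addEquiv_push (hX : IsAlgSpace X) (hY : IsAlgSpace Y) (G : AbEt X) (hG : IsAffAcyc G) (i : ℕ) :
    Nonempty (HEt X G i ≃+ HEt Y ((pushEt hf AddCommGrpCat.{u + 1}).obj G) i) :=
  LerayDegen.ext_equiv_of_class ((constantSheaf (etTop X) AddCommGrpCat.{u + 1}).obj (AddCommGrpCat.of (ULift.{u + 1} ℤ)))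
    ((constantSheaf (etTop Y) AddCommGrpCat.{u + 1}).obj (AddCommGrpCat.of (ULift.{u + 1} ℤ)))
    (pushEt hf AddCommGrpCat.{u + 1}) (fun I _ => injective_pushEt hf hX hY I)
    (fun G => Ext.addEquiv₀.trans ((globEquiv hf G hY).trans Ext.addEquiv₀.symm))
    (fun {G G'} φ y => by
      obtain ⟨y, rfl⟩ := (Ext.mk₀_bijective _ _).2 y
      rw [Ext.mk₀_comp_mk₀]
      show Ext.addEquiv₀.symm (globEquiv hf G' hY (Ext.addEquiv₀ (Ext.addEquiv₀.symm (y ≫ φ)))) =
        (Ext.addEquiv₀.symm (globEquiv hf G hY (Ext.addEquiv₀ (Ext.addEquiv₀.symm y)))).comp (Ext.mk₀ _) _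
      rw [AddEquiv.apply_symm_apply, AddEquiv.apply_symm_apply, globEquiv_naturality hf hY φ y]
      exact (Ext.mk₀_comp_mk₀ _ _).symm)
    IsAffAcyc (fun {T} hT h1 h2 => isAffAcyc_X₃ T hT h1 (isAffAcyc_of_injective T.X₂))
    (fun {T} hT h1 _ => shortExact_map_push hf hA hT h1) G hG i

end Groth.Agent.AlgSpMod
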