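import Groth.Agent.AlgSpMod.ClosedDescent

/-!
# The module on the closed subspace
-/

set_option backward.isDefEq.respectTransparency false
set_option backward.isDefEq.respectTransparency.types false
set_option maxHeartbeats 1000000

universe u

open CategoryTheory CategoryTheory.Limits AlgebraicGeometry Opposite AlgSp
open Groth.Agent Groth.Agent.AlgSpLib Groth.Agent.AlgSpDec Groth.Agent.AlgSpDec.ClosedPush

namespace Groth.Agent.AlgSpMod

variable {S : Scheme.{u}} {Z X : Sp S} {f : Z ⟶ X} {hi : RepWith @IsClosedImmersion f} {F : ModEt X}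

theorem subsingleton_of_avoids (hk : Killed hi F) {E : EtOver X} (hE : Avoids f E) :
    Subsingleton (sectModEt F E) := by
  refine subsingleton_of_forall_eq 0 fun s => ?_
  obtain ⟨κ, V, h, hV, hcov⟩ := exists_affine_open_cover E
  refine ext_of_cover' F h hcov fun k => ?_
  haveI := isEmpty_bc_of_avoids hi.1 (avoids_of_hom (h k) hE)
  have h1 : β hi.1 (V k) 1 = 0 := ULift.ext _ _
    (TopCat.Presheaf.section_ext ((EtOver.bc hi.1).obj (V k)).obj.left.left.sheaf _ _ _ fun x _ => isEmptyElim x)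
  rw [map_zero, ← hk (V k) (hV k) 1 (F.val.map (h k).op s) h1]
  exact (one_smul _ _).symm

theorem exists_sheaf (hX : IsAlgSpace X) (hk : Killed hi F) :
    ∃ G₀ : AbEt Z, Nonempty ((pushEt hi.1 AddCommGrpCat.{u + 1}).obj G₀ ≅ (toAbEt X).obj F) := by
  have H := liftableSp_of_isClosedImmersion hi
  haveI := isCoverDense_bc hi.1 hX H
  haveI := isLocallyFull_bc hi.1 H
  have hcl : ∀ E : EtOver X, IsClosed (Set.range (EtOver.bcπ hi.1 E).left) := fun E =>
    haveI : IsClosedImmersion (EtOver.bcπ hi.1 E).left := hi.property_snd E.obj.hom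
    (EtOver.bcπ hi.1 E).left.isClosedEmbedding.isClosed_range
  refine mem_essImage hi.1 hX H _ ((toAbEt X).obj F)
    ((Presheaf.isSheaf_iff_isSheaf_forget _ _ (forget AddCommGrpCat.{u + 1})).2
    ((isSheaf_iff_isSheaf_of_type _ _).2 (isSheaf_induced hi.1 hcl _ ((isSheaf_iff_isSheaf_of_type _ _).1
      ((Presheaf.isSheaf_iff_isSheaf_forget _ _ (forget AddCommGrpCat.{u + 1})).1 ((toAbEt X).obj F).property))
      fun E hE => ?_)))
  haveI := subsingleton_of_avoids hk hE
  exact ⟨@Unique.mk' _ ⟨(0 : sectModEt F E)⟩ (subsingleton_of_avoids hk hE)⟩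

/-- Pairs of a function and a section. -/
noncomputable def pairPsh (G₀ : AbEt Z) : (EtOver Z)ᵒᵖ ⥤ Type (u + 1) where
  obj W := ↑((OEt Z).obj.obj W) × ↑(G₀.obj.obj W)
  map g := ↾ fun p => ((OEt Z).obj.map g p.1, G₀.obj.map g p.2)
  map_id W := by ext p <;> simp
  map_comp g h := by ext p <;> simp

/-- The module structure on a sheaf inducing a killed module. -/
theorem exists_module (hX : IsAlgSpace X) (hk : Killed hi F) :
    ∃ G : ModEt Z, Nonempty ((pushModEt hi.1).obj G ≅ F) := by
  classical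
  obtain ⟨G₀, ⟨e⟩⟩ := exists_sheaf hX hk
  have H := liftableSp_of_isClosedImmersion hi
  haveI := isCoverDense_bc hi.1 hX H
  haveI := isLocallyFull_bc hi.1 H
  let b := EtOver.bc hi.1
  let eN : ∀ N : EtOver X, ↑(G₀.obj.obj (op (b.obj N))) ≃+ sectModEt F N := fun N =>
    (((sheafToPresheaf _ _).mapIso e).app (op N)).addCommGroupIsoToAddEquiv
  have nat : ∀ {N N' : EtOver X} (g : N' ⟶ N) (m : ↑(G₀.obj.obj (op (b.obj N)))),
      eN N' (G₀.obj.map (b.map g).op m) = F.val.map g.op (eN N m) := fun g m =>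
    congr($(e.hom.hom.naturality g.op) m)
  let G' := (sheafCompose (etTop Z) (CategoryTheory.forget AddCommGrpCat.{u + 1})).obj G₀
  let α : b.op ⋙ pairPsh G₀ ⟶ b.op ⋙ G'.obj :=
    { app := fun N => ↾ fun p => (eN N.unop).symm (act hk p.1 (eN N.unop p.2))
      naturality := fun N N' g => by
        ext p
        obtain ⟨c, m⟩ := p
        show (eN N'.unop).symm (act hk (rs (b.map g.unop) c) (eN N'.unop (G₀.obj.map (b.map g.unop).op m))) =
          G₀.obj.map (b.map g.unop).op ((eN N.unop).symm (act hk c (eN N.unop m)))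
        rw [AddEquiv.symm_apply_eq, nat, nat, AddEquiv.apply_symm_apply]
        exact (map_act hk g.unop c _).symm }
  let sc : ∀ W : (EtOver Z)ᵒᵖ, ↑((OEt Z).obj.obj W) → ↑(G₀.obj.obj W) → ↑(G₀.obj.obj W) := fun W r m =>
    Functor.IsCoverDense.Types.appHom α W.unop ((r, m) : (pairPsh G₀).obj W)
  have hres : ∀ (W : EtOver Z) (N : EtOver X) (g : b.obj N ⟶ W) r m,
      G₀.obj.map g.op (sc (op W) r m) =
        (eN N).symm (act hk (rs g r) (eN N (G₀.obj.map g.op m))) := fun W N g r m =>
    Functor.IsCoverDense.Types.appHom_restrict α g.op _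
  have hext : ∀ {W : EtOver Z} {x y : ↑(G₀.obj.obj (op W))},
      (∀ (N : EtOver X) (g : b.obj N ⟶ W), G₀.obj.map g.op x = G₀.obj.map g.op y) → x = y := fun {W x y} h =>
    Functor.IsCoverDense.ext b G' W fun N g => h N g
  let inst : ∀ W : (EtOver Z)ᵒᵖ, Module ↑((OEtRing Z).obj.obj W) ↑(G₀.obj.obj W) := fun W =>
    letI : SMul ↑((OEtRing Z).obj.obj W) ↑(G₀.obj.obj W) := ⟨sc W⟩
    { one_smul := fun m => hext fun N g => (hres _ N g _ m).trans (by
        rw [show rs g (1 : Rg W.unop) = 1 from map_one _, act_one, AddEquiv.symm_apply_apply])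
      mul_smul := fun r r' m => hext fun N g => (hres _ N g _ m).trans (by
        rw [show rs g ((r * r' : ↑((OEtRing Z).obj.obj W)) : Rg W.unop) = rs g r * rs g r' from map_mul _ _ _, mul_act]
        refine Eq.trans ?_ (hres _ N g r _).symm
        rw [show G₀.obj.map g.op (r' • m) = _ from hres _ N g r' m, AddEquiv.apply_symm_apply])
      smul_zero := fun r => hext fun N g => (hres _ N g _ _).trans (by
        rw [map_zero, map_zero, act_smul_zero, map_zero])
      smul_add := fun r m m' => hext fun N g => (hres _ N g _ _).trans (by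
        rw [map_add, map_add, act_add, map_add]
        exact ((map_add (G₀.obj.map g.op).hom _ _).trans
          (congrArg₂ (· + ·) (hres _ N g r m) (hres _ N g r m'))).symm)
      add_smul := fun r r' m => hext fun N g => (hres _ N g _ m).trans (by
        rw [show rs g ((r + r' : ↑((OEtRing Z).obj.obj W)) : Rg W.unop) = rs g r + rs g r' from map_add _ _ _,
          add_act, map_add]
        exact ((map_add (G₀.obj.map g.op).hom _ _).trans
          (congrArg₂ (· + ·) (hres _ N g r m) (hres _ N g r' m))).symm)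
      zero_smul := fun m => hext fun N g => (hres _ N g _ m).trans (by
        rw [show rs g ((0 : ↑((OEtRing Z).obj.obj W)) : Rg W.unop) = 0 from map_zero _, act_zero, map_zero,
          map_zero]) }
  letI := inst
  have hsmul : ∀ ⦃W W' : (EtOver Z)ᵒᵖ⦄ (g : W ⟶ W') (r : ↑((OEtRing Z).obj.obj W)) (m : ↑(G₀.obj.obj W)),
      G₀.obj.map g (r • m) = (OEtRing Z).obj.map g r • G₀.obj.map g m := fun W W' g r m =>
    congr($((Functor.IsCoverDense.Types.presheafHom α).naturality g) ((r, m) : (pairPsh G₀).obj W)).symm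
  let G : ModEt Z := ⟨PresheafOfModules.ofPresheaf G₀.obj hsmul, G₀.property⟩
  have hlin : ∀ (N : (EtOver X)ᵒᵖ) (r : ↑((OEtRing X).obj.obj N)) (m : ↑(G₀.obj.obj (op (b.obj N.unop)))),
      eN N.unop (sc (op (b.obj N.unop)) (β hi.1 N.unop r) m) = sm r (eN N.unop m) := fun N r m => by
    have h1 := hres (b.obj N.unop) N.unop (𝟙 _) (β hi.1 N.unop r) m
    rw [show G₀.obj.map (𝟙 (b.obj N.unop)).op (sc (op (b.obj N.unop)) (β hi.1 N.unop r) m) =
      sc (op (b.obj N.unop)) (β hi.1 N.unop r) m from congr($(G₀.obj.map_id _) _),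
      show G₀.obj.map (𝟙 (b.obj N.unop)).op m = m from congr($(G₀.obj.map_id _) _), rs_id] at h1
    rw [h1, AddEquiv.apply_symm_apply, act_β]
  let iso : ((pushModEt hi.1).obj G).val ≅ F.val := PresheafOfModules.isoMk
    (fun N => LinearEquiv.toModuleIso
      (X₁ := ((pushModEt hi.1).obj G).val.obj N) (X₂ := F.val.obj N)
      { eN N.unop with map_smul' := fun r m => hlin N r m })
    (fun N N' g => by
      ext m
      exact nat g.unop m)
  exact ⟨G, ⟨(SheafOfModules.fullyFaithfulForget _).preimageIso iso⟩⟩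

end Groth.Agent.AlgSpMod
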