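import Groth.Agent.AlgSpMod.Finite
import Groth.Agent.AlgSpMod.Exact
import Groth.Agent.AlgSpDec.Fibres
import Groth.Agent.AlgSpDec.WeakAssEmpty
import Mathlib.RingTheory.Ideal.AssociatedPrime.Finiteness

/-!
# Coherent modules on locally Noetherian spaces
-/

set_option backward.isDefEq.respectTransparency false
set_option backward.isDefEq.respectTransparency.types false
set_option maxHeartbeats 1000000

universe u

open CategoryTheory CategoryTheory.Limits AlgebraicGeometry Opposite AlgSp TensorProduct
open Groth.Agent Groth.Agent.AlgSpLib Groth.Agent.AlgSpDec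

namespace Groth.Agent.AlgSpMod

variable {S : Scheme.{u}} {X : Sp S} {M N : ModEt X}

theorem isNoetherianRing_Rg (hX : IsLocNoethSp X) (E : EtOver X) (hE : Aff E) : IsNoetherianRing (Rg E) := by
  have : IsLocallyNoetherian E.obj.left.left := isLocallyNoetherian_chart E.property hX
  haveI := hE
  have h : IsNoetherianRing Γ(E.obj.left.left, ⊤) := IsLocallyNoetherian.component_noetherian ⟨⊤, isAffineOpen_top _⟩
  exact isNoetherianRing_of_ringEquiv _ (ULift.ringEquiv (R := Γ(E.obj.left.left, ⊤))).symm

theorem isFinitePresentation_of_finite (hX : IsLocNoethSp X) (h : Good M)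
    (hft : ∀ E : EtOver X, Aff E → Module.Finite (Rg E) (SA M (𝟙 E))) : M.IsFinitePresentation :=
  isFinitePresentation_of_good h fun E hE => by
    have := isNoetherianRing_Rg hX E hE
    have := hft E hE
    exact Module.finitePresentation_of_finite _ _

theorem finite_of_fp [M.IsFinitePresentation] (E : EtOver X) (hE : Aff E) : Module.Finite (Rg E) (SA M (𝟙 E)) := by
  haveI := hE
  have := fp_SA (M := M) E
  infer_instance

theorem good_of_fp (M : ModEt X) [M.IsFinitePresentation] : Good M :=
  have : M.IsQuasicoherent := inferInstance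
  good_of_qcoh M

/-- An epimorphism with good source and target is surjective on sections over affine objects. -/
theorem surjective_of_epi (φ : M ⟶ N) [Epi φ] (hM : Good M) (hN : Good N) {E : EtOver X} (hE : Aff E) :
    Function.Surjective (appSA φ (𝟙 E)) := by
  let C := ShortComplex.mk (kernel.ι φ) φ (kernel.condition φ)
  have hex : C.Exact := ShortComplex.kernelSequence_exact φ
  have hm : Mono C.f := inferInstanceAs (Mono (kernel.ι φ))
  have hC : C.ShortExact := { exact := hex, mono_f := hm, epi_g := inferInstanceAs (Epi φ) }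
  exact surjective_appSA C hC (good_of_left_exact C hex hm hM hN) hE

theorem good_kernel (φ : M ⟶ N) (hM : Good M) (hN : Good N) : Good (kernel φ) :=
  good_of_left_exact (ShortComplex.mk (kernel.ι φ) φ (kernel.condition φ)) (ShortComplex.kernelSequence_exact φ)
    (inferInstanceAs (Mono (kernel.ι φ))) hM hN

theorem good_cokernel (φ : M ⟶ N) (hM : Good M) (hN : Good N) : Good (cokernel φ) :=
  good_of_right_exact (ShortComplex.mk φ (cokernel.π φ) (cokernel.condition φ)) (ShortComplex.cokernelSequence_exact φ)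
    (inferInstanceAs (Epi (cokernel.π φ))) hM hN

theorem appSA_injective (φ : M ⟶ N) [Mono φ] {E F : EtOver X} (g : F ⟶ E) : Function.Injective (appSA φ g) := by
  let G := SheafOfModules.forget (OEtRing X) ⋙ PresheafOfModules.evaluation _ (op F)
  exact (ModuleCat.mono_iff_injective (G.map φ)).1 inferInstance

theorem finite_of_mono (hX : IsLocNoethSp X) (φ : M ⟶ N) [Mono φ] (E : EtOver X) (hE : Aff E)
    [Module.Finite (Rg E) (SA N (𝟙 E))] : Module.Finite (Rg E) (SA M (𝟙 E)) := by
  have := isNoetherianRing_Rg hX E hE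
  exact Module.Finite.of_injective (appSA φ (𝟙 E)) (appSA_injective φ _)

theorem finite_of_epi (φ : M ⟶ N) [Epi φ] (hM : Good M) (hN : Good N) (E : EtOver X) (hE : Aff E)
    [Module.Finite (Rg E) (SA M (𝟙 E))] : Module.Finite (Rg E) (SA N (𝟙 E)) :=
  Module.Finite.of_surjective (appSA φ (𝟙 E)) (surjective_of_epi φ hM hN hE)

/-- A good module without sections over a family of affine charts covering the space is zero. -/
theorem isZero_of_cover (hM : Good M)
    (h : ∀ x : Points X, ∃ (E : EtOver X) (_ : IsAffine E.obj.left.left) (u : ↥E.obj.left.left),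
      Points.ofPt E.obj.hom u = x ∧ ∀ s : SA M (𝟙 E), s = 0) : IsZero M := by
  have : M.IsQuasicoherent := hM.isQuasicoherent
  refine WeakAssEmpty.isZero_of_empty (Set.eq_empty_iff_forall_notMem.2 fun x hx => ?_)
  obtain ⟨E, hE, u, hu, hs⟩ := h x
  obtain ⟨s, hs'⟩ := (isWeakAssOn_iff M E u).1 (isWeakAssOn_of_mem M hx E u hu)
  refine (inferInstance : (pR E u).IsPrime).ne_top ((Ideal.eq_top_iff_one _).2 (hs'.1.2 ?_))
  rw [WeakAss.mem_annEl, one_smul]
  exact hs s

/-- A quasi-compact set of points is covered by finitely many affine charts. -/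
theorem exists_finite_charts (hA : IsAlgSpace X) {W : Set (Points X)} (hW : IsCompact W) :
    ∃ (t : Finset {E : EtOver X // IsAffine E.obj.left.left}),
      W ⊆ ⋃ E ∈ t, Set.range (Points.ofPt E.1.obj.hom) := by
  refine hW.elim_finite_subcover (fun E : {E : EtOver X // IsAffine E.obj.left.left} =>
    Set.range (Points.ofPt E.1.obj.hom)) (fun E => (isOpenMap_ofPt E.1.property).isOpen_range) fun x _ => ?_
  obtain ⟨E, hE, u, hu⟩ := exists_affine_chart_point hA x
  exact Set.mem_iUnion.2 ⟨⟨E, hE⟩, u, hu⟩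

theorem pR_injective (E : EtOver X) [IsAffine E.obj.left.left] : Function.Injective (pR E) := by
  intro u v h
  let d : Rg E →+* Γ(E.obj.left.left, ⊤) := (ULift.ringEquiv (R := Γ(E.obj.left.left, ⊤))).toRingHom
  have hd : Function.Surjective d := (ULift.ringEquiv (R := Γ(E.obj.left.left, ⊤))).surjective
  have h' := Ideal.comap_injective_of_surjective d hd (show Ideal.comap d (primeAtPt _ u) = Ideal.comap d (primeAtPt _ v) from h)
  rw [WeakAssEmpty.primeAtPt_eq, WeakAssEmpty.primeAtPt_eq] at h'
  exact E.obj.left.left.isoSpec.hom.homeomorph.injective (PrimeSpectrum.ext h')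

/-- A coherent module has finitely many weakly associated points on an affine chart. -/
theorem finite_isWeakAssOn (hX : IsLocNoethSp X) (E : EtOver X) [IsAffine E.obj.left.left]
    [Module.Finite (Rg E) (SA M (𝟙 E))] : {u | IsWeakAssOn M E u}.Finite := by
  have := isNoetherianRing_Rg hX E inferInstance
  refine Set.Finite.of_injOn (f := pR E) (t := associatedPrimes (Rg E) (SA M (𝟙 E))) (fun u hu => ?_)
    (pR_injective E).injOn (associatedPrimes.finite _ _)
  obtain ⟨hp, m, hm⟩ := WeakAss.mem_ass_of_mem_weakAss_of_fg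
    (IsNoetherian.noetherian (pR E u : Submodule (Rg E) (Rg E))) ((isWeakAssOn_iff M E u).1 hu)
  refine ⟨hp, m, ?_⟩
  have e : (⊥ : Submodule (Rg E) (SA M (𝟙 E))).colon {m} = WeakAss.annEl (Rg E) m := by
    ext r
    rw [WeakAss.mem_annEl, Submodule.mem_colon_singleton, Submodule.mem_bot]
  rw [e]
  exact hp.radical.symm.trans (congrArg Ideal.radical hm)

theorem finite_weakAss_inter (hA : IsAlgSpace X) (hX : IsLocNoethSp X) [M.IsQuasicoherent] [M.IsFiniteType]
    {W : Set (Points X)} (hW : IsCompact W) : (WeakAssEt M ∩ W).Finite := by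
  obtain ⟨t, ht⟩ := exists_finite_charts hA hW
  refine Set.Finite.subset (t.finite_toSet.biUnion (t := fun E => Points.ofPt E.1.obj.hom '' {u | @IsWeakAssOn _ _ M E.1 E.2 u})
    fun E _ => ?_) fun x hx => ?_
  · haveI := E.2
    have := finite_SA (M := M) E.1
    exact (finite_isWeakAssOn hX E.1).image _
  · obtain ⟨E, hEt, u, hu⟩ : ∃ E ∈ t, x ∈ Set.range (Points.ofPt E.1.obj.hom) := by simpa using ht hx.2
    haveI := E.2
    exact Set.mem_biUnion hEt ⟨u, isWeakAssOn_of_mem M hx.1 E.1 u hu, hu⟩

/-- Quasi-coherent submodules of a coherent module on a quasi-compact locally Noetherian space satisfy ACC. -/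
theorem acc (hA : IsAlgSpace X) (hX : IsLocNoethSp X) (hq : IsCompact (Set.univ : Set (Points X))) (hM : Good M)
    (hft : ∀ E : EtOver X, Aff E → Module.Finite (Rg E) (SA M (𝟙 E)))
    (P : ℕ →o Subobject M) (hP : ∀ n, Good (Subobject.underlying.obj (P n))) :
    ∃ n, ∀ m, n ≤ m → P m = P n := by
  obtain ⟨t, ht⟩ := exists_finite_charts hA hq
  have hk : ∀ E : {E : EtOver X // IsAffine E.obj.left.left}, ∃ n, ∀ m, n ≤ m →
      LinearMap.range (appSA (P m).arrow (𝟙 E.1)) = LinearMap.range (appSA (P n).arrow (𝟙 E.1)) := by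
    intro E
    haveI := isNoetherianRing_Rg hX E.1 E.2
    haveI := hft E.1 E.2
    let f : ℕ →o Submodule (Rg E.1) (SA M (𝟙 E.1)) :=
      ⟨fun n => LinearMap.range (appSA (P n).arrow (𝟙 E.1)), fun a b hab => by
        rintro _ ⟨x, rfl⟩
        refine ⟨appSA (Subobject.ofLE _ _ (P.monotone hab)) (𝟙 E.1) x, ?_⟩
        exact congr(($(Subobject.ofLE_arrow (P.monotone hab))).val.app (op E.1) (show sectModEt _ E.1 from x))⟩
    obtain ⟨n, hn⟩ := monotone_stabilizes_iff_noetherian.2 inferInstance f
    exact ⟨n, fun m hm => (hn m hm).symm⟩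
  choose n hn using hk
  refine ⟨t.sup n, fun m hm => ?_⟩
  let φ := Subobject.ofLE _ _ (P.monotone hm)
  have hz : IsZero (cokernel φ) := by
    refine isZero_of_cover (good_cokernel φ (hP _) (hP _)) fun x => ?_
    obtain ⟨E, hEt, u, hu⟩ : ∃ E ∈ t, x ∈ Set.range (Points.ofPt E.1.obj.hom) := by
      simpa using ht (Set.mem_univ x)
    refine ⟨E.1, E.2, u, hu, fun s => ?_⟩
    obtain ⟨y, rfl⟩ := surjective_of_epi (cokernel.π φ) (hP m) (good_cokernel φ (hP _) (hP _)) E.2 s
    have hy : appSA (P m).arrow (𝟙 E.1) y ∈ LinearMap.range (appSA (P (t.sup n)).arrow (𝟙 E.1)) := by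
      rw [hn E (t.sup n) (Finset.le_sup hEt), ← hn E m ((Finset.le_sup hEt).trans hm)]
      exact ⟨y, rfl⟩
    obtain ⟨x', hx'⟩ := hy
    have e : y = appSA φ (𝟙 E.1) x' := by
      apply appSA_injective (P m).arrow (𝟙 E.1)
      rw [← hx']
      exact (congr(($(Subobject.ofLE_arrow (P.monotone hm))).val.app (op E.1) (show sectModEt _ E.1 from x'))).symm
    rw [e]
    exact congr(($(cokernel.condition φ)).val.app (op E.1) (show sectModEt _ E.1 from x'))
  have : Epi φ := Preadditive.epi_of_isZero_cokernel φ hz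
  have : IsIso φ := isIso_of_mono_of_epi φ
  exact le_antisymm (Subobject.le_of_comm (inv φ) (by rw [IsIso.inv_comp_eq, Subobject.ofLE_arrow])) (P.monotone hm)

end Groth.Agent.AlgSpMod
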