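import Groth.Agent.AlgSpMod.ClosedModule
import Groth.Agent.AlgSpMod.Noeth

/-!
# Quasi-coherence on the closed subspace
-/

set_option backward.isDefEq.respectTransparency false
set_option backward.isDefEq.respectTransparency.types false
set_option maxHeartbeats 1000000

universe u

open CategoryTheory CategoryTheory.Limits AlgebraicGeometry Opposite AlgSp TensorProduct
open Groth.Agent Groth.Agent.AlgSpLib Groth.Agent.AlgSpDec Groth.Agent.AlgSpDec.ClosedPush

namespace Groth.Agent.AlgSpMod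

variable {S : Scheme.{u}} {Z X : Sp S} {f : Z ⟶ X} (hi : RepWith @IsClosedImmersion f)

theorem exists_affine_lift {N : EtOver X} (M : EtOver Z) (h : M ⟶ EtOver.bcObj hi.1 N) (w : ↥M.obj.left.left) :
    ∃ (E : EtOver X) (n : E ⟶ N) (g : EtOver.bcObj hi.1 E ⟶ M),
      Aff E ∧ g ≫ h = EtOver.bcMap hi.1 n ∧ w ∈ Set.range g.hom.left.left := by
  obtain ⟨E₀, n₀, g₀, he, b, rfl⟩ := liftableSp_of_isClosedImmersion hi N M h w
  obtain ⟨O, hO, hbO, -⟩ := exists_isAffineOpen_mem_and_subset (U := (⊤ : E₀.obj.left.left.Opens))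
    (x := (EtOver.bcπ hi.1 E₀).left b) trivial
  let E := etOpen E₀ O
  let j : E ⟶ E₀ := etOpenι E₀ O
  obtain ⟨o, ho⟩ := (range_etOpenι E₀ O).ge hbO
  obtain ⟨b', hb', -⟩ := Scheme.exists_preimage_of_isPullback (EtOver.isPullback_bcMap_left hi.1 j) b o ho.symm
  refine ⟨E, j ≫ n₀, EtOver.bcMap hi.1 j ≫ g₀, hO, ?_, ⟨b', ?_⟩⟩
  · rw [Category.assoc, he]
    exact ((EtOver.bc hi.1).map_comp j n₀).symm
  · exact (Scheme.Hom.comp_apply _ _ b').trans (congrArg _ hb')

variable (G : ModEt Z) (hG : Good ((pushModEt hi.1).obj G)) {N : EtOver X} (hN : Aff N)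

include hG hN in
theorem θ_bijective_lift {E : EtOver X} (hE : Aff E) (n : E ⟶ N) (P : Over (base (EtOver.bcObj hi.1 N)))
    (g : EtOver.bcObj hi.1 E ⟶ P.left.left) (hg : g ≫ P.hom.left = EtOver.bcMap hi.1 n) :
    Function.Bijective (θ (G.over (EtOver.bcObj hi.1 N)) (idι G (EtOver.bcObj hi.1 N)) (sub P g)) := by
  let B := EtOver.bcObj hi.1 N
  let Q := sub P g
  let π : RA n ⊗[Rg N] SA ((pushModEt hi.1).obj G) (𝟙 N) →+ AR Q ⊗[Rg (base B).left] SA G (𝟙 (base B).left) :=
    TensorProduct.liftAddHom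
      (AddMonoidHom.mk'
        (fun a => AddMonoidHom.mk'
          (fun x => (show AR Q from β hi.1 E a) ⊗ₜ[Rg (base B).left] (show SA G (𝟙 (base B).left) from x))
          (fun x y => tmul_add _ _ _))
        (fun a a' => AddMonoidHom.ext fun x => by
          show (show AR Q from β hi.1 E (a + a')) ⊗ₜ[Rg (base B).left] _ = _
          rw [show (show AR Q from β hi.1 E (a + a')) =
            (show AR Q from β hi.1 E a) + (show AR Q from β hi.1 E a') from map_add (β hi.1 E) a a']
          exact add_tmul _ _ _))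
      (fun r a x => by
        have e1 : (show AR Q from β hi.1 E (r • a)) =
            (show Rg (base B).left from β hi.1 N r) • (show AR Q from β hi.1 E a) := by
          refine (map_mul (β hi.1 E) (rs n r) a).trans ?_
          refine congrArg (· * _) ((β_natural hi.1 n r).symm.trans ?_)
          exact congrArg (fun m => rs m (β hi.1 N r)) hg.symm
        show (show AR Q from β hi.1 E (r • a)) ⊗ₜ[Rg (base B).left] _ = _
        rw [e1, TensorProduct.smul_tmul]
        refine congrArg (fun y => (show AR Q from β hi.1 E a) ⊗ₜ[Rg (base B).left] y) ?_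
        exact (smul_SA_id (M := G) _ _).trans
          ((smul_SA_id (M := (pushModEt hi.1).obj G) r x).symm))
  have key : ∀ w, (θ (G.over B) (idι G B) Q (π w) : sectModEt G (EtOver.bcObj hi.1 E)) =
      bc ((pushModEt hi.1).obj G) n w := by
    intro w
    induction w with
    | zero => simp only [map_zero]
    | tmul a x =>
      refine (θ_tmul (G.over B) (idι G B) Q _ _).trans ?_
      refine Eq.trans ?_ (bc_tmul ((pushModEt hi.1).obj G) n a x).symm
      show HSMul.hSMul (α := Rg (EtOver.bcObj hi.1 E)) (β := SA G (𝟙 (EtOver.bcObj hi.1 E))) (β hi.1 E a)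
          (G.val.map (g ≫ P.hom.left).op x) = HSMul.hSMul (α := Rg (EtOver.bcObj hi.1 E))
          (β := SA G (𝟙 (EtOver.bcObj hi.1 E))) (β hi.1 E a) (G.val.map (EtOver.bcMap hi.1 n).op x)
      rw [hg]
      rfl
    | add a b ha hb => simp only [map_add]; exact congrArg₂ (· + ·) ha hb
  have hπ : Function.Surjective π := by
    intro y
    induction y with
    | zero => exact ⟨0, map_zero _⟩
    | tmul c x =>
      obtain ⟨a, ha⟩ := surjective_β hi E hE c
      exact ⟨a ⊗ₜ (show SA ((pushModEt hi.1).obj G) (𝟙 N) from x),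
        congrArg (fun c' : AR Q => c' ⊗ₜ[Rg (base B).left] x) ha⟩
    | add a b ha hb =>
      obtain ⟨⟨u, rfl⟩, ⟨v, rfl⟩⟩ := ha, hb
      exact ⟨u + v, map_add _ _ _⟩
  obtain ⟨hinj, hsur⟩ := hG.bij n hN hE
  refine ⟨?_, fun m => ?_⟩
  · rw [injective_iff_map_eq_zero]
    intro y hy
    obtain ⟨w, rfl⟩ := hπ y
    have : w = 0 := hinj (((key w).symm.trans hy).trans (map_zero (bc ((pushModEt hi.1).obj G) n)).symm)
    rw [this, map_zero]
  · obtain ⟨w, hw⟩ := hsur m
    exact ⟨π w, (key w).trans hw⟩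

include hG hN in
theorem θ_bijective_base (P : Over (base (EtOver.bcObj hi.1 N))) (hP : Aff P.left.left) :
    Function.Bijective (θ (G.over (EtOver.bcObj hi.1 N)) (idι G (EtOver.bcObj hi.1 N)) P) := by
  let B := EtOver.bcObj hi.1 N
  have cover : ∀ P : Over (base B), ∃ R ∈ etTop Z P.left.left, ∀ (V : EtOver Z) (k : V ⟶ P.left.left), R k →
      ∃ (E : EtOver X) (n : E ⟶ N) (g : EtOver.bcObj hi.1 E ⟶ P.left.left) (a : V ⟶ EtOver.bcObj hi.1 E),
        Aff E ∧ g ≫ P.hom.left = EtOver.bcMap hi.1 n ∧ a ≫ g = k := fun P => by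
    choose E n g hE hg hw using fun w : ↥P.left.left.obj.left.left => exists_affine_lift hi P.left.left P.hom.left w
    refine ⟨Sieve.ofArrows (fun w => EtOver.bcObj hi.1 (E w)) g,
      AlgSp.ofArrows_mem_etTop _ _ fun w => ⟨w, hw w⟩, fun V k hk => ?_⟩
    obtain ⟨w, a, rfl⟩ := (Sieve.mem_ofArrows_iff _ _ _).1 hk
    exact ⟨E w, n w, g w, a, hE w, hg w, rfl⟩
  refine θ_bijective (G.over B) (idι G B) (fun P hP z hz => ?_) (fun P hP m => ?_) P hP
  · obtain ⟨R, hR, hRk⟩ := cover P
    refine ⟨R, hR, fun V k hk _ => ?_⟩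
    obtain ⟨E, n, g, a, hE, hg, rfl⟩ := hRk V k hk
    have h0 : (arMap (subHom P g)).toLinearMap.rTensor _ z = 0 := by
      refine (θ_bijective_lift hi G hG hN hE n P g hg).1 ?_
      rw [← msMap_θ, hz, map_zero, map_zero]
    let h : sub P (a ≫ g) ⟶ sub P g :=
      Over.homMk (Over.homMk a (Category.assoc _ _ _).symm) (Over.OverMorphism.ext (Category.assoc _ _ _).symm)
    have e : h ≫ subHom P g = subHom P (a ≫ g) := Over.OverMorphism.ext (Over.OverMorphism.ext rfl)
    rw [← e, ← arMap_comp, AlgHom.comp_toLinearMap, LinearMap.rTensor_comp_apply, h0, map_zero]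
  · obtain ⟨R, hR, hRk⟩ := cover P
    refine ⟨R, hR, fun V k hk _ => ?_⟩
    obtain ⟨E, n, g, a, hE, hg, rfl⟩ := hRk V k hk
    obtain ⟨y, hy⟩ := (θ_bijective_lift hi G hG hN hE n P g hg).2 (msMap (G.over B) (subHom P g) m)
    let h : sub P (a ≫ g) ⟶ sub P g :=
      Over.homMk (Over.homMk a (Category.assoc _ _ _).symm) (Over.OverMorphism.ext (Category.assoc _ _ _).symm)
    have e : h ≫ subHom P g = subHom P (a ≫ g) := Over.OverMorphism.ext (Over.OverMorphism.ext rfl)
    exact ⟨_, (msMap_θ _ _ h y).symm.trans ((congrArg (msMap _ h) hy).trans ((msMap_comp _ _ _ m).trans (by rw [e])))⟩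

variable (hX : IsAlgSpace X) {F : ModEt X}

include hG hX in
theorem isQuasicoherent_of_push : G.IsQuasicoherent := by
  have hp : ∀ N : {N : EtOver X // Aff N}, ∃ _p : (G.over (EtOver.bcObj hi.1 N.1)).Presentation, True := fun N => by
    let B := EtOver.bcObj hi.1 N.1
    let c := Finsupp.linearCombination (Rg (base B).left) (id : SA G (𝟙 (base B).left) → SA G (𝟙 (base B).left))
    let d := Finsupp.linearCombination (Rg (base B).left) (Subtype.val : LinearMap.ker c → _)
    have hc : Function.Surjective c := fun x => ⟨Finsupp.single x 1, by simp [c]⟩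
    have hd : Function.Exact d c := by
      rw [LinearMap.exact_iff, Finsupp.range_linearCombination, Subtype.range_coe]
      exact (Submodule.span_eq _).symm
    obtain ⟨p, -⟩ := exists_presentation (idι G B) c (aff_bcObj_closed hi N.1 N.2)
      (fun P hP => θ_bijective_base hi G hG N.2 P hP) hc d hd
    exact ⟨p, trivial⟩
  choose p _ using hp
  have hcov : (etTop Z).CoversTop (fun N : {N : EtOver X // Aff N} => EtOver.bcObj hi.1 N.1) := by
    intro M
    haveI := isCoverDense_bc hi.1 hX (liftableSp_of_isClosedImmersion hi)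
    refine (etTop Z).transitive ((EtOver.bc hi.1).is_cover_of_isCoverDense (etTop Z) M) _ fun V k hk => ?_
    obtain ⟨⟨N₀, l, m, hlm⟩⟩ := hk
    choose E n g hE hg hw using fun w : ↥((EtOver.bc hi.1).obj N₀).obj.left.left =>
      exists_affine_lift hi ((EtOver.bc hi.1).obj N₀) (𝟙 _) w
    refine (etTop Z).superset_covering ?_ ((etTop Z).pullback_stable l
      (AlgSp.ofArrows_mem_etTop (fun w => EtOver.bcObj hi.1 (E w)) g fun w => ⟨w, hw w⟩))
    intro W t ht
    obtain ⟨w, a, -⟩ := (Sieve.mem_ofArrows_iff _ _ _).1 ht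
    exact (Sieve.mem_ofObjects_iff _ _).2 ⟨⟨E w, hE w⟩, ⟨a⟩⟩
  let q : G.QuasicoherentData :=
    { I := {N : EtOver X // Aff N}
      X := fun N => EtOver.bcObj hi.1 N.1
      coversTop := hcov
      presentation := p }
  exact q.isQuasicoherent

include hX in
/-- A module killed by the ideal of a closed subspace is a direct image. -/
theorem exists_push_iso (hF : Good F) (hk : Killed hi F) :
    ∃ G : ModEt Z, G.IsQuasicoherent ∧ Nonempty ((pushModEt hi.1).obj G ≅ F) := by
  obtain ⟨G, ⟨e⟩⟩ := exists_module hX hk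
  exact ⟨G, isQuasicoherent_of_push hi G (hF.of_iso e.symm) hX, ⟨e⟩⟩

theorem sm_push_eq_zero (G : ModEt Z) {V : EtOver X} (d : Rg V) (t : sectModEt ((pushModEt hi.1).obj G) V)
    (h : β hi.1 V d = 0) : sm d t = 0 := by
  show HSMul.hSMul (α := (OEtRing Z).obj.obj (op (EtOver.bcObj hi.1 V))) (β hi.1 V d)
    (show sectModEt G (EtOver.bcObj hi.1 V) from t) = 0
  rw [h]
  exact zero_smul _ _

end Groth.Agent.AlgSpMod
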