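import Groth.Agent.AlgSpMod.ExactColim
import Mathlib.Algebra.Category.ModuleCat.Presheaf.Generator
import Mathlib.CategoryTheory.Abelian.GrothendieckCategory.EnoughInjectives

/-!
# Modules on the small etale site form a Grothendieck abelian category
-/

set_option backward.isDefEq.respectTransparency false
set_option backward.isDefEq.respectTransparency.types false

universe u

open CategoryTheory CategoryTheory.Limits AlgebraicGeometry Opposite AlgSp

namespace Groth.Agent.AlgSpMod

variable {S : Scheme.{u}} (X : Sp S)

/-- The free presheaf of modules on an object. -/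
noncomputable abbrev freeRep (E : EtOver X) : PresheafOfModules.{u + 1} (OEtRing X).obj :=
  (PresheafOfModules.free (OEtRing X).obj).obj (uliftYoneda.{u + 1}.obj E)

theorem freeRep_ext {M N : PresheafOfModules.{u + 1} (OEtRing X).obj} (f g : M ⟶ N)
    (h : ∀ (E : EtOver X) (a : freeRep X E ⟶ M), a ≫ f = a ≫ g) : f = g := by
  let e := fun (E : EtOver X) (P : PresheafOfModules.{u + 1} (OEtRing X).obj) =>
    (PresheafOfModules.freeHomEquiv (F := uliftYoneda.{u + 1}.obj E) (G := P)).trans uliftYonedaEquiv
  ext ⟨E⟩ m
  obtain ⟨a, rfl⟩ := (e E M).surjective m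
  exact congrArg (e E N) (h E a)

theorem isGrothendieckAbelian_modEt : IsGrothendieckAbelian.{u + 1} (ModEt X) := by
  haveI := ab5_modEt X
  let adj := PresheafOfModules.sheafificationAdjunction.{u + 1} (R := OEtRing X) (𝟙 (OEtRing X).obj)
  refine { hasSeparator := ⟨⟨(PresheafOfModules.sheafification (𝟙 (OEtRing X).obj)).obj (∐ freeRep X), ?_⟩⟩ }
  rw [isSeparator_def]
  intro M N f g h
  refine (SheafOfModules.forget (OEtRing X) ⋙ PresheafOfModules.restrictScalars (𝟙 (OEtRing X).obj)).map_injective ?_
  refine freeRep_ext X _ _ fun E a => ?_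
  classical
  let b : ∐ freeRep X ⟶ _ := Sigma.desc fun E' => if e : E' = E then eqToHom (congrArg (freeRep X) e) ≫ a else 0
  have hb : Sigma.ι (freeRep X) E ≫ b = a := by simp [b]
  obtain ⟨ψ, hψ⟩ := (adj.homEquiv _ _).surjective b
  rw [← hb, Category.assoc, Category.assoc, ← hψ, ← Adjunction.homEquiv_naturality_right,
    ← Adjunction.homEquiv_naturality_right, h ψ]

/-- Modules on the small etale site have enough injectives. -/
theorem enoughInjectives_modEt : EnoughInjectives (ModEt X) :=
  haveI := isGrothendieckAbelian_modEt X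
  IsGrothendieckAbelian.enoughInjectives.{u + 1}

end Groth.Agent.AlgSpMod
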