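import Groth.Agent.AlgSpMod.SupportSplit
import Groth.Agent.AlgSpMod.Push
import Groth.Agent.AlgSpMod.ClosedDescent
import Groth.Agent.AlgSpPts.SepDescent
import Mathlib.LinearAlgebra.TensorProduct.Pi
import Mathlib.RingTheory.Finiteness.Ideal

/-!
# Submodules of annihilated sections
-/

set_option backward.isDefEq.respectTransparency false
set_option backward.isDefEq.respectTransparency.types false
set_option maxHeartbeats 1000000

universe u

open CategoryTheory CategoryTheory.Limits AlgebraicGeometry Opposite AlgSp TensorProduct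
open Groth.Agent Groth.Agent.AlgSpLib Groth.Agent.AlgSpDec

namespace Groth.Agent.AlgSpMod

/-- Over a flat algebra, elements killed by finitely many scalars come from killed elements. -/
theorem mem_range_lTensor_of_killed {A B M : Type*} [CommRing A] [CommRing B] [Algebra A B] [Module.Flat A B]
    [AddCommGroup M] [Module A M] {n : ℕ} (s : Fin n → A) (N : Submodule A M)
    (hN : ∀ m, (∀ i, s i • m = 0) → m ∈ N) (z : B ⊗[A] M) (hz : ∀ i, s i • z = 0) :
    z ∈ LinearMap.range (N.subtype.lTensor B) := by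
  let R : M →ₗ[A] (Fin n → M) := LinearMap.pi fun i => s i • LinearMap.id
  have hex : Function.Exact (LinearMap.ker R).subtype R := LinearMap.exact_subtype_ker_map R
  have h0 : R.lTensor B z = 0 := by
    refine (TensorProduct.piRight A A B (fun _ : Fin n => M)).injective (funext fun i => ?_)
    have hp : ∀ x : B ⊗[A] (Fin n → M), TensorProduct.piRight A A B (fun _ : Fin n => M) x i =
        (LinearMap.proj i : (Fin n → M) →ₗ[A] M).lTensor B x := fun x => by
      induction x with
      | zero => simp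
      | tmul a f => simp
      | add x y hx hy => rw [map_add, map_add, Pi.add_apply, hx, hy]
    rw [map_zero, hp, ← LinearMap.lTensor_comp_apply,
      show (LinearMap.proj i).comp R = s i • LinearMap.id from LinearMap.ext fun _ => rfl,
      LinearMap.lTensor_smul, LinearMap.lTensor_id]
    exact hz i
  obtain ⟨w, hw⟩ := (Module.Flat.lTensor_exact B hex z).1 h0
  refine ⟨(Submodule.inclusion (fun m hm => hN m fun i => congrFun hm i : LinearMap.ker R ≤ N)).lTensor B w, ?_⟩
  rw [← LinearMap.lTensor_comp_apply]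
  exact hw

variable {S : Scheme.{u}} {X : Sp S}

/-- A submodule given by finitely many annihilators over each affine object is quasi-coherent. -/
theorem good_of_killed {M N : ModEt X} (φ : N ⟶ M) [Mono φ] (hM : Good M)
    (h : ∀ {E F : EtOver X} (g : F ⟶ E), Aff E → Aff F → ∀ y : SA N g, ∃ (n : ℕ) (s : Fin n → Rg E),
      (∀ i, s i • appSA φ g y = 0) ∧
        ∀ t : SA M (𝟙 E), (∀ i, s i • t = 0) → t ∈ LinearMap.range (appSA φ (𝟙 E))) : Good N := by
  refine ⟨fun {E F} g hE hF => ?_⟩
  haveI := hE; haveI := hF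
  haveI := flat_RA g
  have hiT := Module.Flat.lTensor_preserves_injective_linearMap (M := RA g) _ (appSA_injective φ (𝟙 E))
  refine ⟨fun a b hab => hiT ((hM.bij g hE hF).1 (by rw [← appSA_bc, ← appSA_bc, hab])), fun y => ?_⟩
  obtain ⟨z, hz⟩ := (hM.bij g hE hF).2 (appSA φ g y)
  obtain ⟨n, s, hs, hN⟩ := h g hE hF y
  obtain ⟨w, hw⟩ := mem_range_lTensor_of_killed (B := RA g) s (LinearMap.range (appSA φ (𝟙 E))) hN z fun i => by
    apply (hM.bij g hE hF).1
    rw [map_zero, map_smul, hz]
    exact hs i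
  obtain ⟨v, hv⟩ := LinearMap.lTensor_surjective (RA g) (appSA φ (𝟙 E)).surjective_rangeRestrict w
  refine ⟨v, appSA_injective φ g ?_⟩
  rw [appSA_bc, ← hz, ← hw, ← hv, ← LinearMap.lTensor_comp_apply]
  rfl

/-! ### Ideals of a set of points over affine objects -/

/-- An ideal cutting out a set of points over an object. -/
def CutsOn (T : Set (Points X)) (E : EtOver X) (I : Ideal (Rg E)) : Prop :=
  ∀ v : ↥E.obj.left.left, I ≤ pR E v ↔ Points.ofPt E.obj.hom v ∈ T

theorem CutsOn.map {T : Set (Points X)} {E F : EtOver X} {I : Ideal (Rg E)} (h : CutsOn T E I) (g : F ⟶ E) :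
    CutsOn T F (I.map (rs g)) := fun v => by
  rw [Ideal.map_le_iff_le_comap, comap_rs_pR g v, h, ofPt_hom g v]

theorem exists_pow_le_annEl {E : EtOver X} [IsAffine E.obj.left.left] {T : Set (Points X)} {I : Ideal (Rg E)}
    (hI : CutsOn T E I) (hfg : I.FG) {M : ModEt X} (x : SA M (𝟙 E))
    (hx : ∀ v : ↥E.obj.left.left, WeakAss.annEl (Rg E) x ≤ pR E v → Points.ofPt E.obj.hom v ∈ T) :
    ∃ n : ℕ, I ^ n ≤ WeakAss.annEl (Rg E) x := by
  refine Ideal.exists_pow_le_of_le_radical_of_fg ?_ hfg
  rw [Ideal.radical_eq_sInf]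
  refine le_sInf fun J hJ => ?_
  haveI := hJ.2
  obtain ⟨v, hv⟩ := exists_pR_eq E J
  rw [← hv] at hJ ⊢
  exact (hI v).2 (hx v hJ.1)

theorem mem_suppSub_iff {M : ModEt X} (hM : Good M) (T : Set (Points X)) {E : EtOver X} [IsAffine E.obj.left.left]
    (x : SA M (𝟙 E)) : (show M.val.obj (op E) from x) ∈ (suppSub M T).obj (op E) ↔
      ∀ v : ↥E.obj.left.left, WeakAss.annEl (Rg E) x ≤ pR E v → Points.ofPt E.obj.hom v ∈ T :=
  ⟨fun h v hv => by_contra fun hT => (mem_zl_iff hM x v).1 (h v hT) hv,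
    fun h v hv => (mem_zl_iff hM x v).2 fun hle => hv (h v hle)⟩

theorem mem_suppSub_of_pow {M : ModEt X} (hM : Good M) {T : Set (Points X)} {E : EtOver X} [IsAffine E.obj.left.left]
    {I : Ideal (Rg E)} (hI : CutsOn T E I) {n : ℕ} (x : SA M (𝟙 E)) (hx : I ^ n ≤ WeakAss.annEl (Rg E) x) :
    (show M.val.obj (op E) from x) ∈ (suppSub M T).obj (op E) :=
  (mem_suppSub_iff hM T x).2 fun v hv => (hI v).1 (Ideal.IsPrime.le_of_pow_le (hx.trans hv))

theorem good_suppMod_of_cuts {M : ModEt X} (hM : Good M) {T : Set (Points X)}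
    (hT : ∀ E : EtOver X, Aff E → ∃ I : Ideal (Rg E), I.FG ∧ CutsOn T E I) : Good (suppMod M T) := by
  refine good_of_killed (suppι M T) hM fun {E F} g hE hF y => ?_
  haveI : IsAffine E.obj.left.left := hE
  haveI : IsAffine F.obj.left.left := hF
  obtain ⟨I, hfg, hI⟩ := hT E hE
  obtain ⟨n, hn⟩ := exists_pow_le_annEl (hI.map g) (hfg.map _) (show SA M (𝟙 F) from appSA (suppι M T) g y)
    ((mem_suppSub_iff hM T (show SA M (𝟙 F) from appSA (suppι M T) g y)).1 (appSA_suppι_mem M T g y))
  obtain ⟨t, ht⟩ := hfg.pow (n := n)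
  refine ⟨t.card, fun i => (t.equivFin.symm i : Rg E), fun i => ?_, fun x hx => ?_⟩
  · have := hn (show rs g (t.equivFin.symm i : Rg E) ∈ (I.map (rs g)) ^ n by
      rw [← Ideal.map_pow]; exact Ideal.mem_map_of_mem _ (ht ▸ Ideal.subset_span (t.equivFin.symm i).2))
    rw [smul_SA]
    have h2 := WeakAss.mem_annEl.1 this
    rw [smul_SA_id] at h2
    exact h2
  · refine exists_suppι_eq M T (𝟙 E) x (mem_suppSub_of_pow hM hI x (n := n) ?_)
    rw [← ht]
    refine Ideal.span_le.2 fun a ha => ?_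
    have := hx (t.equivFin ⟨a, ha⟩)
    simp only [Equiv.symm_apply_apply] at this
    exact WeakAss.mem_annEl.2 this

/-- The complement of a quasi-compact open subspace is cut out by finitely generated ideals. -/
theorem exists_cutsOn_compl {U : Sp S} {j : U ⟶ X} (hj : RepWith @IsOpenImmersion j) (hjqc : IsQuasiCompactMor j)
    (E : EtOver X) (hE : Aff E) : ∃ I : Ideal (Rg E), I.FG ∧ CutsOn (Set.range (Points.map j))ᶜ E I := by
  classical
  haveI : IsAffine E.obj.left.left := hE
  haveI : IsOpenImmersion (hj.1.snd E.obj.hom).left := hj.property _ _ _ (hj.1.isPullback E.obj.hom)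
  haveI : QuasiCompact (hj.1.snd E.obj.hom).left :=
    (AlgSpPts.repWith_quasiCompact hj.1 hjqc).property _ _ _ (hj.1.isPullback E.obj.hom)
  haveI : CompactSpace ↥(EtOver.bcObj hj.1 E).obj.left.left :=
    QuasiCompact.compactSpace_of_compactSpace (hj.1.snd E.obj.hom).left
  let R := Set.range (hj.1.snd E.obj.hom).left
  have hR : ∀ v, v ∈ R ↔ Points.ofPt E.obj.hom v ∈ Set.range (Points.map j) := by
    intro v
    constructor
    · rintro ⟨w, rfl⟩
      exact ⟨_, map_ofPt_bcObj hj.1 E w⟩
    · rintro ⟨x, hx⟩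
      obtain ⟨w, -, hw⟩ := exists_bcObj_point hj.1 E x v hx.symm
      exact ⟨w, hw⟩
  choose c hc hcv using fun v : ↥R => (isAffineOpen_top E.obj.left.left).exists_basicOpen_le
    (V := ⟨R, (hj.1.snd E.obj.hom).left.isOpenMap.isOpen_range⟩) ⟨v.1, v.2⟩ trivial
  haveI : CompactSpace ↥(hj.1.pullback E.obj.hom).left := ‹CompactSpace ↥(EtOver.bcObj hj.1 E).obj.left.left›
  obtain ⟨t, ht⟩ := (isCompact_range (hj.1.snd E.obj.hom).left.continuous).elim_finite_subcover
    (fun v : ↥R => ((E.obj.left.left.basicOpen (c v) : E.obj.left.left.Opens) : Set ↥E.obj.left.left))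
    (fun v => (E.obj.left.left.basicOpen (c v)).isOpen) (fun v hv => Set.mem_iUnion.2 ⟨⟨v, hv⟩, hcv _⟩)
  refine ⟨Ideal.span ((t.image fun v => (⟨c v⟩ : Rg E) : Finset (Rg E)) : Set (Rg E)), ⟨_, rfl⟩, fun v => ?_⟩
  rw [Set.mem_compl_iff, ← hR, Ideal.span_le]
  constructor
  · intro h hv
    obtain ⟨w, hw, hvw⟩ := Set.mem_iUnion₂.1 (ht hv)
    exact (mem_basicOpen_iff_pR (⟨c w⟩ : Rg E) v).1 hvw (h (Finset.mem_image_of_mem _ hw))
  · intro hv a ha
    obtain ⟨w, -, rfl⟩ := Finset.mem_image.1 ha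
    by_contra hn
    exact hv (hc w ((mem_basicOpen_iff_pR (⟨c w⟩ : Rg E) v).2 hn))

/-! ### Sections killed by an ideal sheaf -/

section rm

variable {M : ModEt X} {E V W : EtOver X}

/-- Restriction of sections. -/
noncomputable def rm (M : ModEt X) (k : V ⟶ E) : sectModEt M E →+ sectModEt M V :=
  (M.val.presheaf.map k.op).hom

theorem rm_rm (k : V ⟶ E) (l : W ⟶ V) (s : sectModEt M E) : rm M l (rm M k s) = rm M (l ≫ k) s :=
  (congr($(M.val.presheaf.map_comp k.op l.op) s)).symm

theorem rm_id (s : sectModEt M E) : rm M (𝟙 E) s = s := congr($(M.val.presheaf.map_id (op E)) s)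

theorem rm_sm (k : V ⟶ E) (a : Rg E) (s : sectModEt M E) : rm M k (sm a s) = sm (rs k a) (rm M k s) :=
  M.val.map_smul k.op a s

theorem sm_add' (a : Rg E) (s t : sectModEt M E) : sm a (s + t) = sm a s + sm a t := smul_add _ _ _

theorem sm_zero' (a : Rg E) : sm a (0 : sectModEt M E) = 0 := smul_zero _

theorem sm_sm' (a b : Rg E) (s : sectModEt M E) : sm a (sm b s) = sm (a * b) s := (mul_smul _ _ _).symm

end rm

/-- A section is killed by an ideal sheaf on all affine objects over its own. -/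
def KilledBy (I : IdealEt X) {M : ModEt X} {E : EtOver X} (s : sectModEt M E) : Prop :=
  ∀ (V : EtOver X) (hV : IsAffine V.obj.left.left) (k : V ⟶ E), ∀ a ∈ I.ideal V hV, sm (upΓ V a) (rm M k s) = 0

theorem KilledBy.zero (I : IdealEt X) {M : ModEt X} {E : EtOver X} : KilledBy I (0 : sectModEt M E) := by
  intro V hV k a ha
  rw [map_zero, sm_zero']

theorem KilledBy.add {I : IdealEt X} {M : ModEt X} {E : EtOver X} {s t : sectModEt M E} (hs : KilledBy I s)
    (ht : KilledBy I t) : KilledBy I (s + t) := by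
  intro V hV k a ha
  rw [map_add, sm_add', hs V hV k a ha, ht V hV k a ha, add_zero]

theorem KilledBy.sm {I : IdealEt X} {M : ModEt X} {E : EtOver X} {s : sectModEt M E} (hs : KilledBy I s) (b : Rg E) :
    KilledBy I (AlgSpMod.sm b s) := by
  intro V hV k a ha
  rw [rm_sm, sm_sm', mul_comm, ← sm_sm', hs V hV k a ha, sm_zero']

theorem KilledBy.map {I : IdealEt X} {M : ModEt X} {E E' : EtOver X} {s : sectModEt M E} (hs : KilledBy I s)
    (l : E' ⟶ E) : KilledBy I (rm M l s) := by
  intro V hV k a ha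
  rw [rm_rm]
  exact hs V hV (k ≫ l) a ha

theorem KilledBy.of_cover {I : IdealEt X} {M : ModEt X} {E : EtOver X} {s : sectModEt M E} {R : Sieve E}
    (hR : R ∈ etTop X E) (h : ∀ (Z : EtOver X) (l : Z ⟶ E), R l → KilledBy I (rm M l s)) : KilledBy I s := by
  intro V hV k a ha
  have sep : ∀ {A : EtOver X} {T : Sieve A}, T ∈ etTop X A → ∀ x : sectModEt M A,
      (∀ (Z : EtOver X) (l : Z ⟶ A), T l → rm M l x = 0) → x = 0 := fun {A T} hT x hx =>
    (((isSheaf_iff_isSheaf_of_type _ _).1 ((sheafCompose (etTop X) (CategoryTheory.forget AddCommGrpCat.{u + 1})).obj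
      ((toAbEt X).obj M)).property) T hT).isSeparatedFor.ext fun Z l hl =>
        ((hx Z l hl).trans (map_zero (rm M l)).symm :)
  refine sep ((etTop X).pullback_stable k hR) _ fun Z l hl => ?_
  obtain ⟨κ, Q, q, hQ, hcov⟩ := exists_affine_open_cover Z
  refine sep hcov _ fun Z' r hr => ?_
  obtain ⟨i, r', rfl⟩ := (Sieve.mem_ofArrows_iff _ _ _).1 hr
  rw [← rm_rm]
  refine (congrArg (rm M r') ?_).trans (map_zero _)
  rw [rm_rm, rm_sm, rm_rm, Category.assoc, ← rm_rm]
  exact h Z (l ≫ k) hl (Q i) (hQ i) (q i) _ (I.map_le (q i ≫ l) hV (hQ i) (Ideal.mem_map_of_mem _ ha))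

/-- Sections killed by an ideal sheaf. -/
noncomputable def annSub (M : ModEt X) (I : IdealEt X) : PresheafOfModules.Submodule M.val where
  obj W :=
    { carrier := {s | KilledBy I (show sectModEt M W.unop from s)}
      zero_mem' := KilledBy.zero I
      add_mem' := fun hs ht => hs.add ht
      smul_mem' := fun b _ hx => hx.sm b }
  map {_ _} l _ hs := hs.map l.unop

theorem isSheaf_annSub (M : ModEt X) (I : IdealEt X) :
    Presheaf.IsSheaf (etTop X) (annSub M I).toPresheafOfModules.presheaf := by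
  rw [Presheaf.isSheaf_iff_isSheaf_forget _ _ (forget AddCommGrpCat.{u + 1}), isSheaf_iff_isSheaf_of_type]
  intro W R hR x hx
  let P := (sheafCompose (etTop X) (CategoryTheory.forget AddCommGrpCat.{u + 1})).obj ((toAbEt X).obj M)
  have hs := (isSheaf_iff_isSheaf_of_type _ _).1 P.property R hR
  let x' : Presieve.FamilyOfElements P.obj R.arrows := fun V k h => (x k h).val
  have hc : x'.Compatible := fun Y₁ Y₂ Z g₁ g₂ f₁ f₂ h₁ h₂ e => congrArg Subtype.val (hx g₁ g₂ h₁ h₂ e)
  have hmem : (show M.val.obj (op W) from hs.amalgamate x' hc) ∈ (annSub M I).obj (op W) :=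
    KilledBy.of_cover hR fun Z l hl =>
      (hs.valid_glue hc l hl).symm ▸ (x l hl).2
  refine ⟨⟨_, hmem⟩, fun V k h => Subtype.ext (hs.valid_glue hc k h), fun y hy => Subtype.ext ?_⟩
  refine hs.isSeparatedFor.ext fun V k h => ?_
  rw [hs.valid_glue hc k h]
  exact congrArg Subtype.val (hy k h)

/-- The module of killed sections. -/
noncomputable def annMod (M : ModEt X) (I : IdealEt X) : ModEt X :=
  ⟨(annSub M I).toPresheafOfModules, isSheaf_annSub M I⟩

/-- Its inclusion. -/
noncomputable def annι (M : ModEt X) (I : IdealEt X) : annMod M I ⟶ M := ⟨(annSub M I).ι⟩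

instance (M : ModEt X) (I : IdealEt X) : Mono (annι M I) :=
  (SheafOfModules.forget (OEtRing X)).mono_of_mono_map (inferInstanceAs (Mono (annSub M I).ι))

theorem mem_annSub_iff {M : ModEt X} {I : IdealEt X} (hI : I.IsQCoh) {E : EtOver X} (hE : IsAffine E.obj.left.left)
    (s : sectModEt M E) : (show M.val.obj (op E) from s) ∈ (annSub M I).obj (op E) ↔
      ∀ a ∈ I.ideal E hE, sm (upΓ E a) s = 0 := by
  constructor
  · intro h a ha
    have := h E hE (𝟙 E) a ha
    rwa [rm_id] at this
  · intro h V hV k a ha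
    have hle : I.ideal V hV ≤ Ideal.comap (upΓ V)
        (LinearMap.ker (LinearMap.toSpanSingleton (Rg V) (sectModEt M V) (rm M k s))) := by
      refine (hI k hE hV).trans (Ideal.map_le_iff_le_comap.2 fun b hb => ?_)
      show sm (upΓ V (k.hom.left.left.appTop.hom b)) (rm M k s) = 0
      exact ((rm_sm k (upΓ E b) s).symm.trans (congrArg (rm M k) (h b hb))).trans (map_zero _)
    exact hle ha

theorem good_annMod {M : ModEt X} (hM : Good M) {I : IdealEt X} (hI : I.IsQCoh)
    (hft : ∀ (E : EtOver X) (hE : IsAffine E.obj.left.left), (I.ideal E hE).FG) : Good (annMod M I) := by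
  refine good_of_killed (annι M I) hM fun {E F} g hE hF y => ?_
  obtain ⟨t, ht⟩ := hft E hE
  refine ⟨t.card, fun i => upΓ E (t.equivFin.symm i : Γ(E.obj.left.left, ⊤)), fun i => ?_, fun x hx => ?_⟩
  · rw [smul_SA]
    exact (mem_annSub_iff hI hF (show sectModEt M F from appSA (annι M I) g y)).1 y.2 _
      (I.map_le g hE hF (Ideal.mem_map_of_mem _ (ht ▸ Ideal.subset_span (t.equivFin.symm i).2)))
  · refine ⟨⟨x, (mem_annSub_iff hI hE (show sectModEt M E from x)).2 fun a ha => ?_⟩, rfl⟩
    rw [← ht] at ha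
    induction ha using Submodule.span_induction with
    | mem a ha =>
      have := hx (t.equivFin ⟨a, ha⟩)
      simp only [Equiv.symm_apply_apply] at this
      rw [smul_SA_id] at this
      exact this
    | zero => rw [map_zero]; exact zero_smul _ _
    | add a b _ _ ha hb => rw [map_add]; exact (add_smul _ _ _).trans ((congrArg₂ (· + ·) ha hb).trans (add_zero _))
    | smul r a _ ha => rw [smul_eq_mul, map_mul]; exact (mul_smul _ _ _).trans ((congrArg (sm _) ha).trans (smul_zero _))

end Groth.Agent.AlgSpMod
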