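import Groth.Agent.AlgSpMod.Colimit
import Groth.Agent.AlgSpMod.SubKilled
import Groth.Agent.AlgSpMod.ClosedQCoh
import Groth.Agent.AlgSpMod.EnoughInj
import Groth.Agent.AlgSpDec.ClosedPushMod

/-!
# The largest quasi-coherent submodule killed by the ideal of a closed subspace
-/

set_option backward.isDefEq.respectTransparency false
set_option backward.isDefEq.respectTransparency.types false

universe u

open CategoryTheory CategoryTheory.Limits AlgebraicGeometry Opposite AlgSp
open Groth.Agent Groth.Agent.AlgSpLib Groth.Agent.AlgSpDec Groth.Agent.AlgSpDec.ClosedPush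

namespace Groth.Agent.AlgSpMod

variable {S : Scheme.{u}} {Z X : Sp S} {f : Z ⟶ X}

/-- The image of a morphism of good modules is good. -/
theorem good_image {M N : ModEt X} (φ : M ⟶ N) (hM : Good M) (hN : Good N) : Good (Limits.image φ) := by
  have hK : Good (kernel φ) :=
    good_of_left_exact _ (ShortComplex.kernelSequence_exact φ) inferInstance hM hN
  have hC : Good (cokernel (kernel.ι φ)) :=
    good_of_right_exact _ (ShortComplex.cokernelSequence_exact (kernel.ι φ)) inferInstance hK hM
  exact hC.of_iso ((Abelian.coimageIsoImage φ).trans (Abelian.imageIsoImage φ))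

/-- Monomorphisms of modules are injective on sections. -/
theorem app_injective_of_mono {M N : ModEt X} (j : M ⟶ N) [Mono j] (V : EtOver X) :
    Function.Injective (j.val.app (op V)).hom :=
  (ModuleCat.mono_iff_injective
    ((SheafOfModules.forget (OEtRing X) ⋙ PresheafOfModules.evaluation _ (op V)).map j)).1 inferInstance

variable (hi : RepWith @IsClosedImmersion f)

/-- A submodule of a killed module is killed. -/
theorem killed_of_mono {M N : ModEt X} (j : M ⟶ N) [Mono j] (hN : Killed hi N) : Killed hi M := by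
  intro V hV d t hd
  refine app_injective_of_mono j V ?_
  rw [map_zero]
  exact ((j.val.app (op V)).hom.map_smul d t).trans (hN V hV d _ hd)

theorem killed_annMod (M : ModEt X) : Killed hi (annMod M (idealOfRep hi.1)) := by
  intro V hV d t hd
  refine app_injective_of_mono (annι M (idealOfRep hi.1)) V ?_
  rw [map_zero]
  refine (((annι M (idealOfRep hi.1)).val.app (op V)).hom.map_smul d t).trans ?_
  have h := t.2 V hV (𝟙 V) d.down ((mem_idealOfRep_iff hi.1 V hV d.down).2 (ULift.ext_iff.1 hd))
  rw [rm_id] at h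
  exact h

theorem exists_fac_annMod {M F : ModEt X} (j : M ⟶ F) (hM : Killed hi M) :
    ∃ l : M ⟶ annMod F (idealOfRep hi.1), l ≫ annι F (idealOfRep hi.1) = j := by
  have mem : ∀ (W : (EtOver X)ᵒᵖ) (x : M.val.obj W),
      (j.val.app W).hom x ∈ (annSub F (idealOfRep hi.1)).obj W := by
    intro W x V hV k a ha
    have hd : β hi.1 V (upΓ V a) = 0 := ULift.ext _ _ ((mem_idealOfRep_iff hi.1 V hV a).1 ha)
    have h0 := hM V hV (upΓ V a) (show sectModEt M V from rm M k x) hd
    have e : rm F k (show sectModEt F W.unop from (j.val.app W).hom x) =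
        (j.val.app (op V)).hom (rm M k (show sectModEt M W.unop from x)) :=
      (congr($(((PresheafOfModules.toPresheaf _).map j.val).naturality k.op).hom x)).symm
    rw [e]
    exact (((j.val.app (op V)).hom.map_smul (upΓ V a) _).symm.trans (congrArg _ h0)).trans (map_zero _)
  let l : M.val ⟶ (annSub F (idealOfRep hi.1)).toPresheafOfModules :=
    PresheafOfModules.homMk
      { app := fun W => AddCommGrpCat.ofHom (LinearMap.codRestrict _ (j.val.app W).hom (mem W)).toAddMonoidHom
        naturality := fun W W' g => by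
          refine ConcreteCategory.hom_ext _ _ fun x => ?_
          refine Subtype.ext ?_
          exact congr($(((PresheafOfModules.toPresheaf _).map j.val).naturality g).hom x) }
      fun W r x => Subtype.ext ((j.val.app W).hom.map_smul r x)
  exact ⟨⟨l⟩, SheafOfModules.Hom.ext (PresheafOfModules.hom_ext fun W => ModuleCat.hom_ext (LinearMap.ext fun x => rfl))⟩

/-- Every good module has a largest good submodule killed by the ideal of the closed subspace. -/
theorem exists_max_killed {F : ModEt X} (hF : Good F) :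
    ∃ (T : ModEt X) (t : T ⟶ F), Mono t ∧ Good T ∧ Killed hi T ∧
      ∀ {P : ModEt X} (p : P ⟶ F), Good P → Killed hi P → ∃ l : P ⟶ T, l ≫ t = p := by
  haveI := isGrothendieckAbelian_modEt (X := X)
  let Idx := Shrink.{u + 1} {P : Subobject F // Good (P : ModEt X) ∧ Killed hi (P : ModEt X)}
  let e := (equivShrink.{u + 1} {P : Subobject F // Good (P : ModEt X) ∧ Killed hi (P : ModEt X)}).symm
  let D : Discrete Idx ⥤ ModEt X := Discrete.functor fun i => ((e i).1 : ModEt X)
  let A := colimit D
  choose l hl using fun i : Idx => exists_fac_annMod hi (e i).1.arrow (e i).2.2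
  let ψ : A ⟶ annMod F (idealOfRep hi.1) := colimit.desc D (Cofan.mk _ l)
  let φ : A ⟶ F := ψ ≫ annι F (idealOfRep hi.1)
  have hA : Good A := good_colimit D fun i => (e i.as).2.1
  let m : Limits.image φ ⟶ annMod F (idealOfRep hi.1) :=
    image.lift { I := annMod F (idealOfRep hi.1), m := annι F (idealOfRep hi.1), e := ψ, fac := rfl }
  have hm : m ≫ annι F (idealOfRep hi.1) = image.ι φ := image.lift_fac _
  haveI : Mono m := mono_of_mono_fac hm
  refine ⟨_, image.ι φ, inferInstance, good_image φ hA hF, killed_of_mono hi m (killed_annMod hi F), ?_⟩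
  intro P p hP hk
  obtain ⟨lp, hlp⟩ := exists_fac_annMod hi p hk
  let m' : Limits.image p ⟶ annMod F (idealOfRep hi.1) :=
    image.lift { I := annMod F (idealOfRep hi.1), m := annι F (idealOfRep hi.1), e := lp, fac := hlp }
  have hm' : m' ≫ annι F (idealOfRep hi.1) = image.ι p := image.lift_fac _
  haveI : Mono m' := mono_of_mono_fac hm'
  let Q := Subobject.mk (image.ι p)
  have hQ : Good (Q : ModEt X) ∧ Killed hi (Q : ModEt X) :=
    ⟨(good_image p hP hF).of_iso (Subobject.underlyingIso (image.ι p)).symm,
      killed_of_mono hi ((Subobject.underlyingIso (image.ι p)).hom ≫ m') (killed_annMod hi F)⟩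
  let i := e.symm ⟨Q, hQ⟩
  have hi' : (e i).1 = Q := congrArg Subtype.val (e.apply_symm_apply ⟨Q, hQ⟩)
  refine ⟨factorThruImage p ≫ (Subobject.underlyingIso (image.ι p)).inv ≫ Subobject.ofLE Q (e i).1 hi'.ge ≫
    colimit.ι D ⟨i⟩ ≫ factorThruImage φ, ?_⟩
  have h1 : colimit.ι D ⟨i⟩ ≫ φ = (e i).1.arrow := by
    rw [show φ = ψ ≫ annι F (idealOfRep hi.1) from rfl, ← Category.assoc, colimit.ι_desc]
    exact hl i
  simp only [Category.assoc, image.fac, h1, Subobject.ofLE_arrow]
  rw [Subobject.underlyingIso_arrow, image.fac]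

/-- Costructured arrows of a fully faithful functor between full subcategories have a terminal object. -/
theorem hasTerminal_costructuredArrow_lift {C : Type*} [Category C] {D : Type*} [Category D] (P : ObjectProperty C)
    (Q : ObjectProperty D) (L : C ⥤ D) [L.Full] [L.Faithful] (h : ∀ G : P.FullSubcategory, Q (L.obj G.obj))
    (F : Q.FullSubcategory) {G : C} (hG : P G) (t : L.obj G ⟶ F.obj) [Mono t]
    (hu : ∀ W : C, P W → ∀ p : L.obj W ⟶ F.obj, ∃ l : L.obj W ⟶ L.obj G, l ≫ t = p) :
    HasTerminal (CostructuredArrow (Q.lift (P.ι ⋙ L) h) F) := by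
  let R := Q.lift (P.ι ⋙ L) h
  let c : CostructuredArrow R F :=
    CostructuredArrow.mk (Y := ⟨G, hG⟩) (show R.obj ⟨G, hG⟩ ⟶ F from ObjectProperty.homMk t)
  have he : ∀ W : CostructuredArrow R F, ∃ g : W.left.obj ⟶ G, L.map g ≫ t = W.hom.hom := fun W => by
    obtain ⟨l, hl⟩ := hu W.left.obj W.left.property W.hom.hom
    exact ⟨L.preimage l, by rw [L.map_preimage]; exact hl⟩
  choose g hg using he
  refine IsTerminal.hasTerminal (IsTerminal.ofUniqueHom (Y := c) (fun W =>
    show W ⟶ c from CostructuredArrow.homMk (ObjectProperty.homMk (g W)) (ObjectProperty.hom_ext _ (hg W)))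
    fun W m => ?_)
  refine CostructuredArrow.hom_ext _ _ (ObjectProperty.hom_ext _ (L.map_injective ((cancel_mono t).1 ?_)))
  show L.map m.left.hom ≫ t = L.map (g W) ≫ t
  rw [hg W]
  exact congrArg (fun k => k.hom) (CostructuredArrow.w m)

/-- The largest killed submodule, as a terminal object of costructured arrows. -/
theorem hasTerminal_costructuredArrow (hX : IsAlgSpace X)
    (hq : ∀ G : ModEt Z, G.IsQuasicoherent → ((pushModEt hi.1).obj G).IsQuasicoherent)
    (F : (SheafOfModules.isQuasicoherent (OEtRing X)).FullSubcategory) :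
    HasTerminal (CostructuredArrow
      ((SheafOfModules.isQuasicoherent (OEtRing X)).lift
        ((SheafOfModules.isQuasicoherent (OEtRing Z)).ι ⋙ pushModEt hi.1) fun G => hq G.obj G.property) F) := by
  haveI := full_pushModEt hX hi
  haveI := faithful_pushModEt hX hi
  obtain ⟨T, t, ht, hT, hTk, huniv⟩ := exists_max_killed hi (isQuasicoherent_iff_good.1 F.property)
  obtain ⟨G, hG, ⟨θ'⟩⟩ := exists_push_iso hi hX hT hTk
  refine hasTerminal_costructuredArrow_lift _ _ (pushModEt hi.1) _ F hG (θ'.hom ≫ t) fun W hW p => ?_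
  obtain ⟨l, hl⟩ := huniv p (isQuasicoherent_iff_good.1 (hq W hW))
    (fun V _ d s hd => sm_push_eq_zero hi W d s hd)
  exact ⟨l ≫ θ'.inv, by rw [Category.assoc, Iso.inv_hom_id_assoc, hl]⟩

end Groth.Agent.AlgSpMod
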