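import Groth.Agent.AlgSpMod.CoherentUnion
import Groth.Agent.AlgSpMod.AffineCech
import Groth.Agent.SiteBase.AbSecExact

/-!
# `H¹` of quasi-coherent modules on Noetherian spaces is detected by coherent submodules

A first cohomology class is the boundary of a global section of a quotient of an injective sheaf.  The finitely many
sections measuring its failure to lift on a finite affine covering lie in a coherent submodule, so the class comes from
that submodule.
-/

set_option linter.style.haveILetI false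
set_option autoImplicit false
set_option backward.isDefEq.respectTransparency false
set_option backward.isDefEq.respectTransparency.types false
set_option maxHeartbeats 1000000

universe u

open CategoryTheory CategoryTheory.Limits AlgebraicGeometry Opposite AlgSp Abelian TopologicalSpace
open Groth.Agent Groth.Agent.AlgSpLib Groth.Agent.AlgSpDec Groth.Agent.AlgSpPts Groth.Agent.EtFound

namespace Groth.Agent.AlgSpMod

variable {S : Scheme.{u}} {X : Sp S}

/-- The constant sheaf of integers, whose `Ext` groups are cohomology. -/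
noncomputable abbrev constZ (X : Sp S) : AbEt X :=
  (constantSheaf (etTop X) AddCommGrpCat.{u + 1}).obj (AddCommGrpCat.of (ULift.{u + 1} ℤ))

/-- The value of a global section on an object. -/
noncomputable def gval {F : AbEt X} (η : constZ X ⟶ F) (E : EtOver X) : F.obj.obj (op E) :=
  (((sheafificationAdjunction (etTop X) AddCommGrpCat.{u + 1}).homEquiv _ F η).app (op E)).hom (ULift.up 1)

theorem gval_comp {F F' : AbEt X} (η : constZ X ⟶ F) (φ : F ⟶ F') (E : EtOver X) :
    gval (η ≫ φ) E = φ.hom.app (op E) (gval η E) := by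
  rw [gval, Adjunction.homEquiv_naturality_right]
  rfl

theorem gval_map {F : AbEt X} (η : constZ X ⟶ F) {E E' : EtOver X} (k : E' ⟶ E) :
    F.obj.map k.op (gval η E) = gval η E' :=
  (NatTrans.naturality_apply ((sheafificationAdjunction (etTop X) AddCommGrpCat.{u + 1}).homEquiv _ F η) k.op _).symm

theorem gval_ext {F : AbEt X} {η η' : constZ X ⟶ F} (h : ∀ E, gval η E = gval η' E) : η = η' := by
  refine ((sheafificationAdjunction (etTop X) AddCommGrpCat.{u + 1}).homEquiv _ F).injective ?_
  refine NatTrans.ext (funext fun E => ConcreteCategory.hom_ext _ _ fun n => ?_)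
  obtain ⟨n⟩ := n
  rw [show (⟨n⟩ : ULift.{u + 1} ℤ) = n • ⟨1⟩ from ULift.ext _ _ (mul_one n).symm]
  refine (map_zsmul _ n _).trans ?_
  refine Eq.trans ?_ (map_zsmul _ n _).symm
  exact congrArg (n • ·) (h E.unop)

theorem exists_gval {F : AbEt X} (s : ∀ E : EtOver X, F.obj.obj (op E))
    (hs : ∀ {E E' : EtOver X} (k : E' ⟶ E), F.obj.map k.op (s E) = s E') :
    ∃ η : constZ X ⟶ F, ∀ E, gval η E = s E := by
  let θ : (Functor.const (EtOver X)ᵒᵖ).obj (AddCommGrpCat.of (ULift.{u + 1} ℤ)) ⟶
      (sheafToPresheaf (etTop X) AddCommGrpCat.{u + 1}).obj F :=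
    { app := fun E => AddCommGrpCat.ofHom (AddMonoidHom.mk' (fun n : ULift.{u + 1} ℤ => n.down • s E.unop)
        fun a b => add_zsmul _ _ _)
      naturality := fun E E' k => ConcreteCategory.hom_ext _ _ fun n => by
        show (n : ULift.{u + 1} ℤ).down • s E'.unop = F.obj.map k ((n : ULift.{u + 1} ℤ).down • s E.unop)
        rw [map_zsmul]
        exact congrArg _ (hs k.unop).symm }
  refine ⟨((sheafificationAdjunction (etTop X) AddCommGrpCat.{u + 1}).homEquiv _ F).symm θ, fun E => ?_⟩
  rw [gval, Equiv.apply_symm_apply]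
  exact one_zsmul _

section Family

variable {κ : Type*} (T : κ → EtOver X) (hT : ∀ x : Points X, ∃ k, x ∈ Set.range (Points.ofPt (T k).obj.hom))

include hT in
theorem prodFst_jointly_surjective (E : EtOver X) (v : ↥E.obj.left.left) :
    ∃ k, v ∈ Set.range (EtOver.prodFst E (T k)).hom.left.left := by
  obtain ⟨k, w, hw⟩ := hT (Points.ofPt E.obj.hom v)
  obtain ⟨F, g₁, g₂, z, -, hz, -⟩ := exists_common_affine v w hw.symm
  let l := (EtOver.prodIsLimit E (T k)).lift (BinaryFan.mk g₁ g₂)
  have hl : l ≫ EtOver.prodFst E (T k) = g₁ :=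
    (EtOver.prodIsLimit E (T k)).fac (BinaryFan.mk g₁ g₂) ⟨WalkingPair.left⟩
  refine ⟨k, l.hom.left.left z, ?_⟩
  show (l ≫ EtOver.prodFst E (T k)).hom.left.left z = v
  rw [hl]
  exact hz

include hT in
/-- Global sections are determined by their values on a covering family. -/
theorem gval_ext_of_family {F : AbEt X} {η η' : constZ X ⟶ F} (h : ∀ k, gval η (T k) = gval η' (T k)) : η = η' :=
  gval_ext fun E => (isSheafFor_covers F (fun k => EtOver.prodObj E (T k)) (fun k => EtOver.prodFst E (T k))
    (prodFst_jointly_surjective T hT E)).isSeparatedFor.ext fun U g hg => by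
      obtain ⟨k⟩ := hg
      show F.obj.map _ (gval η E) = F.obj.map _ (gval η' E)
      rw [gval_map, gval_map, ← gval_map η (EtOver.prodSnd E (T k)), ← gval_map η' (EtOver.prodSnd E (T k)), h k]

include hT in
/-- A family of sections agreeing on products glues to a global section. -/
theorem exists_gval_of_family {F : AbEt X} (q : ∀ k, F.obj.obj (op (T k)))
    (hq : ∀ k l, F.obj.map (EtOver.prodFst (T k) (T l)).op (q k) = F.obj.map (EtOver.prodSnd (T k) (T l)).op (q l)) :
    ∃ η : constZ X ⟶ F, ∀ k, gval η (T k) = q k := by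
  have hq' : ∀ (k l : κ) {Z : EtOver X} (a : Z ⟶ T k) (b : Z ⟶ T l), F.obj.map a.op (q k) = F.obj.map b.op (q l) := by
    intro k l Z a b
    let c := (EtOver.prodIsLimit (T k) (T l)).lift (BinaryFan.mk a b)
    rw [← show c ≫ EtOver.prodFst (T k) (T l) = a from
        (EtOver.prodIsLimit (T k) (T l)).fac (BinaryFan.mk a b) ⟨WalkingPair.left⟩,
      ← show c ≫ EtOver.prodSnd (T k) (T l) = b from
        (EtOver.prodIsLimit (T k) (T l)).fac (BinaryFan.mk a b) ⟨WalkingPair.right⟩,
      op_comp, op_comp, Functor.map_comp, Functor.map_comp]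
    exact congrArg (F.obj.map c.op) (hq k l)
  have hE : ∀ E : EtOver X, ∃ s : F.obj.obj (op E), ∀ k,
      F.obj.map (EtOver.prodFst E (T k)).op s = F.obj.map (EtOver.prodSnd E (T k)).op (q k) := by
    intro E
    obtain ⟨s, hs, -⟩ := (Presieve.isSheafFor_arrows_iff _ _).1 (isSheafFor_covers F (fun k => EtOver.prodObj E (T k))
      (fun k => EtOver.prodFst E (T k)) (prodFst_jointly_surjective T hT E))
      (fun k => F.obj.map (EtOver.prodSnd E (T k)).op (q k)) fun k l Z a b _ => by
        show F.obj.map a.op (F.obj.map _ (q k)) = F.obj.map b.op (F.obj.map _ (q l))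
        rw [← ConcreteCategory.comp_apply, ← ConcreteCategory.comp_apply, ← F.obj.map_comp, ← F.obj.map_comp,
          ← op_comp, ← op_comp]
        exact hq' k l _ _
    exact ⟨s, hs⟩
  choose s hs using hE
  have hnat : ∀ {E E' : EtOver X} (g : E' ⟶ E), F.obj.map g.op (s E) = s E' := fun {E E'} g => by
    refine (isSheafFor_covers F (fun k => EtOver.prodObj E' (T k)) (fun k => EtOver.prodFst E' (T k))
      (prodFst_jointly_surjective T hT E')).isSeparatedFor.ext fun U a ha => ?_
    obtain ⟨k⟩ := ha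
    show F.obj.map _ (F.obj.map g.op (s E)) = F.obj.map _ (s E')
    let c := (EtOver.prodIsLimit E (T k)).lift (BinaryFan.mk (EtOver.prodFst E' (T k) ≫ g) (EtOver.prodSnd E' (T k)))
    rw [hs E' k, ← ConcreteCategory.comp_apply, ← F.obj.map_comp, ← op_comp,
      ← show c ≫ EtOver.prodFst E (T k) = EtOver.prodFst E' (T k) ≫ g from
        (EtOver.prodIsLimit E (T k)).fac (BinaryFan.mk _ _) ⟨WalkingPair.left⟩,
      ← show c ≫ EtOver.prodSnd E (T k) = EtOver.prodSnd E' (T k) from
        (EtOver.prodIsLimit E (T k)).fac (BinaryFan.mk _ _) ⟨WalkingPair.right⟩,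
      op_comp, op_comp, Functor.map_comp, Functor.map_comp]
    exact congrArg (F.obj.map c.op) (hs E k)
  obtain ⟨η, hη⟩ := exists_gval s hnat
  refine ⟨η, fun k => ?_⟩
  rw [hη]
  let d : T k ⟶ EtOver.prodObj (T k) (T k) := (EtOver.prodIsLimit (T k) (T k)).lift (BinaryFan.mk (𝟙 _) (𝟙 _))
  have h := congrArg (F.obj.map d.op) (hs (T k) k)
  rw [← ConcreteCategory.comp_apply, ← ConcreteCategory.comp_apply, ← F.obj.map_comp, ← F.obj.map_comp,
    ← op_comp, ← op_comp,
    show d ≫ EtOver.prodFst (T k) (T k) = 𝟙 _ from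
      (EtOver.prodIsLimit (T k) (T k)).fac (BinaryFan.mk _ _) ⟨WalkingPair.left⟩,
    show d ≫ EtOver.prodSnd (T k) (T k) = 𝟙 _ from
      (EtOver.prodIsLimit (T k) (T k)).fac (BinaryFan.mk _ _) ⟨WalkingPair.right⟩,
    op_id, F.obj.map_id] at h
  exact h

end Family

section Boundary

variable {κ : Type*} (T : κ → EtOver X) (hT : ∀ x : Points X, ∃ k, x ∈ Set.range (Points.ofPt (T k).obj.hom))

include hT in
/-- A boundary vanishes if its local liftings differ by sections of a subsheaf without `H¹`. -/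
theorem boundary_eq_zero_of_sub {P : ShortComplex (AbEt X)} (hP : P.ShortExact) (z : constZ X ⟶ P.X₃)
    {A : AbEt X} (a : A ⟶ P.X₁) [Mono a] [Subsingleton (HEt X A 1)] (t : ∀ k, P.X₂.obj.obj (op (T k)))
    (ht : ∀ k, P.g.hom.app (op (T k)) (t k) = gval z (T k))
    (r : ∀ k l, A.obj.obj (op (EtOver.prodObj (T k) (T l))))
    (hr : ∀ k l, P.f.hom.app _ (a.hom.app _ (r k l)) =
      P.X₂.obj.map (EtOver.prodFst (T k) (T l)).op (t k) - P.X₂.obj.map (EtOver.prodSnd (T k) (T l)).op (t l)) :
    (Ext.mk₀ z).comp hP.extClass (rfl : 0 + 1 = 1) = 0 := by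
  haveI := hP.mono_f
  let j : A ⟶ P.X₂ := a ≫ P.f
  haveI : Mono j := mono_comp _ _
  let Q := ShortComplex.mk j (cokernel.π j) (cokernel.condition j)
  have hQ : Q.ShortExact :=
    { exact := ShortComplex.exact_of_g_is_cokernel _ (cokernelIsCokernel _)
      mono_f := inferInstanceAs (Mono j) }
  have hjg : j ≫ P.g = 0 := by rw [Category.assoc, P.zero, comp_zero]
  let pr : cokernel j ⟶ P.X₃ := cokernel.desc j P.g hjg
  obtain ⟨zN, hzN⟩ := exists_gval_of_family T hT (F := cokernel j)
    (fun k => (cokernel.π j).hom.app (op (T k)) (t k)) fun k l => by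
    rw [← NatTrans.naturality_apply, ← NatTrans.naturality_apply, ← sub_eq_zero, ← map_sub, ← hr]
    exact congr(($(cokernel.condition j)).hom.app (op (EtOver.prodObj (T k) (T l))) (r k l))
  have hz : zN ≫ pr = z := gval_ext_of_family T hT fun k => by
    rw [gval_comp, hzN, ← ht k]
    exact congr(($(cokernel.π_desc j P.g hjg)).hom.app (op (T k)) (t k))
  obtain ⟨y₀, hy⟩ := Ext.covariant_sequence_exact₃ (constZ X) hQ (Ext.mk₀ zN) (n₁ := 1) rfl
    (Subsingleton.elim (α := HEt X A 1) _ _)
  obtain ⟨y, rfl⟩ := (Ext.mk₀_bijective _ _).2 y₀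
  rw [Ext.mk₀_comp_mk₀] at hy
  have hy' : y ≫ cokernel.π j = zN := (Ext.mk₀_bijective _ _).1 hy
  have hzy : z = y ≫ P.g := by
    rw [← hz, ← hy', Category.assoc]
    exact congrArg (y ≫ ·) (cokernel.π_desc j P.g hjg)
  rw [hzy, ← Ext.mk₀_comp_mk₀, Ext.comp_assoc_of_second_deg_zero, hP.comp_extClass, Ext.comp_zero]

end Boundary

/-- A section which is locally in a submodule is in the submodule. -/
theorem exists_preimage_of_local {M N : ModEt X} (ι : N ⟶ M) [Mono ι] {R : EtOver X} {κ : Type} {n : κ → EtOver X}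
    (w : ∀ i, n i ⟶ R) (hw : ∀ x : ↥R.obj.left.left, ∃ i, x ∈ Set.range (w i).hom.left.left) (m : sectModEt M R)
    (r : ∀ i, sectModEt N (n i)) (hr : ∀ i, ι.val.app (op (n i)) (r i) = M.val.map (w i).op m) :
    ∃ y : sectModEt N R, ι.val.app (op R) y = m := by
  have hloc : Sieve.ofArrows n w ∈ etTop X R := AlgSp.ofArrows_mem_etTop _ _ hw
  have hinj : ∀ Z : EtOver X, Function.Injective (ι.val.app (op Z)) := fun Z => appSA_injective ι (𝟙 Z)
  have hcov' : ∀ {Z : EtOver X} (x y : sectModEt M Z) (hxy : x = y) (u v : sectModEt N Z),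
      ι.val.app (op Z) u = x → ι.val.app (op Z) v = y → u = v := fun x y hxy u v hu hv =>
    hinj _ (hu.trans (hxy.trans hv.symm))
  let g : ∀ p : ULift.{u} κ, n p.down ⟶ R := fun p => w p.down
  have hg : Sieve.ofArrows (fun p : ULift.{u} κ => n p.down) g ∈ etTop X R :=
    AlgSp.ofArrows_mem_etTop _ _ fun x => let ⟨i, hi⟩ := hw x; ⟨⟨i⟩, hi⟩
  obtain ⟨y, hy⟩ := exists_glue N g hg (fun p => r p.down) fun i j => hcov'
    (M.val.presheaf.map (EtOver.pullbackFst (g i) (g j)).op (M.val.presheaf.map (g i).op m))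
    (M.val.presheaf.map (EtOver.pullbackSnd (g i) (g j)).op (M.val.presheaf.map (g j).op m))
    (by rw [← ConcreteCategory.comp_apply, ← ConcreteCategory.comp_apply, ← Functor.map_comp, ← Functor.map_comp,
      ← op_comp, ← op_comp, EtOver.pullback_condition]) _ _
    ((PresheafOfModules.naturality_apply ι.val (EtOver.pullbackFst (g i) (g j)).op (r i.down)).trans
      (congrArg (M.val.map (EtOver.pullbackFst (g i) (g j)).op) (hr i.down)))
    ((PresheafOfModules.naturality_apply ι.val (EtOver.pullbackSnd (g i) (g j)).op (r j.down)).trans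
      (congrArg (M.val.map (EtOver.pullbackSnd (g i) (g j)).op) (hr j.down)))
  exact ⟨y, ext_of_cover' M g hg fun i =>
    ((PresheafOfModules.naturality_apply ι.val (g i).op y).symm.trans (congrArg (ι.val.app (op (n i.down))) (hy i))).trans (hr i.down)⟩

variable [QuasiSeparatedSpace ↥S]

/-- The product of two affine objects has a finite affine covering. -/
theorem exists_affine_cover_prodObj (hX : IsAlgSpace X) (hqs : IsQuasiSeparatedSp X) (A B : EtOver X)
    [Aff A] [Aff B] : ∃ (n : ℕ) (W : Fin n → EtOver X) (w : ∀ i, W i ⟶ EtOver.prodObj A B),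
      (∀ i, Aff (W i)) ∧ ∀ x : ↥(EtOver.prodObj A B).obj.left.left, ∃ i, x ∈ Set.range (w i).hom.left.left := by
  classical
  haveI : IsAffine A.obj.left.left := ‹Aff A›
  haveI : QuasiCompact (B.property.1.snd A.obj.hom).left :=
    (repWith_quasiCompact B.property.1 (CohUnion.qc_qs_chart B hX hqs).1).property _ _ _
      (B.property.1.isPullback A.obj.hom)
  haveI : CompactSpace ↥(EtOver.prodObj A B).obj.left.left :=
    QuasiCompact.compactSpace_of_compactSpace (B.property.1.snd A.obj.hom).left
  choose O hO hxO _ using fun x : ↥(EtOver.prodObj A B).obj.left.left => exists_isAffineOpen_mem_and_subset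
    (U := (⊤ : (EtOver.prodObj A B).obj.left.left.Opens)) (x := x) trivial
  obtain ⟨t, ht⟩ := isCompact_univ.elim_finite_subcover (fun x => (O x : Set ↥(EtOver.prodObj A B).obj.left.left))
    (fun x => (O x).isOpen) fun x _ => Set.mem_iUnion.2 ⟨x, hxO x⟩
  refine ⟨t.card, fun i => etOpen _ (O (t.equivFin.symm i).1), fun i => etOpenι _ _, fun i => hO _, fun x => ?_⟩
  obtain ⟨y, hy, hxy⟩ := Set.mem_iUnion₂.1 (ht (Set.mem_univ x))
  exact ⟨t.equivFin ⟨y, hy⟩, by rw [range_etOpenι, Equiv.symm_apply_apply]; exact hxy⟩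

variable (hX : IsAlgSpace X) (hqc : IsQuasiCompactSp X) (hqs : IsQuasiSeparatedSp X) (hN : IsLocNoethSp X)

include hX hqc hqs hN in
/-- If `H¹` of every coherent module vanishes, so does that of every quasi-coherent one. -/
theorem h1_subsingleton_of_coherent
    (h1 : ∀ M : ModEt X, M.IsFinitePresentation → Subsingleton (HModEt X M 1)) {M : ModEt X} (hM : Good M) :
    Subsingleton (HModEt X M 1) := by
  classical
  haveI : LocallySmall.{u + 1} (EtOver X) := ⟨fun _ _ => inferInstance⟩
  refine subsingleton_of_forall_eq 0 fun x => ?_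
  let G := (toAbEt X).obj M
  let P := ShortComplex.mk (Injective.ι G) (cokernel.π _) (cokernel.condition (Injective.ι G))
  have hP : P.ShortExact := { exact := ShortComplex.exact_of_g_is_cokernel _ (cokernelIsCokernel _) }
  haveI : Injective P.X₂ := inferInstanceAs (Injective (Injective.under G))
  haveI : Epi P.g := hP.epi_g
  obtain ⟨z₀, rfl⟩ := Ext.covariant_sequence_exact₁ _ hP (show HEt X P.X₁ 1 from x) (Ext.eq_zero_of_injective _) (n₀ := 0) rfl
  obtain ⟨z, rfl⟩ := (Ext.mk₀_bijective _ _).2 z₀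
  -- finitely many affine objects on which the section lifts
  have hloc : Presheaf.IsLocallySurjective (etTop X) P.g.hom :=
    (Sheaf.isLocallySurjective_iff_epi' AddCommGrpCat.{u + 1} P.g).2 inferInstance
  haveI : CompactSpace (Points X) := (isQuasiCompactSp_iff hX).1 hqc
  obtain ⟨fin, hfin⟩ := exists_finite_charts hX (W := (Set.univ : Set (Points X))) isCompact_univ
  have hlift : ∀ E : fin, ∃ (T : EtOver X) (g : T ⟶ E.1.1), Aff T ∧ Surjective g.hom.left.left ∧
      ∃ t : P.X₂.obj.obj (op T), P.g.hom.app (op T) t = gval z T := fun E => by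
    obtain ⟨κ, _, W, T, g, i, hT, hg, hR, hi, hcov, hdisj⟩ :=
      exists_affine_refinement E.1.2 (hloc.imageSieve_mem (U := E.1.1) (gval z E.1.1))
    choose s hs using hR
    haveI := hi
    obtain ⟨t, ht⟩ := (bijective_sections_of_disjoint P.X₂ W i hcov hdisj).2 s
    refine ⟨T, g, hT, hg, t, ?_⟩
    rw [← gval_map z g]
    refine (bijective_sections_of_disjoint P.X₃ W i hcov hdisj).1 (funext fun k => ?_)
    refine (NatTrans.naturality_apply P.g.hom (i k).op t).symm.trans ?_
    refine (congrArg _ (congrFun ht k)).trans ((hs k).trans ?_)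
    rw [op_comp, Functor.map_comp]
    rfl
  choose T g hTA hgs t ht using hlift
  have hT : ∀ p : Points X, ∃ k, p ∈ Set.range (Points.ofPt (T k).obj.hom) := fun p => by
    obtain ⟨E, hE, v, rfl⟩ := Set.mem_iUnion₂.1 (hfin (Set.mem_univ p))
    obtain ⟨w, rfl⟩ := (hgs ⟨E, hE⟩).surj v
    refine ⟨⟨E, hE⟩, w, ?_⟩
    rw [← EtOver.w (g ⟨E, hE⟩), ofPt_comp]
  haveI := hTA
  -- the differences lie in the module
  have hm : ∀ k l, ∃ m : G.obj.obj (op (EtOver.prodObj (T k) (T l))), P.f.hom.app _ m =
      P.X₂.obj.map (EtOver.prodFst (T k) (T l)).op (t k) - P.X₂.obj.map (EtOver.prodSnd (T k) (T l)).op (t l) := by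
    intro k l
    refine (SiteBase.secExact_iff P (EtOver.prodObj (T k) (T l))).1 (hP.exact.map_of_mono_of_preservesKernel
      (sheafToPresheaf (etTop X) AddCommGrpCat.{u + 1} ⋙
        (evaluation (EtOver X)ᵒᵖ AddCommGrpCat.{u + 1}).obj (op (EtOver.prodObj (T k) (T l)))) hP.mono_f
          inferInstance) _ ?_
    rw [map_sub, NatTrans.naturality_apply, NatTrans.naturality_apply, ht, ht, gval_map, gval_map, sub_self]
  choose m hm using hm
  choose n W w hWA hw using fun k l => exists_affine_cover_prodObj hX hqs (T k) (T l)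
  -- they lie in a coherent submodule
  let ι₀ := (k : fin) × (l : fin) × Fin (n k l)
  let e : Fin (Fintype.card ι₀) ≃ ι₀ := (Fintype.equivFin ι₀).symm
  obtain ⟨N, ι, _, hNfp, hNs⟩ := exists_coherent_sub hX hqc hqs hN hM
    (fun a => W (e a).1 (e a).2.1 (e a).2.2) (fun a => hWA _ _ _)
    (fun a => G.obj.map (w (e a).1 (e a).2.1 (e a).2.2).op (m (e a).1 (e a).2.1))
  haveI := hNfp
  have hn : ∀ k l, ∃ r : sectModEt N (EtOver.prodObj (T k) (T l)), ι.val.app (op _) r = m k l := by
    intro k l
    have hex : ∀ i, ∃ r : sectModEt N (W k l i), ι.val.app (op _) r = G.obj.map (w k l i).op (m k l) := fun i => by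
      obtain ⟨a, ha⟩ := e.surjective ⟨k, l, i⟩
      obtain ⟨r, hr⟩ := hNs a
      revert r hr
      rw [ha]
      exact fun r hr => ⟨r, hr⟩
    choose r hr using hex
    exact exists_preimage_of_local ι (w k l) (hw k l) (m k l) r hr
  choose r hr using hn
  haveI := h1 N hNfp
  have e1 : ∀ k l, ((toAbEt X).map ι).hom.app (op (EtOver.prodObj (T k) (T l))) (r k l) = m k l := hr
  have e2 : ∀ k l, P.f.hom.app (op (EtOver.prodObj (T k) (T l)))
      (((toAbEt X).map ι).hom.app (op (EtOver.prodObj (T k) (T l))) (r k l)) =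
      P.X₂.obj.map (EtOver.prodFst (T k) (T l)).op (t k) - P.X₂.obj.map (EtOver.prodSnd (T k) (T l)).op (t l) :=
    fun k l => by rw [e1]; exact hm k l
  haveI : Mono ((toAbEt X).map ι) := inferInstance
  haveI : Subsingleton (HEt X ((toAbEt X).obj N) 1) := h1 N hNfp
  exact boundary_eq_zero_of_sub (A := (toAbEt X).obj N) T hT hP z ((toAbEt X).map ι) t ht r e2

end Groth.Agent.AlgSpMod
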