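import Groth.Agent.AlgSpMod.Push
import Groth.Agent.AlgSpMod.Converse
import Groth.Agent.AlgSpPts.SepDescent
import Mathlib.RingTheory.Flat.Basic
import Mathlib.LinearAlgebra.TensorProduct.Pi

/-!
# Direct images of quasi-coherent modules along quasi-compact quasi-separated morphisms
-/

set_option backward.isDefEq.respectTransparency false
set_option backward.isDefEq.respectTransparency.types false
set_option maxHeartbeats 1000000

universe u

open CategoryTheory CategoryTheory.Limits AlgebraicGeometry Opposite AlgSp TensorProduct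
open Groth.Agent Groth.Agent.AlgSpLib Groth.Agent.AlgSpDec

namespace Groth.Agent.AlgSpMod

variable {S : Scheme.{u}} {X Y : Sp S} {f : X ⟶ Y} (hf : Representable f) (M : ModEt X)
variable {E F : EtOver Y} {U : EtOver X} (g : F ⟶ E) (u : U ⟶ EtOver.bcObj hf E)

/-- Functions on an object over a base change. -/
def RU : Type (u + 1) := (fun _ => Rg U) u

noncomputable instance : CommRing (RU hf u) := inferInstanceAs (CommRing (Rg U))

noncomputable instance : Algebra (Rg E) (RU hf u) :=
  (show Rg E →+* RU hf u from (rs u).comp (β hf E)).toAlgebra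

/-- The fibre of an object over a base change along a map. -/
noncomputable abbrev fibObj : EtOver X := EtOver.pullbackObj u (EtOver.bcMap hf g)

/-- Functions on the fibre. -/
def RP : Type (u + 1) := Rg (fibObj hf g u)

noncomputable instance : CommRing (RP hf g u) := inferInstanceAs (CommRing (Rg (fibObj hf g u)))

noncomputable instance : Algebra (Rg E) (RP hf g u) :=
  (show Rg E →+* RP hf g u from ((rs (EtOver.pullbackFst u (EtOver.bcMap hf g))).comp (rs u)).comp (β hf E)).toAlgebra

theorem rs_snd_β (r : Rg E) : rs (EtOver.pullbackSnd u (EtOver.bcMap hf g)) (β hf F (rs g r)) =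
    rs (EtOver.pullbackFst u (EtOver.bcMap hf g)) (rs u (β hf E r)) := by
  rw [← β_natural hf g r, rs_comp, rs_comp, ← EtOver.pullback_condition]

/-- The map from the tensor product of functions. -/
noncomputable def mulRU : RU hf u ⊗[Rg E] RA g →ₐ[Rg E] RP hf g u :=
  Algebra.TensorProduct.productMap
    ⟨(show RU hf u →+* RP hf g u from rs (EtOver.pullbackFst u (EtOver.bcMap hf g))), fun _ => rfl⟩
    ⟨(show RA g →+* RP hf g u from (rs (EtOver.pullbackSnd u (EtOver.bcMap hf g))).comp (β hf F)),
      fun r => rs_snd_β hf g u r⟩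

theorem aff_fibObj [Aff E] [Aff F] [Aff U] : Aff (fibObj hf g u) := by
  have sq := (IsPullback.map (CategoryTheory.Over.forget S)
    (IsPullback.of_hasPullback u.hom.left (EtOver.bcMap hf g).hom.left)).paste_vert
      (EtOver.isPullback_bcMap_left hf g)
  haveI : IsAffine E.obj.left.left := ‹Aff E›
  haveI : IsAffine F.obj.left.left := ‹Aff F›
  haveI : IsAffine U.obj.left.left := ‹Aff U›
  haveI : IsAffine ((CategoryTheory.Over.forget S).obj U.obj.left) := ‹Aff U›
  exact IsAffine.of_isIso sq.isoPullback.hom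

theorem mulRU_bijective [Aff E] [Aff F] [Aff U] : Function.Bijective (mulRU hf g u) := by
  let A := Γ(E.obj.left.left, ⊤)
  let B₀ := Γ(U.obj.left.left, ⊤)
  let A' := Γ(F.obj.left.left, ⊤)
  let π := u.hom.left.left ≫ (hf.snd E.obj.hom).left
  have := EtOver.etale_left g
  haveI : IsAffine E.obj.left.left := ‹Aff E›
  haveI : IsAffine F.obj.left.left := ‹Aff F›
  haveI : IsAffine U.obj.left.left := ‹Aff U›
  let P := fibObj hf g u
  let p₁ := EtOver.pullbackFst u (EtOver.bcMap hf g)
  let p₂ := EtOver.pullbackSnd u (EtOver.bcMap hf g)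
  have H : IsPushout π.appTop g.hom.left.left.appTop p₁.hom.left.left.appTop
      (p₂.hom.left.left ≫ (hf.snd F.obj.hom).left).appTop :=
    AlgSpDec.isPushout_appTop (((IsPullback.of_hasPullback u.hom.left (EtOver.bcMap hf g).hom.left).map
      (CategoryTheory.Over.forget S)).flip.paste_horiz (EtOver.isPullback_bcMap_left hf g).flip).flip
  let _ : Algebra A B₀ := π.appTop.hom.toAlgebra
  let _ : Algebra A A' := g.hom.left.left.appTop.hom.toAlgebra
  let T := RU hf u ⊗[Rg E] RA g
  let up : A →+* Rg E := ULift.ringEquiv.symm.toRingHom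
  let upB : B₀ →+* RU hf u := ULift.ringEquiv.symm.toRingHom
  let upF : A' →+* RA g := ULift.ringEquiv.symm.toRingHom
  let _ : Algebra A T := ((algebraMap (Rg E) T).comp up).toAlgebra
  let la : B₀ →ₐ[A] T := ⟨(Algebra.TensorProduct.includeLeft : RU hf u →ₐ[Rg E] T).toRingHom.comp upB, fun a => by
    show (Algebra.TensorProduct.includeLeft : RU hf u →ₐ[Rg E] T) (upB (π.appTop.hom a)) = _
    rw [show upB (π.appTop.hom a) = algebraMap (Rg E) (RU hf u) (up a) from rfl, AlgHom.commutes]; rfl⟩
  let ra : A' →ₐ[A] T := ⟨(Algebra.TensorProduct.includeRight : RA g →ₐ[Rg E] T).toRingHom.comp upF, fun a => by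
    show (Algebra.TensorProduct.includeRight : RA g →ₐ[Rg E] T) (algebraMap (Rg E) (RA g) (up a)) = _
    rw [AlgHom.commutes]; rfl⟩
  let μ : B₀ ⊗[A] A' →ₐ[A] T := Algebra.TensorProduct.productMap la ra
  let i₁ : Γ(U.obj.left.left, ⊤) ⟶ CommRingCat.of (B₀ ⊗[A] A') :=
    CommRingCat.ofHom Algebra.TensorProduct.includeLeftRingHom
  let i₂ : Γ(F.obj.left.left, ⊤) ⟶ CommRingCat.of (B₀ ⊗[A] A') :=
    CommRingCat.ofHom (Algebra.TensorProduct.includeRight : A' →ₐ[A] B₀ ⊗[A] A').toRingHom
  have hi : π.appTop ≫ i₁ = g.hom.left.left.appTop ≫ i₂ := by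
    ext a
    show algebraMap A B₀ a ⊗ₜ[A] (1 : A') = (1 : B₀) ⊗ₜ[A] algebraMap A A' a
    rw [Algebra.algebraMap_eq_smul_one, TensorProduct.smul_tmul, ← Algebra.algebraMap_eq_smul_one]
  let d := H.desc i₁ i₂ hi
  let ψ : RP hf g u →+* T := (μ.toRingHom.comp d.hom).comp ULift.ringEquiv.toRingHom
  have hψ₁ : ∀ x : RU hf u, ψ (rs p₁ x) = x ⊗ₜ 1 := fun x => by
    show μ ((p₁.hom.left.left.appTop ≫ d).hom x.down) = _
    rw [H.inl_desc]
    show Algebra.TensorProduct.productMap la ra (x.down ⊗ₜ 1) = _
    rw [Algebra.TensorProduct.productMap_apply_tmul, map_one, mul_one]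
    rfl
  have hψ₂ : ∀ a : RA g, ψ (rs p₂ (β hf F a)) = 1 ⊗ₜ a := fun a => by
    show μ (((p₂.hom.left.left ≫ (hf.snd F.obj.hom).left).appTop ≫ d).hom a.down) = _
    rw [H.inr_desc]
    show Algebra.TensorProduct.productMap la ra (1 ⊗ₜ a.down) = _
    rw [Algebra.TensorProduct.productMap_apply_tmul, map_one, one_mul]
    rfl
  constructor
  · suffices h : ∀ z, ψ (mulRU hf g u z) = z from Function.LeftInverse.injective (g := ψ) h
    intro z
    induction z with
    | zero => exact (congrArg ψ (map_zero (mulRU hf g u))).trans (map_zero ψ)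
    | tmul x a =>
      show ψ (mulRU hf g u (x ⊗ₜ a)) = _
      rw [mulRU, Algebra.TensorProduct.productMap_apply_tmul]
      refine (map_mul ψ _ _).trans ?_
      show ψ (rs p₁ x) * ψ (rs p₂ (β hf F a)) = _
      rw [hψ₁, hψ₂, Algebra.TensorProduct.tmul_mul_tmul, one_mul, mul_one]
    | add x y hx hy =>
      exact (congrArg ψ (map_add (mulRU hf g u) x y)).trans ((map_add ψ _ _).trans (congrArg₂ (· + ·) hx hy))
  · intro w
    let K : Subring Γ(P.obj.left.left, ⊤) :=
      (mulRU hf g u).range.toSubring.comap ULift.ringEquiv.symm.toRingHom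
    refine mem_of_isPushout H K (fun x => ?_) (fun a => ?_) w.down
    · refine ⟨(show RU hf u from ⟨x⟩) ⊗ₜ 1, ?_⟩
      show mulRU hf g u _ = _
      rw [mulRU, Algebra.TensorProduct.productMap_apply_tmul, map_one, mul_one]; rfl
    · refine ⟨1 ⊗ₜ (show RA g from ⟨a⟩), ?_⟩
      show mulRU hf g u _ = _
      rw [mulRU, Algebra.TensorProduct.productMap_apply_tmul, map_one, one_mul]; rfl

omit hf in
theorem map_map_eq {A B C : EtOver X} (p : B ⟶ A) (k : C ⟶ B) (m : C ⟶ A) (h : k ≫ p = m) (x : sectModEt M A) :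
    (M.val.map k.op (M.val.map p.op x) : sectModEt M C) = M.val.map m.op x := by
  subst h
  exact (congr($(M.val.presheaf.map_comp p.op k.op) x)).symm

omit hf in
theorem map_map_congr {A B B' C : EtOver X} (p : B ⟶ A) (k : C ⟶ B) (q : B' ⟶ A) (l : C ⟶ B') (h : k ≫ p = l ≫ q)
    (x : sectModEt M A) :
    (M.val.map k.op (M.val.map p.op x) : sectModEt M C) = M.val.map l.op (M.val.map q.op x) :=
  (map_map_eq M p k _ h x).trans (map_map_eq M q l _ rfl x).symm

/-- Sections over an object over a base change. -/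
def SU : Type (u + 1) := (fun _ => SA M (𝟙 U)) u

noncomputable instance : AddCommGroup (SU hf M u) := inferInstanceAs (AddCommGroup (SA M (𝟙 U)))

noncomputable instance : Module (RU hf u) (SU hf M u) := inferInstanceAs (Module (Rg U) (SA M (𝟙 U)))

noncomputable instance : Module (Rg E) (SU hf M u) :=
  Module.compHom (SU hf M u) (algebraMap (Rg E) (RU hf u))

instance : IsScalarTower (Rg E) (RU hf u) (SU hf M u) := IsScalarTower.of_algebraMap_smul fun _ _ => rfl

/-- Restriction of sections between objects over a base change. -/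
noncomputable def resU {U' : EtOver X} (u' : U' ⟶ EtOver.bcObj hf E) (k : U' ⟶ U) (w : k ≫ u = u') :
    SU hf M u →ₗ[Rg E] SU hf M u' where
  toFun x := M.val.map k.op (show sectModEt M U from x)
  map_add' x y := map_add (M.val.map k.op).hom x y
  map_smul' r x := by
    show (M.val.map k.op ((show Rg U from rs u (β hf E r)) • (show SA M (𝟙 U) from x)) : sectModEt M U') =
      (show Rg U' from rs u' (β hf E r)) • (show SA M (𝟙 U') from M.val.map k.op (show sectModEt M U from x))
    rw [smul_SA_id, smul_SA_id]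
    refine (M.val.map_smul k.op (rs u (β hf E r)) (show sectModEt M U from x)).trans ?_
    exact congrArg (· • _) ((rs_comp u k (β hf E r)).trans (by rw [w]))

/-- Sections over a fibre from the tensor product. -/
noncomputable def κU : RA g ⊗[Rg E] SU hf M u →+
    RA (EtOver.pullbackFst u (EtOver.bcMap hf g)) ⊗[Rg U] SA M (𝟙 U) :=
  TensorProduct.liftAddHom
    (AddMonoidHom.mk'
      (fun a => AddMonoidHom.mk'
        (fun n => (show RA (EtOver.pullbackFst u (EtOver.bcMap hf g)) from
          rs (EtOver.pullbackSnd u (EtOver.bcMap hf g)) (β hf F a)) ⊗ₜ[Rg U] (show SA M (𝟙 U) from n))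
        (fun x y => tmul_add _ _ _))
      (fun a a' => AddMonoidHom.ext fun n => by
        show _ ⊗ₜ[Rg U] _ = _
        rw [show (show RA (EtOver.pullbackFst u (EtOver.bcMap hf g)) from
              rs (EtOver.pullbackSnd u (EtOver.bcMap hf g)) (β hf F (a + a'))) =
            (show RA (EtOver.pullbackFst u (EtOver.bcMap hf g)) from rs (EtOver.pullbackSnd u (EtOver.bcMap hf g)) (β hf F a)) +
            (show RA (EtOver.pullbackFst u (EtOver.bcMap hf g)) from rs (EtOver.pullbackSnd u (EtOver.bcMap hf g)) (β hf F a'))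
          from (congrArg (rs (EtOver.pullbackSnd u (EtOver.bcMap hf g))) (map_add (β hf F) a a')).trans (map_add _ _ _)]
        exact add_tmul _ _ _))
    (fun r a n => by
      have e1 : (show RA (EtOver.pullbackFst u (EtOver.bcMap hf g)) from
            rs (EtOver.pullbackSnd u (EtOver.bcMap hf g)) (β hf F (r • a))) =
          (show Rg U from rs u (β hf E r)) • (show RA (EtOver.pullbackFst u (EtOver.bcMap hf g)) from
            rs (EtOver.pullbackSnd u (EtOver.bcMap hf g)) (β hf F a)) := by
        refine ((congrArg (rs (EtOver.pullbackSnd u (EtOver.bcMap hf g))) (map_mul (β hf F) (rs g r) a)).trans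
          (map_mul _ _ _)).trans ?_
        exact congrArg (· * _) (rs_snd_β hf g u r)
      show (show RA (EtOver.pullbackFst u (EtOver.bcMap hf g)) from
            rs (EtOver.pullbackSnd u (EtOver.bcMap hf g)) (β hf F (r • a))) ⊗ₜ[Rg U] _ = _
      rw [e1, TensorProduct.smul_tmul]
      rfl)

theorem κU_bijective [Aff E] [Aff F] [Aff U] : Function.Bijective (κU hf M g u) := by
  let b := EtOver.pullbackFst u (EtOver.bcMap hf g)
  let μ := AlgEquiv.ofBijective (mulRU hf g u) (mulRU_bijective hf g u)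
  let σ : SU hf M u ⊗[RU hf u] (RU hf u ⊗[Rg E] RA g) ≃+ SU hf M u ⊗[Rg E] RA g :=
    (AlgebraTensorModule.cancelBaseChange (Rg E) (RU hf u) (RU hf u) (SU hf M u) (RA g)).toAddEquiv
  let c : SU hf M u ⊗[Rg E] RA g ≃ₗ[Rg E] RA g ⊗[Rg E] SU hf M u := TensorProduct.comm _ _ _
  let eS : SU hf M u ≃+ SA M (𝟙 U) := AddEquiv.refl (SA M (𝟙 U))
  have hμ : ∀ (r : RU hf u) w, (show RA b from μ (r • w)) = (show Rg U from r) • (show RA b from μ w) := by
    intro r w
    rw [show r • w = (r ⊗ₜ[Rg E] (1 : RA g)) * w by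
      induction w with
      | zero => simp
      | tmul x a => rw [TensorProduct.smul_tmul', Algebra.TensorProduct.tmul_mul_tmul, one_mul, smul_eq_mul]
      | add x y hx hy => rw [smul_add, mul_add, hx, hy]]
    rw [map_mul]
    show (show RA b from mulRU hf g u (r ⊗ₜ 1)) * (show RA b from μ w) = _
    rw [mulRU, Algebra.TensorProduct.productMap_apply_tmul, map_one, mul_one]
    rfl
  let ν : SU hf M u ⊗[RU hf u] (RU hf u ⊗[Rg E] RA g) →+ RA b ⊗[Rg U] SA M (𝟙 U) :=
    TensorProduct.liftAddHom
      (AddMonoidHom.mk' (fun m => AddMonoidHom.mk' (fun w => (show RA b from μ w) ⊗ₜ[Rg U] (eS m))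
        (fun x y => (congrArg (fun k : RA b => k ⊗ₜ[Rg U] eS m) (map_add μ x y)).trans (add_tmul _ _ _)))
        fun x y => AddMonoidHom.ext fun w => by
          show _ ⊗ₜ[Rg U] eS (x + y) = _
          rw [map_add, tmul_add]; rfl)
      (fun r m w => by
        show (show RA b from μ w) ⊗ₜ[Rg U] eS (r • m) = (show RA b from μ (r • w)) ⊗ₜ[Rg U] eS m
        rw [hμ, TensorProduct.smul_tmul]
        rfl)
  let ν' : RA b ⊗[Rg U] SA M (𝟙 U) →+ SU hf M u ⊗[RU hf u] (RU hf u ⊗[Rg E] RA g) :=
    TensorProduct.liftAddHom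
      (AddMonoidHom.mk' (fun w => AddMonoidHom.mk' (fun m => (eS.symm m) ⊗ₜ[RU hf u] (μ.symm w))
        (fun x y => (congrArg (fun k => k ⊗ₜ[RU hf u] μ.symm w) (map_add eS.symm x y)).trans (add_tmul _ _ _)))
        fun x y => AddMonoidHom.ext fun m => by
          show _ ⊗ₜ[RU hf u] μ.symm (x + y) = _
          rw [map_add, tmul_add]; rfl)
      (fun r w m => by
        show (eS.symm m) ⊗ₜ[RU hf u] (μ.symm (r • w)) = (eS.symm (r • m)) ⊗ₜ[RU hf u] μ.symm w
        rw [show eS.symm (r • m) = (show RU hf u from r) • eS.symm m from rfl, TensorProduct.smul_tmul]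
        congr 1
        apply μ.injective
        rw [μ.apply_symm_apply]
        exact ((hμ r (μ.symm w)).trans (congrArg (r • ·) (μ.apply_symm_apply w))).symm)
  have hν : Function.Bijective ν := by
    refine Function.bijective_iff_has_inverse.2 ⟨ν', fun z => ?_, fun z => ?_⟩
    · induction z with
      | zero => simp only [map_zero]
      | tmul m w =>
        show (eS.symm (eS m)) ⊗ₜ[RU hf u] μ.symm (μ w) = _
        rw [μ.symm_apply_apply, eS.symm_apply_apply]
      | add x y hx hy => simp only [map_add, hx, hy]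
    · induction z with
      | zero => simp only [map_zero]
      | tmul w m =>
        show (show RA b from μ (μ.symm w)) ⊗ₜ[Rg U] eS (eS.symm m) = _
        rw [μ.apply_symm_apply, eS.apply_symm_apply]
      | add x y hx hy => simp only [map_add, hx, hy]
  have key : ∀ z, κU hf M g u (c (σ z)) = ν z := by
    intro z
    induction z with
    | zero => simp only [map_zero]
    | tmul m w =>
      induction w with
      | zero => rw [tmul_zero]; simp only [map_zero]
      | tmul x a =>
        show (show RA b from rs (EtOver.pullbackSnd u (EtOver.bcMap hf g)) (β hf F a)) ⊗ₜ[Rg U]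
          ((show Rg U from x) • eS m) = (show RA b from μ (x ⊗ₜ a)) ⊗ₜ[Rg U] eS m
        rw [← TensorProduct.smul_tmul]; rfl
      | add x y hx hy => simp only [tmul_add, map_add] at hx hy ⊢; rw [hx, hy]
    | add x y hx hy => simp only [map_add, hx, hy]
  have hcσ : Function.Bijective fun z => c (σ z) := c.bijective.comp σ.bijective
  exact (Function.Bijective.of_comp_iff _ hcσ).1 (bijective_congr key hν)

/-- Sections over a fibre. -/
noncomputable def ΦU : RA g ⊗[Rg E] SU hf M u →+ sectModEt M (fibObj hf g u) :=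
  AddMonoidHom.comp (show RA (EtOver.pullbackFst u (EtOver.bcMap hf g)) ⊗[Rg U] SA M (𝟙 U) →+
    sectModEt M (fibObj hf g u) from (bc M (EtOver.pullbackFst u (EtOver.bcMap hf g))).toAddMonoidHom) (κU hf M g u)

theorem ΦU_bijective (h : Good M) [Aff E] [Aff F] [Aff U] : Function.Bijective (ΦU hf M g u) :=
  (h.bij _ ‹Aff U› (aff_fibObj hf g u)).comp (κU_bijective hf M g u)

theorem ΦU_tmul (a : RA g) (m : SU hf M u) : ΦU hf M g u (a ⊗ₜ m) =
    (show RA (EtOver.pullbackFst u (EtOver.bcMap hf g)) from rs (EtOver.pullbackSnd u (EtOver.bcMap hf g)) (β hf F a)) •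
      resL M (𝟙 U) (EtOver.pullbackFst u (EtOver.bcMap hf g)) _ (Category.comp_id _) (show SA M (𝟙 U) from m) :=
  rfl

theorem ΦU_natural {U' : EtOver X} (u' : U' ⟶ EtOver.bcObj hf E) (k : U' ⟶ U) (w : k ≫ u = u')
    (k' : fibObj hf g u' ⟶ fibObj hf g u)
    (h₁ : k' ≫ EtOver.pullbackFst u (EtOver.bcMap hf g) = EtOver.pullbackFst u' (EtOver.bcMap hf g) ≫ k)
    (h₂ : k' ≫ EtOver.pullbackSnd u (EtOver.bcMap hf g) = EtOver.pullbackSnd u' (EtOver.bcMap hf g))
    (z : RA g ⊗[Rg E] SU hf M u) :
    ΦU hf M g u' ((resU hf M u u' k w).lTensor (RA g) z) = M.val.map k'.op (ΦU hf M g u z) := by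
  induction z with
  | zero => simp only [map_zero]
  | tmul a m =>
    rw [LinearMap.lTensor_tmul, ΦU_tmul, ΦU_tmul]
    refine Eq.symm ((M.val.map_smul k'.op _ _).trans ?_)
    refine congrArg₂ (· • ·) ((rs_comp _ _ _).trans (by rw [h₂])) ?_
    refine (congr($(M.val.presheaf.map_comp (EtOver.pullbackFst u (EtOver.bcMap hf g)).op k'.op) m)).symm.trans ?_
    rw [← op_comp, h₁, op_comp]
    exact congr($(M.val.presheaf.map_comp k.op (EtOver.pullbackFst u' (EtOver.bcMap hf g)).op) m)
  | add x y hx hy =>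
    simp only [map_add, hx, hy]

/-- Restriction from the sections of the direct image. -/
noncomputable def resTop : SA ((pushModEt hf).obj M) (𝟙 E) →ₗ[Rg E] SU hf M u where
  toFun x := M.val.map u.op (show sectModEt M (EtOver.bcObj hf E) from x)
  map_add' x y := map_add (M.val.map u.op).hom (show sectModEt M (EtOver.bcObj hf E) from x)
    (show sectModEt M (EtOver.bcObj hf E) from y)
  map_smul' r x := by
    show (M.val.map u.op (show sectModEt M (EtOver.bcObj hf E) from
        r • (show SA ((pushModEt hf).obj M) (𝟙 E) from x)) : sectModEt M U) =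
      (show Rg U from rs u (β hf E r)) • (show SA M (𝟙 U) from M.val.map u.op (show sectModEt M (EtOver.bcObj hf E) from x))
    rw [smul_SA_id, smul_SA_id]
    exact M.val.map_smul u.op (β hf E r) (show sectModEt M (EtOver.bcObj hf E) from x)

theorem map_bc_push (z : RA g ⊗[Rg E] SA ((pushModEt hf).obj M) (𝟙 E)) :
    (M.val.map (EtOver.pullbackSnd u (EtOver.bcMap hf g)).op
        (show sectModEt M (EtOver.bcObj hf F) from bc ((pushModEt hf).obj M) g z) : sectModEt M (fibObj hf g u)) =
      ΦU hf M g u ((resTop hf M u).lTensor (RA g) z) := by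
  induction z with
  | zero => simp only [map_zero]
  | tmul a m =>
    rw [LinearMap.lTensor_tmul, ΦU_tmul, bc_tmul]
    refine (M.val.map_smul _ (β hf F a) _).trans ?_
    refine congrArg₂ (· • ·) rfl ?_
    show M.val.presheaf.map _ (M.val.presheaf.map (EtOver.bcMap hf g).op _) = _
    refine (congr($(M.val.presheaf.map_comp (EtOver.bcMap hf g).op (EtOver.pullbackSnd u (EtOver.bcMap hf g)).op) m)).symm.trans ?_
    rw [← op_comp, ← EtOver.pullback_condition, op_comp]
    exact congr($(M.val.presheaf.map_comp u.op (EtOver.pullbackFst u (EtOver.bcMap hf g)).op) m)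
  | add x y hx hy =>
    simp only [map_add]
    exact congrArg₂ (· + ·) hx hy

theorem piRight_apply_proj {R N : Type*} [CommRing R] [AddCommGroup N] [Module R N] {ι : Type*} [Fintype ι]
    [DecidableEq ι] {Q : ι → Type*} [∀ i, AddCommGroup (Q i)] [∀ i, Module R (Q i)] (x : N ⊗[R] (∀ i, Q i)) (i : ι) :
    TensorProduct.piRight R R N Q x i = (LinearMap.proj i : (∀ i, Q i) →ₗ[R] Q i).lTensor N x := by
  induction x with
  | zero => simp
  | tmul a f => simp
  | add x y hx hy => rw [map_add, map_add, Pi.add_apply, hx, hy]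

/-- Compact opens are covered by finitely many affine opens inside them. -/
theorem exists_affine_cover_of_isCompact {W : Scheme.{u}} {K : W.Opens} (hK : IsCompact (K : Set ↥W)) :
    ∃ (κ : Type u) (_ : Fintype κ) (O : κ → W.Opens), (∀ k, IsAffineOpen (O k)) ∧ (∀ k, O k ≤ K) ∧
      ∀ x ∈ K, ∃ k, x ∈ O k := by
  classical
  choose O hO hxO hOK using fun x : ↥K => exists_isAffineOpen_mem_and_subset (U := K) (x := x.1) x.2
  obtain ⟨t, ht⟩ := hK.elim_finite_subcover (fun x : ↥K => ((O x : W.Opens) : Set ↥W)) (fun x => (O x).isOpen)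
    (fun x hx => Set.mem_iUnion.2 ⟨⟨x, hx⟩, hxO _⟩)
  refine ⟨{x // x ∈ t}, inferInstance, fun x => O x.1, fun x => hO _, fun x => hOK _, fun x hx => ?_⟩
  obtain ⟨i, hi, hxi⟩ := Set.mem_iUnion₂.1 (ht hx)
  exact ⟨⟨i, hi⟩, hxi⟩

theorem exists_etOpen_hom {E : EtOver X} {O O' : E.obj.left.left.Opens} (h : O ≤ O') :
    ∃ k : etOpen E O ⟶ etOpen E O', k ≫ etOpenι E O' = etOpenι E O :=
  ⟨EtOver.homMk (CategoryTheory.Over.homMk (E.obj.left.left.homOfLE h)
      (by show E.obj.left.left.homOfLE h ≫ O'.ι ≫ E.obj.left.hom = O.ι ≫ E.obj.left.hom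
          rw [Scheme.homOfLE_ι_assoc]))
    (by
      show (yon S).map _ ≫ (yon S).map _ ≫ E.obj.hom = (yon S).map _ ≫ E.obj.hom
      rw [← Category.assoc, ← Functor.map_comp]
      exact congrArg (fun k => (yon S).map k ≫ E.obj.hom)
        (CategoryTheory.Over.OverMorphism.ext (Scheme.homOfLE_ι _ h))),
    EtOver.hom_ext _ _ (CategoryTheory.Over.OverMorphism.ext (Scheme.homOfLE_ι _ h))⟩

/-- Base change of sections of the direct image, given a finite cover with finitely covered overlaps. -/
theorem bc_push_bijective_of_cover (h : Good M) [Aff E] [Aff F]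
    [CompactSpace ↥(EtOver.bcObj hf E).obj.left.left] [QuasiSeparatedSpace ↥(EtOver.bcObj hf E).obj.left.left] :
    Function.Bijective (bc ((pushModEt hf).obj M) g) := by
  classical
  let W := EtOver.bcObj hf E
  obtain ⟨ι, hι, O, hO, -, hcov⟩ := exists_affine_cover_of_isCompact (W := W.obj.left.left) (K := ⊤) isCompact_univ
  have hOO : ∀ i l, IsCompact ((O i ⊓ O l : W.obj.left.left.Opens) : Set ↥W.obj.left.left) := fun i l =>
    QuasiSeparatedSpace.inter_isCompact _ _ (O i).isOpen (hO i).isCompact (O l).isOpen (hO l).isCompact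
  choose κ hκ O₂ hO₂ hle hcov₂ using fun i l => exists_affine_cover_of_isCompact (hOO i l)
  haveI : ∀ i l, Fintype (κ i l) := hκ
  let J := Σ (i : ι) (l : ι), κ i l
  let U : ι → EtOver X := fun i => etOpen W (O i)
  let u : ∀ i, U i ⟶ W := fun i => etOpenι W (O i)
  let V : J → EtOver X := fun j => etOpen W (O₂ j.1 j.2.1 j.2.2)
  let v : ∀ j, V j ⟶ W := fun j => etOpenι W (O₂ j.1 j.2.1 j.2.2)
  choose ka hka using fun j : J => exists_etOpen_hom (X := X) (E := W) ((hle j.1 j.2.1 j.2.2).trans inf_le_left)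
  choose kb hkb using fun j : J => exists_etOpen_hom (X := X) (E := W) ((hle j.1 j.2.1 j.2.2).trans inf_le_right)
  haveI : ∀ i, Aff (U i) := hO
  haveI : ∀ j, Aff (V j) := fun j => hO₂ j.1 j.2.1 j.2.2
  let b := EtOver.bcMap hf g
  let la : ∀ j, fibObj hf g (v j) ⟶ fibObj hf g (u j.1) := fun j => (EtOver.isPullback (u j.1) b).lift
    (EtOver.pullbackFst (v j) b ≫ ka j) (EtOver.pullbackSnd (v j) b)
    (by rw [Category.assoc, hka, EtOver.pullback_condition])
  let lb : ∀ j, fibObj hf g (v j) ⟶ fibObj hf g (u j.2.1) := fun j => (EtOver.isPullback (u j.2.1) b).lift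
    (EtOver.pullbackFst (v j) b ≫ kb j) (EtOver.pullbackSnd (v j) b)
    (by rw [Category.assoc, hkb, EtOver.pullback_condition])
  have la₁ : ∀ j, la j ≫ EtOver.pullbackFst (u j.1) b = EtOver.pullbackFst (v j) b ≫ ka j :=
    fun j => (EtOver.isPullback (u j.1) b).lift_fst _ _ _
  have la₂ : ∀ j, la j ≫ EtOver.pullbackSnd (u j.1) b = EtOver.pullbackSnd (v j) b :=
    fun j => (EtOver.isPullback (u j.1) b).lift_snd _ _ _
  have lb₁ : ∀ j, lb j ≫ EtOver.pullbackFst (u j.2.1) b = EtOver.pullbackFst (v j) b ≫ kb j :=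
    fun j => (EtOver.isPullback (u j.2.1) b).lift_fst _ _ _
  have lb₂ : ∀ j, lb j ≫ EtOver.pullbackSnd (u j.2.1) b = EtOver.pullbackSnd (v j) b :=
    fun j => (EtOver.isPullback (u j.2.1) b).lift_snd _ _ _
  let R : SA ((pushModEt hf).obj M) (𝟙 E) →ₗ[Rg E] (∀ i, SU hf M (u i)) := LinearMap.pi fun i => resTop hf M (u i)
  let D : (∀ i, SU hf M (u i)) →ₗ[Rg E] (∀ j, SU hf M (v j)) := LinearMap.pi fun j =>
    (resU hf M (u j.1) (v j) (ka j) (hka j)).comp (LinearMap.proj j.1) -
      (resU hf M (u j.2.1) (v j) (kb j) (hkb j)).comp (LinearMap.proj j.2.1)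
  have hWc : Sieve.ofArrows U u ∈ etTop X W := AlgSp.ofArrows_mem_etTop U u fun x => by
    obtain ⟨i, hi⟩ := hcov x trivial
    exact ⟨i, by rw [range_etOpenι]; exact hi⟩
  have hFc : Sieve.ofArrows (fun i => fibObj hf g (u i)) (fun i => EtOver.pullbackSnd (u i) b) ∈
      etTop X (EtOver.bcObj hf F) := AlgSp.ofArrows_mem_etTop _ _ fun x => by
    obtain ⟨i, hi⟩ := hcov (b.hom.left.left x) trivial
    obtain ⟨y, hy⟩ := (range_etOpenι W (O i)).ge hi
    obtain ⟨z, -, hz⟩ := Scheme.exists_preimage_of_isPullback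
      ((IsPullback.of_hasPullback (u i).hom.left b.hom.left).map (CategoryTheory.Over.forget S)) y x hy
    exact ⟨i, z, hz⟩
  have hRinj : Function.Injective R := fun x y hxy => ext_of_cover' M u hWc fun i => congrFun hxy i
  have hRD : Function.Exact R D := by
    intro x
    constructor
    · intro hx
      have hx' : ∀ j : J, M.val.map (ka j).op (show sectModEt M (U j.1) from x j.1) =
          M.val.map (kb j).op (show sectModEt M (U j.2.1) from x j.2.1) := fun j => sub_eq_zero.1 (congrFun hx j)
      obtain ⟨y, hy⟩ := exists_glue M u hWc (fun i => (show sectModEt M (U i) from x i)) fun i l => by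
        let c : ∀ k : κ i l, V ⟨i, l, k⟩ ⟶ EtOver.pullbackObj (u i) (u l) := fun k =>
          (EtOver.isPullback (u i) (u l)).lift (ka ⟨i, l, k⟩) (kb ⟨i, l, k⟩) ((hka _).trans (hkb ⟨i, l, k⟩).symm)
        refine ext_of_cover' M c (AlgSp.ofArrows_mem_etTop _ _ fun z => ?_) fun k => ?_
        · let p := EtOver.pullbackFst (u i) (u l)
          let q := EtOver.pullbackSnd (u i) (u l)
          let w := (u i).hom.left.left (p.hom.left.left z)
          have hsq := (IsPullback.of_hasPullback (u i).hom.left (u l).hom.left).map (CategoryTheory.Over.forget S)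
          have hw₁ : w ∈ O i := (range_etOpenι W (O i)).le ⟨_, rfl⟩
          have hw₂ : w ∈ O l := by
            refine (range_etOpenι W (O l)).le ⟨q.hom.left.left z, ?_⟩
            exact ((Scheme.Hom.comp_apply _ _ _).symm.trans (congrArg (fun k => k z) hsq.w.symm)).trans
              (Scheme.Hom.comp_apply _ _ _)
          obtain ⟨k, hk⟩ := hcov₂ i l w ⟨hw₁, hw₂⟩
          obtain ⟨t, ht⟩ := (range_etOpenι W (O₂ i l k)).ge hk
          refine ⟨k, t, ?_⟩
          haveI : IsOpenImmersion ((u i).hom.left.left) := inferInstanceAs (IsOpenImmersion (O i).ι)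
          haveI : IsOpenImmersion ((u l).hom.left.left) := inferInstanceAs (IsOpenImmersion (O l).ι)
          haveI : IsOpenImmersion p.hom.left.left :=
            MorphismProperty.of_isPullback (P := @IsOpenImmersion) hsq.flip (inferInstanceAs (IsOpenImmersion (O l).ι))
          have hinj : Function.Injective (p.hom.left.left ≫ (u i).hom.left.left) :=
            (p.hom.left.left ≫ (u i).hom.left.left).isOpenEmbedding.injective
          refine hinj ?_
          have e : c k ≫ p ≫ u i = v ⟨i, l, k⟩ := by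
            rw [← Category.assoc, show c k ≫ p = ka ⟨i, l, k⟩ from (EtOver.isPullback (u i) (u l)).lift_fst _ _ _, hka]
          exact ((Scheme.Hom.comp_apply _ _ _).symm.trans (congrArg (fun m => m.hom.left.left t) e)).trans
            (ht.trans (Scheme.Hom.comp_apply _ _ _).symm)
        · refine ((map_map_eq M _ (c k) _ ((EtOver.isPullback (u i) (u l)).lift_fst _ _ _) (show sectModEt M (U i) from x i)).trans
            (hx' ⟨i, l, k⟩)).trans ?_
          exact (map_map_eq M _ (c k) _ ((EtOver.isPullback (u i) (u l)).lift_snd _ _ _) (show sectModEt M (U l) from x l)).symm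
      exact ⟨y, funext hy⟩
    · rintro ⟨y, rfl⟩
      exact funext fun j => sub_eq_zero.2
        (map_map_congr M (u j.1) (ka j) (u j.2.1) (kb j) ((hka j).trans (hkb j).symm) _)
  haveI := flat_RA g
  have hT := Module.Flat.lTensor_exact (RA g) hRD
  have hTinj := Module.Flat.lTensor_preserves_injective_linearMap (M := RA g) R hRinj
  let e₁ := TensorProduct.piRight (Rg E) (Rg E) (RA g) (fun i => SU hf M (u i))
  let e₂ := TensorProduct.piRight (Rg E) (Rg E) (RA g) (fun j => SU hf M (v j))
  have h1 : ∀ z i, e₁ (R.lTensor (RA g) z) i = (resTop hf M (u i)).lTensor (RA g) z := fun z i => by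
    rw [piRight_apply_proj, ← LinearMap.lTensor_comp_apply]
    rfl
  constructor
  · intro z z' hz
    refine hTinj (e₁.injective (funext fun i => (ΦU_bijective hf M g (u i) h).1 ?_))
    rw [h1, h1, ← map_bc_push, ← map_bc_push]
    exact congrArg (fun s : sectModEt M (EtOver.bcObj hf F) => M.val.map (EtOver.pullbackSnd (u i) b).op s) hz
  · intro y
    choose z hz using fun i => (ΦU_bijective hf M g (u i) h).2
      (M.val.map (EtOver.pullbackSnd (u i) b).op (show sectModEt M (EtOver.bcObj hf F) from y))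
    have hD : D.lTensor (RA g) (e₁.symm z) = 0 := by
      refine e₂.injective (funext fun j => ?_)
      rw [map_zero, piRight_apply_proj, ← LinearMap.lTensor_comp_apply,
        show (LinearMap.proj j).comp D = (resU hf M (u j.1) (v j) (ka j) (hka j)).comp (LinearMap.proj j.1) -
          (resU hf M (u j.2.1) (v j) (kb j) (hkb j)).comp (LinearMap.proj j.2.1) from LinearMap.ext fun _ => rfl,
        LinearMap.lTensor_sub, LinearMap.sub_apply, LinearMap.lTensor_comp_apply, LinearMap.lTensor_comp_apply,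
        ← piRight_apply_proj (R := Rg E) (N := RA g), ← piRight_apply_proj (R := Rg E) (N := RA g)]
      refine sub_eq_zero.2 ((ΦU_bijective hf M g (v j) h).1 ?_)
      rw [show e₁ (e₁.symm z) = z from e₁.apply_symm_apply z] at *
      refine (ΦU_natural hf M g (u j.1) (v j) (ka j) (hka j) (la j) (la₁ j) (la₂ j) (z j.1)).trans
        (Eq.trans ?_ (ΦU_natural hf M g (u j.2.1) (v j) (kb j) (hkb j) (lb j) (lb₁ j) (lb₂ j) (z j.2.1)).symm)
      rw [hz, hz]
      exact map_map_congr M _ (la j) _ (lb j) ((la₂ j).trans (lb₂ j).symm) _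
    obtain ⟨t, ht⟩ := (hT _).1 hD
    refine ⟨t, ext_of_cover' M (fun i => EtOver.pullbackSnd (u i) b) hFc fun i => ?_⟩
    refine (map_bc_push hf M g (u i) t).trans ?_
    rw [← h1, ht, e₁.apply_symm_apply]
    exact hz i

theorem isQuasicoherent_push_qcqs (hqc : IsQuasiCompactMor f) (hqs : IsQuasiSeparatedMor f) (h : Good M) :
    ((pushModEt hf).obj M).IsQuasicoherent := by
  refine Good.isQuasicoherent ⟨fun {E F} g hE hF => ?_⟩
  haveI := hE; haveI := hF
  haveI : IsAffine E.obj.left.left := hE
  haveI : QuasiCompact (hf.snd E.obj.hom).left :=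
    (AlgSpPts.repWith_quasiCompact hf hqc).property _ _ _ (hf.isPullback E.obj.hom)
  haveI : QuasiSeparated (hf.snd E.obj.hom).left := (isQuasiSeparatedMor_yon_map_iff _).1
    (((repWith_isStableUnderBaseChange (S := S) @QuasiCompact).diagonal).of_isPullback (hf.isPullback E.obj.hom) hqs)
  haveI : CompactSpace ↥(EtOver.bcObj hf E).obj.left.left :=
    QuasiCompact.compactSpace_of_compactSpace (hf.snd E.obj.hom).left
  haveI : QuasiSeparatedSpace ↥(EtOver.bcObj hf E).obj.left.left :=
    quasiSeparatedSpace_of_quasiSeparated (hf.snd E.obj.hom).left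
  exact bc_push_bijective_of_cover hf M g h

end Groth.Agent.AlgSpMod
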