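import Groth.Agent.AlgSpMod.Restrict
import Groth.Agent.AlgSpMod.Noeth
import Groth.Agent.AlgSpMod.PushQcqs
import Groth.Agent.AlgSpMod.EnoughInj
import Groth.Agent.AlgSpMod.ClosedDescent
import Groth.Agent.AlgSpDec.LimDescentDiag
import Groth.Agent.AlgSpDec.LimAffineStage

/-!
# Quasi-coherent modules on Noetherian spaces are unions of coherent submodules

For an affine chart `E` and finitely many sections `ℓ` over `E` the sections whose restrictions
above `E` lie in the span of `ℓ` form a quasi-coherent submodule, with finitely generated sections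
over `E`.
-/

set_option autoImplicit false
set_option backward.isDefEq.respectTransparency false
set_option backward.isDefEq.respectTransparency.types false
set_option maxHeartbeats 1000000

universe u

open CategoryTheory CategoryTheory.Limits AlgebraicGeometry Opposite AlgSp TensorProduct
open Groth.Agent Groth.Agent.AlgSpLib Groth.Agent.AlgSpDec Groth.Agent.AlgSpPts

namespace Groth.Agent.AlgSpMod

namespace CohUnion

theorem exists_preimage_of_cokernel {S : Scheme.{u}} {Z : Sp S} {F R : ModEt Z} (φ : F ⟶ R) (hF : Good F)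
    (hR : Good R) {W : EtOver Z} (hW : Aff W) (s : sectModEt R W)
    (h : (cokernel.π φ).val.app (op W) s = 0) : ∃ x, φ.val.app (op W) x = s := by
  let π := cokernel.π φ
  let p := kernel.lift π φ (cokernel.condition _)
  haveI : Epi p := (ShortComplex.cokernelSequence_exact φ).epi_kernelLift
  obtain ⟨y, hy⟩ := ((left_exact (ShortComplex.mk (kernel.ι π) π (kernel.condition π))
    (ShortComplex.kernelSequence_exact π) (inferInstanceAs (Mono (kernel.ι π))) (𝟙 W)).2
      (show SA R (𝟙 W) from s)).1 h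
  obtain ⟨x, hx⟩ := surjective_of_epi p hF (good_kernel π hR (good_cokernel φ hF hR)) hW y
  refine ⟨x, Eq.trans ?_ hy⟩
  rw [← hx]
  exact congrArg (fun t => appSA t (𝟙 W) x) (kernel.lift_ι π φ (cokernel.condition φ)).symm

theorem mem_span_image {A B N P : Type*} [CommRing A] [CommRing B] [AddCommGroup N] [Module A N]
    [AddCommGroup P] [Module B P] (σ : A → B) (b : N →+ P) (hb : ∀ a x, b (a • x) = σ a • b x) (t : Set N)
    {x : N} (hx : x ∈ Submodule.span A t) : b x ∈ Submodule.span B (b '' t) := by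
  induction hx using Submodule.span_induction with
  | mem x hx => exact Submodule.subset_span ⟨x, hx, rfl⟩
  | zero => rw [map_zero]; exact zero_mem _
  | add x y _ _ hx hy => rw [map_add]; exact add_mem hx hy
  | smul r x _ hx => rw [hb]; exact Submodule.smul_mem _ _ hx

theorem map_inv_map {S : Scheme.{u}} {Z : Sp S} (N : ModEt Z) {A B : EtOver Z} (k : A ⟶ B) [IsIso k]
    (s : sectModEt N B) : N.val.map (inv k).op (N.val.map k.op s) = s := by
  refine (congr($(N.val.presheaf.map_comp k.op (inv k).op) s)).symm.trans ?_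
  have hk : k.op ≫ (inv k).op = 𝟙 (op B) := by rw [← op_comp, IsIso.inv_hom_id, op_id]
  exact (congrArg (fun m => N.val.presheaf.map m s) hk).trans congr($(N.val.presheaf.map_id (op B)) s)

theorem appSA_sum_zero {S : Scheme.{u}} {Z : Sp S} {N Q : ModEt Z} (π : N ⟶ Q) (W : EtOver Z) {ι : Type*}
    (t : Finset ι) (r : ι → Rg W) (a : ι → sectModEt N W) (h : ∀ p ∈ t, π.val.app (op W) (a p) = 0) :
    π.val.app (op W) (t.sum fun p =>
      (show sectModEt N W from (show SA N (𝟙 W) from r p • (show SA N (𝟙 W) from a p)))) = 0 := by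
  refine (map_sum (π.val.app (op W)).hom _ _).trans (Finset.sum_eq_zero fun p hp => ?_)
  refine ((appSA π (𝟙 W)).map_smul (r p) (show SA N (𝟙 W) from a p)).trans ?_
  have : appSA π (𝟙 W) (show SA N (𝟙 W) from a p) = 0 := h p hp
  rw [this]
  exact smul_zero _

variable {S : Scheme.{u}} {X : Sp S} (E : EtOver X)

/-- A chart is etale. -/
theorem etC : IsEtaleMor E.obj.hom := isEtaleMor_of_repWith E.obj.hom E.property

/-- An object of the site of a chart maps to the chart. -/
noncomputable def toE (V : EtOver ((yon S).obj E.obj.left)) :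
    (EtOver.postcomp E.obj.hom (etC E)).obj V ⟶ E :=
  EtOver.homMk ((yon S).preimage V.obj.hom) (congrArg (· ≫ E.obj.hom) ((yon S).map_preimage V.obj.hom))

theorem map_comp_toE {V W : EtOver ((yon S).obj E.obj.left)} (g : W ⟶ V) :
    (EtOver.postcomp E.obj.hom (etC E)).map g ≫ toE E V = toE E W :=
  EtOver.hom_ext _ _ ((yon S).map_injective (by
    show (yon S).map (g.hom.left ≫ (yon S).preimage V.obj.hom) = (yon S).map ((yon S).preimage W.obj.hom)
    rw [Functor.map_comp, Functor.map_preimage, Functor.map_preimage]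
    exact EtOver.w g))

/-- The chart as the final object of its site. -/
noncomputable def top₀ : EtOver ((yon S).obj E.obj.left) := EtOver.mk (𝟙 _) (repWith_id @Etale E.obj.left)

instance : IsIso (toE E (top₀ E)) := by
  refine ⟨EtOver.homMk (𝟙 E.obj.left) ?_, EtOver.hom_ext _ _ ?_, EtOver.hom_ext _ _ ?_⟩
  · show (yon S).map (𝟙 _) ≫ 𝟙 _ ≫ E.obj.hom = E.obj.hom
    exact (congrArg (· ≫ (𝟙 _ ≫ E.obj.hom)) ((yon S).map_id _)).trans ((Category.id_comp _).trans (Category.id_comp _))
  · show (yon S).preimage (𝟙 _) ≫ 𝟙 _ = 𝟙 _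
    rw [Functor.preimage_id, Category.id_comp]
  · show 𝟙 _ ≫ (yon S).preimage (𝟙 _) = 𝟙 _
    rw [Functor.preimage_id, Category.id_comp]

variable (M : ModEt X)

/-- The section of the restriction to a chart defined by a section over the chart. -/
noncomputable def secOf (l : sectModEt M E) : (restr (etC E) M).sections :=
  PresheafOfModules.sectionsMk (fun V => M.val.map (toE E V.unop).op l) (fun {V W} g => by
    show M.val.map ((EtOver.postcomp E.obj.hom (etC E)).map g.unop).op (M.val.map (toE E V.unop).op l) = _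
    rw [← map_comp_toE E g.unop]
    exact congr($(M.val.presheaf.map_comp (toE E V.unop).op ((EtOver.postcomp E.obj.hom (etC E)).map g.unop).op) l).symm)

variable {κ : Type (u + 1)} (ℓ : κ → sectModEt M E)

/-- The map given by sections over the chart. -/
noncomputable def genMap : SheafOfModules.free κ ⟶ restr (etC E) M :=
  (restr (etC E) M).freeHomEquiv.symm fun i => secOf E M (ℓ i)

/-- The quotient by the sections over the chart. -/
noncomputable abbrev quot₀ : ModEt ((yon S).obj E.obj.left) := cokernel (genMap E M ℓ)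

/-- The obstruction to lying above the chart in the span of the sections. -/
noncomputable def obs : M ⟶ (pushModEt E.property.1).obj (quot₀ E M ℓ) :=
  haveI := PostcompSite.isContinuous E.obj.hom (etC E)
  (EtPullRestrict.modAdj E.property.1 (etC E)).homEquiv M (quot₀ E M ℓ) (cokernel.π (genMap E M ℓ))

theorem quot₀_sec (i : κ) (W : EtOver ((yon S).obj E.obj.left)) :
    (cokernel.π (genMap E M ℓ)).val.app (op W) (M.val.map (toE E W).op (ℓ i)) = 0 := by
  have h : (quot₀ E M ℓ).freeHomEquiv (genMap E M ℓ ≫ cokernel.π (genMap E M ℓ)) i =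
      (quot₀ E M ℓ).freeHomEquiv 0 i := by rw [cokernel.condition]
  rw [SheafOfModules.freeHomEquiv_comp_apply] at h
  simp only [genMap, Equiv.apply_symm_apply] at h
  have h' := congrArg (fun t : (quot₀ E M ℓ).sections => t.val (op W)) h
  refine Eq.trans h' ?_
  show ((quot₀ E M ℓ).unitHomEquiv (SheafOfModules.ιFree i ≫ 0)).val (op W) = 0
  rw [comp_zero]
  rfl

theorem obs_app_zero {s : sectModEt M E} (h : (obs E M ℓ).val.app (op E) s = 0) :
    (cokernel.π (genMap E M ℓ)).val.app (op (top₀ E)) (M.val.map (toE E (top₀ E)).op s) = 0 := by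
  haveI := PostcompSite.isContinuous E.obj.hom (etC E)
  have e : (SheafOfModules.pushforward.{u + 1} (EtPullRestrict.φ (etC E))).map (obs E M ℓ) ≫
      (EtPullRestrict.modAdj E.property.1 (etC E)).counit.app (quot₀ E M ℓ) = cokernel.π (genMap E M ℓ) :=
    ((EtPullRestrict.modAdj E.property.1 (etC E)).homEquiv_counit _ _ _).symm.trans (Equiv.symm_apply_apply _ _)
  rw [← e]
  show ((EtPullRestrict.modAdj E.property.1 (etC E)).counit.app (quot₀ E M ℓ)).val.app (op (top₀ E))
    ((obs E M ℓ).val.app (op ((EtOver.postcomp E.obj.hom (etC E)).obj (top₀ E)))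
      (M.val.map (toE E (top₀ E)).op s)) = 0
  rw [PresheafOfModules.naturality_apply (obs E M ℓ).val (toE E (top₀ E)).op s, h, map_zero]
  exact map_zero _

theorem obs_app_eq (V : EtOver X) (s : sectModEt M V) :
    (obs E M ℓ).val.app (op V) s = (cokernel.π (genMap E M ℓ)).val.app (op (EtOver.bcObj E.property.1 V))
      (M.val.map ((EtPullRestrict.adj E.property.1 (etC E)).counit.app V).op s) := rfl

/-- A finite free module is generated by its basis. -/
theorem mem_span_free {Z : Sp S} (I : Type (u + 1)) [Finite I] (V : EtOver Z)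
    (x : SA (SheafOfModules.free (R := OEtRing Z) I) (𝟙 V)) :
    x ∈ Submodule.span (Rg V) (Set.range fun i : I =>
      (show SA (SheafOfModules.free (R := OEtRing Z) I) (𝟙 V) from
        (SheafOfModules.ιFree i).val.app (op V) (1 : Rg V))) := by
  classical
  haveI := Fintype.ofFinite I
  let pr : ∀ i : I, SheafOfModules.free (R := OEtRing Z) I ⟶ SheafOfModules.unit (OEtRing Z) := fun i =>
    Cofan.IsColimit.desc (SheafOfModules.isColimitFreeCofan I) fun j => if j = i then 𝟙 _ else 0
  have e : 𝟙 (SheafOfModules.free (R := OEtRing Z) I) = ∑ i, pr i ≫ SheafOfModules.ιFree i := by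
    refine Cofan.IsColimit.hom_ext (SheafOfModules.isColimitFreeCofan I) _ _ fun j => ?_
    rw [Preadditive.comp_sum, Finset.sum_eq_single j ?_ (fun h => absurd (Finset.mem_univ _) h),
      ← Category.assoc, Cofan.IsColimit.fac, if_pos rfl, Category.id_comp]
    · exact Category.comp_id _
    · intro i _ hi
      rw [← Category.assoc, Cofan.IsColimit.fac, if_neg (Ne.symm hi), zero_comp]
  let F := SheafOfModules.free (R := OEtRing Z) I
  let ev : (F ⟶ F) →+ SA F (𝟙 V) :=
    AddMonoidHom.mk' (fun f => appSA f (𝟙 V) x) fun _ _ => rfl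
  have hx : x = ∑ i, ev (pr i ≫ SheafOfModules.ιFree i) := by
    rw [← map_sum, ← e]
    rfl
  rw [hx]
  refine Submodule.sum_mem _ fun i _ => ?_
  let c : Rg V := (pr i).val.app (op V) (show sectModEt F V from x)
  have hc : ev (pr i ≫ SheafOfModules.ιFree i) = c • (show SA F (𝟙 V) from
      (SheafOfModules.ιFree i).val.app (op V) (1 : Rg V)) := by
    rw [smul_SA_id]
    refine Eq.trans ?_ (((SheafOfModules.ιFree (R := OEtRing Z) i).val.app (op V)).hom.map_smul c (1 : Rg V))
    exact congrArg ((SheafOfModules.ιFree (R := OEtRing Z) i).val.app (op V)) (mul_one c).symm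
  rw [hc]
  exact Submodule.smul_mem _ _ (Submodule.subset_span ⟨i, rfl⟩)

variable (hX : IsAlgSpace X) (hqs : IsQuasiSeparatedSp X) [QuasiSeparatedSpace ↥S] [Aff E]

include hX hqs in
theorem qc_qs_chart : IsQuasiCompactMor E.obj.hom ∧ IsQuasiSeparatedMor E.obj.hom := by
  haveI : IsAffine E.obj.left.left := ‹Aff E›
  exact ⟨isQuasiCompactMor_of_qc_qs (IsAlgSpace.yon_obj _) hX ((isQuasiCompactSp_yon_iff _).2 inferInstance) hqs _,
    isQuasiSeparatedMor_of_sp _ ((isQuasiSeparatedSp_yon_iff' _).2 (quasiSeparated_hom_of_affine _)) hqs⟩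

include hX hqs in
theorem good_obs_target (hM : Good M) : Good ((pushModEt E.property.1).obj (quot₀ E M ℓ)) := by
  have h0 : Good (quot₀ E M ℓ) :=
    good_cokernel (genMap E M ℓ) (good_of_qcoh (SheafOfModules.free κ)) (Good.restr (etC E) M hM)
  haveI := isQuasicoherent_push_qcqs E.property.1 (quot₀ E M ℓ) (qc_qs_chart E hX hqs).1 (qc_qs_chart E hX hqs).2 h0
  exact good_of_qcoh _

/-- Generators pushed to the chart. -/
noncomputable def genBack :
    SA (SheafOfModules.free (R := OEtRing ((yon S).obj E.obj.left)) κ) (𝟙 (top₀ E)) →+ SA M (𝟙 E) where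
  toFun x := M.val.map (inv (toE E (top₀ E))).op ((genMap E M ℓ).val.app (op (top₀ E)) x)
  map_zero' := (congrArg (M.val.map (inv (toE E (top₀ E))).op) (map_zero _)).trans (map_zero _)
  map_add' x y := (congrArg (M.val.map (inv (toE E (top₀ E))).op) (map_add _ x y)).trans (map_add _ _ _)

theorem genBack_smul (r : Rg (top₀ E))
    (x : SA (SheafOfModules.free (R := OEtRing ((yon S).obj E.obj.left)) κ) (𝟙 (top₀ E))) :
    genBack E M ℓ (r • x) =
      (show Rg E from rs (inv (toE E (top₀ E))) (show Rg ((EtOver.postcomp E.obj.hom (etC E)).obj (top₀ E)) from r)) •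
        genBack E M ℓ x := by
  refine (congrArg (M.val.map (inv (toE E (top₀ E))).op) ((appSA (genMap E M ℓ) (𝟙 (top₀ E))).map_smul r x)).trans ?_
  rw [smul_SA_id, smul_SA_id]
  refine (congrArg (fun c : Rg ((EtOver.postcomp E.obj.hom (etC E)).obj (top₀ E)) =>
    M.val.map (inv (toE E (top₀ E))).op (c • (show sectModEt M ((EtOver.postcomp E.obj.hom (etC E)).obj (top₀ E)) from
      (genMap E M ℓ).val.app (op (top₀ E)) x))) (φ_app_eq (etC E) (top₀ E) r)).trans ?_
  exact M.val.map_smul _ _ _

/-- Sections over the chart killed by the obstruction come from finitely many generators. -/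
theorem exists_finite_ker (hM : Good M) [Finite κ] :
    ∃ t : Set (sectModEt M E), t.Finite ∧ ∀ s, (obs E M ℓ).val.app (op E) s = 0 →
      s ∈ Submodule.span (Rg E) (show Set (SA M (𝟙 E)) from t) := by
  let t₀ : Set (SA (SheafOfModules.free (R := OEtRing ((yon S).obj E.obj.left)) κ) (𝟙 (top₀ E))) :=
    Set.range fun i : κ => (SheafOfModules.ιFree i).val.app (op (top₀ E)) (1 : Rg (top₀ E))
  let b := genBack E M ℓ
  refine ⟨b '' t₀, (Set.finite_range _).image _, fun s hs => ?_⟩
  obtain ⟨x, hx⟩ := exists_preimage_of_cokernel (genMap E M ℓ) (good_of_qcoh _) (Good.restr (etC E) M hM)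
    (W := top₀ E) ‹Aff E› _ (obs_app_zero E M ℓ hs)
  have hs' : (show SA M (𝟙 E) from s) = b x :=
    ((congrArg (M.val.map (inv (toE E (top₀ E))).op) hx).trans (map_inv_map M (toE E (top₀ E)) s)).symm
  rw [hs']
  exact mem_span_image _ b (genBack_smul E M ℓ) t₀ (mem_span_free κ (top₀ E) x)

include hX hqs in
theorem exists_affine_cover_bc (V : EtOver X) [Aff V] :
    ∃ (n : ℕ) (W : Fin n → EtOver ((yon S).obj E.obj.left)) (w : ∀ a, W a ⟶ EtOver.bcObj E.property.1 V),
      (∀ a, Aff (W a)) ∧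
        ∀ x : ↥(EtOver.bcObj E.property.1 V).obj.left.left, ∃ a, x ∈ Set.range (w a).hom.left.left := by
  classical
  haveI : IsAffine V.obj.left.left := ‹Aff V›
  haveI : QuasiCompact (E.property.1.snd V.obj.hom).left :=
    (repWith_quasiCompact E.property.1 (qc_qs_chart E hX hqs).1).property _ _ _
      (E.property.1.isPullback V.obj.hom)
  haveI : CompactSpace ↥(EtOver.bcObj E.property.1 V).obj.left.left :=
    QuasiCompact.compactSpace_of_compactSpace (E.property.1.snd V.obj.hom).left
  let P := EtOver.bcObj E.property.1 V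
  choose O hO hxO _ using fun x : ↥P.obj.left.left => exists_isAffineOpen_mem_and_subset
    (U := (⊤ : P.obj.left.left.Opens)) (x := x) trivial
  obtain ⟨t, ht⟩ := isCompact_univ.elim_finite_subcover (fun x => (O x : Set ↥P.obj.left.left))
    (fun x => (O x).isOpen) (fun x _ => Set.mem_iUnion.2 ⟨x, hxO x⟩)
  refine ⟨t.card, fun a => etOpen P (O (t.equivFin.symm a).1), fun a => etOpenι P (O (t.equivFin.symm a).1),
    fun a => hO _, fun x => ?_⟩
  obtain ⟨y, hy, hxy⟩ := Set.mem_iUnion₂.1 (ht (Set.mem_univ x))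
  refine ⟨t.equivFin ⟨y, hy⟩, ?_⟩
  refine (range_etOpenι P (O (t.equivFin.symm (t.equivFin ⟨y, hy⟩)).1)).ge ?_
  rw [Equiv.symm_apply_apply]
  exact hxy

/-- Restrictions to objects above a chart are combinations of sections over the chart. -/
theorem exists_combination (hM : Good M) (W : EtOver ((yon S).obj E.obj.left)) (hW : Aff W)
    (x : sectModEt (restr (etC E) M) W) :
    ∃ t : Finset (Rg W × sectModEt M E), x = t.sum fun p =>
      (show sectModEt (restr (etC E) M) W from
        (show SA (restr (etC E) M) (𝟙 W) from p.1 • (show SA (restr (etC E) M) (𝟙 W) from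
          M.val.map (toE E W).op p.2))) := by
  obtain ⟨z, hz⟩ := (hM.bij (toE E W) ‹Aff E› hW).2
    (show SA M (toE E W) from x)
  obtain ⟨t, rfl⟩ := TensorProduct.exists_finset z
  refine ⟨t, hz.symm.trans ?_⟩
  rw [map_sum]
  refine Finset.sum_congr rfl fun p _ => (bc_tmul M _ _ _).trans ?_
  rw [smul_SA_id]
  exact congrArg (fun c : Rg ((EtOver.postcomp E.obj.hom (etC E)).obj W) =>
    c • (show sectModEt M ((EtOver.postcomp E.obj.hom (etC E)).obj W) from M.val.map (toE E W).op p.2))
    (φ_app_eq (etC E) W p.1).symm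

theorem quot₀_combination (W : EtOver ((yon S).obj E.obj.left)) (t : Finset (Rg W × sectModEt M E))
    (ht : ∀ p ∈ t, ∃ i, ℓ i = p.2) :
    (cokernel.π (genMap E M ℓ)).val.app (op W) (t.sum fun p =>
      (show sectModEt (restr (etC E) M) W from
        (show SA (restr (etC E) M) (𝟙 W) from p.1 • (show SA (restr (etC E) M) (𝟙 W) from
          M.val.map (toE E W).op p.2)))) = 0 :=
  appSA_sum_zero (cokernel.π (genMap E M ℓ)) W t (fun p => p.1) (fun p => M.val.map (toE E W).op p.2) fun p hp => by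
    obtain ⟨i, hi⟩ := ht p hp
    rw [← hi]
    exact quot₀_sec E M ℓ i W

include hX hqs in
/-- Finitely many sections are killed by the obstruction of finitely many sections over the chart. -/
theorem exists_obs_eq_zero (hM : Good M) {m : ℕ} (V : Fin m → EtOver X) (hV : ∀ i, Aff (V i))
    (s : ∀ i, sectModEt M (V i)) :
    ∃ (κ : Type (u + 1)) (_ : Finite κ) (ℓ : κ → sectModEt M E), ∀ i, (obs E M ℓ).val.app (op (V i)) (s i) = 0 := by
  classical
  have hcov := fun i => haveI := hV i; exists_affine_cover_bc E hX hqs (V i)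
  choose n W w hW hwc using hcov
  let x : ∀ i, sectModEt (restr (etC E) M) (EtOver.bcObj E.property.1 (V i)) := fun i =>
    M.val.map ((EtPullRestrict.adj E.property.1 (etC E)).counit.app (V i)).op (s i)
  choose t ht using fun (i : Fin m) (a : Fin (n i)) =>
    exists_combination E M hM (W i a) (hW i a) ((restr (etC E) M).val.map (w i a).op (x i))
  let κ₀ := Σ i : Fin m, Σ a : Fin (n i), {p // p ∈ t i a}
  let ℓ₀ : κ₀ → sectModEt M E := fun k => k.2.2.1.2
  refine ⟨κ₀, inferInstance, ℓ₀, fun i => ?_⟩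
  refine (obs_app_eq E M ℓ₀ (V i) (s i)).trans ?_
  refine ext_of_cover' _ (fun a : ULift.{u} (Fin (n i)) => w i a.down)
    (AlgSp.ofArrows_mem_etTop _ _ fun x => (hwc i x).elim fun a ha => ⟨⟨a⟩, ha⟩) fun a => ?_
  refine (PresheafOfModules.naturality_apply (cokernel.π (genMap E M ℓ₀)).val (w i a.down).op (x i)).symm.trans ?_
  refine (congrArg ((cokernel.π (genMap E M ℓ₀)).val.app (op (W i a.down))) (ht i a.down)).trans ?_
  refine (quot₀_combination E M ℓ₀ (W i a.down) (t i a.down) fun p hp => ⟨⟨i, a.down, p, hp⟩, rfl⟩).trans ?_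
  exact (map_zero _).symm

end CohUnion

variable {S : Scheme.{u}} {X : Sp S} [QuasiSeparatedSpace ↥S] {M : ModEt X}

/-- Submodules finite over finitely many charts containing given sections. -/
theorem exists_sub_finite_list (hX : IsAlgSpace X) (hqs : IsQuasiSeparatedSp X) (hN : IsLocNoethSp X)
    (hM : Good M) {m : ℕ} (V : Fin m → EtOver X) (hV : ∀ i, Aff (V i)) (s : ∀ i, sectModEt M (V i))
    (L : List {E : EtOver X // Aff E}) :
    ∃ (N : ModEt X) (ι : N ⟶ M), Mono ι ∧ Good N ∧ (∀ E ∈ L, Module.Finite (Rg E.1) (SA N (𝟙 E.1))) ∧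
      ∀ i, ∃ t, ι.val.app (op (V i)) t = s i := by
  induction L with
  | nil => exact ⟨M, 𝟙 M, inferInstance, hM, fun _ h => absurd h (List.not_mem_nil), fun i => ⟨s i, rfl⟩⟩
  | cons E L ih =>
    obtain ⟨N, ι, _, hNg, hfin, hs⟩ := ih
    haveI := E.2
    obtain ⟨κ, _, ℓ, hℓ⟩ := CohUnion.exists_obs_eq_zero E.1 M hX hqs hM V hV s
    let ψ := ι ≫ CohUnion.obs E.1 M ℓ
    haveI : Mono (kernel.ι ψ) := inferInstance
    refine ⟨kernel ψ, kernel.ι ψ ≫ ι, mono_comp _ _,
      good_kernel ψ hNg (CohUnion.good_obs_target E.1 M ℓ hX hqs hM), fun E' hE' => ?_, fun i => ?_⟩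
    · rcases List.mem_cons.1 hE' with rfl | hmem
      · haveI := isNoetherianRing_Rg hN E'.1 E'.2
        obtain ⟨t, htf, ht⟩ := CohUnion.exists_finite_ker E'.1 M ℓ hM
        let T : Submodule (Rg E'.1) (SA M (𝟙 E'.1)) := Submodule.span _ t
        haveI : Module.Finite (Rg E'.1) T := Module.Finite.span_of_finite _ htf
        let j := appSA (kernel.ι ψ ≫ ι) (𝟙 E'.1)
        have hj : ∀ y, j y ∈ T := fun y => ht _ (by
          have e : (kernel.ι ψ ≫ ι) ≫ CohUnion.obs E'.1 M ℓ = 0 := by rw [Category.assoc]; exact kernel.condition ψ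
          exact congr(($e).val.app (op E'.1) (show sectModEt (kernel ψ) E'.1 from y)))
        exact Module.Finite.of_injective (j.codRestrict T hj)
          (fun a b hab => appSA_injective (kernel.ι ψ ≫ ι) (𝟙 E'.1) (congrArg Subtype.val hab))
      · haveI := hfin E' hmem
        exact finite_of_mono hN (kernel.ι ψ) E'.1 E'.2
    · obtain ⟨t, ht⟩ := hs i
      have h0 : ψ.val.app (op (V i)) t = 0 := by
        show (CohUnion.obs E.1 M ℓ).val.app (op (V i)) (ι.val.app (op (V i)) t) = 0
        rw [ht]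
        exact hℓ i
      obtain ⟨y, hy⟩ := ((left_exact (ShortComplex.mk (kernel.ι ψ) ψ (kernel.condition ψ))
        (ShortComplex.kernelSequence_exact ψ) (inferInstanceAs (Mono (kernel.ι ψ))) (𝟙 (V i))).2
          (show SA N (𝟙 (V i)) from t)).1 h0
      exact ⟨y, (congrArg (ι.val.app (op (V i))) hy).trans ht⟩

/-- Finitely many sections of a quasi-coherent module lie in a coherent submodule. -/
theorem exists_coherent_sub (hX : IsAlgSpace X) (hqc : IsQuasiCompactSp X) (hqs : IsQuasiSeparatedSp X)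
    (hN : IsLocNoethSp X) (hM : Good M) {m : ℕ} (V : Fin m → EtOver X) (hV : ∀ i, Aff (V i))
    (s : ∀ i, sectModEt M (V i)) :
    ∃ (N : ModEt X) (ι : N ⟶ M), Mono ι ∧ N.IsFinitePresentation ∧
      ∀ i, ∃ t, ι.val.app (op (V i)) t = s i := by
  haveI : CompactSpace (Points X) := (isQuasiCompactSp_iff hX).1 hqc
  obtain ⟨t, ht⟩ := exists_finite_charts hX (W := (Set.univ : Set (Points X))) isCompact_univ
  obtain ⟨N, ι, hι, hNg, hfin, hs⟩ := exists_sub_finite_list hX hqs hN hM V hV s t.toList
  haveI := hNg.isQuasicoherent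
  refine ⟨N, ι, hι, isFinitePresentation_of_finite hN hNg fun U hU => ?_, hs⟩
  haveI := hU
  have key : ∀ v : ↥U.obj.left.left, ∃ (E : {E : EtOver X // Aff E}) (F : EtOver X) (g₁ : F ⟶ U) (_ : F ⟶ E.1),
      E ∈ t ∧ Aff F ∧ v ∈ Set.range g₁.hom.left.left := fun v => by
    obtain ⟨E, hE, w, hw⟩ := Set.mem_iUnion₂.1 (ht (Set.mem_univ (Points.ofPt U.obj.hom v)))
    haveI := E.2
    haveI : IsAffine U.obj.left.left := hU
    obtain ⟨F, g₁, g₂, z, hF, hz, -⟩ := exists_common_affine v w hw.symm
    exact ⟨E, F, g₁, g₂, hE, hF, z, hz⟩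
  choose E F g₁ g₂ hE hF hv using key
  haveI : IsAffine U.obj.left.left := hU
  obtain ⟨t', ht'⟩ := isCompact_univ.elim_finite_subcover (fun v => Set.range (g₁ v).hom.left.left)
    (fun v => by
      have := EtOver.etale_left (g₁ v)
      exact (g₁ v).hom.left.left.isOpenMap.isOpen_range)
    (fun x _ => Set.mem_iUnion.2 ⟨x, hv x⟩)
  refine finite_of_cover (fun v : t' => g₁ v.1) (fun v => hF v.1) (fun x => ?_) fun v => ?_
  · obtain ⟨v, hv', hx⟩ := Set.mem_iUnion₂.1 (ht' (Set.mem_univ x))
    exact ⟨⟨v, hv'⟩, hx⟩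
  · haveI := hfin (E v.1) (Finset.mem_toList.2 (hE v.1))
    haveI := finite_of_bc_iso N hNg (g₂ v.1) (E v.1).2 (hF v.1)
    exact finite_bc (g₁ v.1) hU (hF v.1)

omit [QuasiSeparatedSpace ↥S] in
theorem appSA_total {A B C D : ModEt X} (f : A ⟶ B) (f' : B ⟶ A) (g : A ⟶ C) (g' : C ⟶ A)
    (h : f ≫ f' + g ≫ g' = 𝟙 A) (p : A ⟶ D) (E : EtOver X) (x : SA A (𝟙 E)) :
    appSA (f' ≫ p) (𝟙 E) (appSA f (𝟙 E) x) + appSA (g' ≫ p) (𝟙 E) (appSA g (𝟙 E) x) = appSA p (𝟙 E) x := by
  show appSA p (𝟙 E) (appSA f' (𝟙 E) (appSA f (𝟙 E) x)) +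
    appSA p (𝟙 E) (appSA g' (𝟙 E) (appSA g (𝟙 E) x)) = appSA p (𝟙 E) x
  rw [← map_add]
  exact congrArg (appSA p (𝟙 E)) congr(($h).val.app (op E) (show sectModEt A E from x))

omit [QuasiSeparatedSpace ↥S] in
theorem finite_of_total {A B C D : ModEt X} (f : A ⟶ B) (f' : B ⟶ A) (g : A ⟶ C) (g' : C ⟶ A)
    (h : f ≫ f' + g ≫ g' = 𝟙 A) (p : A ⟶ D) (E : EtOver X) (hp : Function.Surjective (appSA p (𝟙 E)))
    [Module.Finite (Rg E) (SA B (𝟙 E))] [Module.Finite (Rg E) (SA C (𝟙 E))] :
    Module.Finite (Rg E) (SA D (𝟙 E)) := by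
  refine Module.Finite.of_surjective ((appSA (f' ≫ p) (𝟙 E)).coprod (appSA (g' ≫ p) (𝟙 E))) fun y => ?_
  obtain ⟨x, rfl⟩ := hp y
  exact ⟨(appSA f (𝟙 E) x, appSA g (𝟙 E) x), (LinearMap.coprod_apply _ _ _).trans (appSA_total f f' g g' h p E x)⟩

/-- Two coherent submodules lie in a third one. -/
theorem exists_coherent_sup (hN : IsLocNoethSp X) (hM : Good M) {N₁ N₂ : ModEt X} (ι₁ : N₁ ⟶ M) (ι₂ : N₂ ⟶ M)
    [N₁.IsFinitePresentation] [N₂.IsFinitePresentation] :
    ∃ (N : ModEt X) (ι : N ⟶ M) (a : N₁ ⟶ N) (b : N₂ ⟶ N), Mono ι ∧ N.IsFinitePresentation ∧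
      a ≫ ι = ι₁ ∧ b ≫ ι = ι₂ := by
  let C := ShortComplex.mk (biprod.inl : N₁ ⟶ N₁ ⊞ N₂) biprod.snd biprod.inl_snd
  have hP : Good (N₁ ⊞ N₂) := good_of_extension C
    (ShortComplex.Splitting.ofHasBinaryBiproduct N₁ N₂).shortExact (good_of_fp N₁) (good_of_fp N₂)
  let d := biprod.desc ι₁ ι₂
  let π := cokernel.π d
  let p := kernel.lift π d (cokernel.condition _)
  haveI : Epi p := (ShortComplex.cokernelSequence_exact d).epi_kernelLift
  have hK : Good (kernel π) := good_kernel π hM (good_cokernel d hP hM)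
  refine ⟨kernel π, kernel.ι π, biprod.inl ≫ p, biprod.inr ≫ p, inferInstance,
    isFinitePresentation_of_finite hN hK fun E hE => ?_, ?_, ?_⟩
  · haveI := finite_of_fp (M := N₁) E hE
    haveI := finite_of_fp (M := N₂) E hE
    exact finite_of_total biprod.fst biprod.inl biprod.snd biprod.inr biprod.total p E
      (surjective_of_epi p hP hK hE)
  · rw [Category.assoc, kernel.lift_ι, biprod.inl_desc]
  · rw [Category.assoc, kernel.lift_ι, biprod.inr_desc]

/-- A morphism hitting all sections over affine objects is an epimorphism. -/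
theorem epi_of_forall_affine {N : ModEt X} (f : N ⟶ M)
    (h : ∀ V : EtOver X, Aff V → ∀ s, ∃ t, f.val.app (op V) t = s) : Epi f := by
  refine Abelian.epi_of_cokernel_π_eq_zero f (SheafOfModules.Hom.ext (PresheafOfModules.hom_ext fun U =>
    ModuleCat.hom_ext (LinearMap.ext fun s => ?_)))
  obtain ⟨κ, W, g, hW, hcov⟩ := exists_affine_open_cover U.unop
  refine ext_of_cover' (cokernel f) g hcov fun k => ?_
  refine (PresheafOfModules.naturality_apply (cokernel.π f).val (g k).op s).symm.trans ?_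
  obtain ⟨t, ht⟩ := h (W k) (hW k) (M.val.map (g k).op s)
  rw [← ht]
  exact (congr(($(cokernel.condition f)).val.app (op (W k)) t)).trans
    (map_zero ((cokernel f).val.map (g k).op).hom).symm

end Groth.Agent.AlgSpMod
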