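import Groth.Agent.AlgSpMod.Exact

/-!
# Colimits of quasi-coherent modules are quasi-coherent
-/

set_option backward.isDefEq.respectTransparency false
set_option backward.isDefEq.respectTransparency.types false
set_option maxHeartbeats 1000000

universe w' w u

open CategoryTheory CategoryTheory.Limits AlgebraicGeometry Opposite AlgSp TensorProduct
open Groth.Agent Groth.Agent.AlgSpLib Groth.Agent.AlgSpDec

namespace Groth.Agent.AlgSpMod

variable {S : Scheme.{u}} {X : Sp S}

/-- Sections of a presheaf of modules over an object over another one. -/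
def PA (P₀ : PresheafOfModules.{u + 1} (OEtRing X).obj) {E F : EtOver X} (_g : F ⟶ E) : Type (u + 1) :=
  P₀.obj (op F)

section

variable (P₀ : PresheafOfModules.{u + 1} (OEtRing X).obj)

noncomputable instance {E F : EtOver X} (g : F ⟶ E) : AddCommGroup (PA P₀ g) :=
  inferInstanceAs (AddCommGroup (P₀.obj (op F)))

noncomputable instance {E F : EtOver X} (g : F ⟶ E) : Module (RA g) (PA P₀ g) :=
  inferInstanceAs (Module ((OEtRing X).obj.obj (op F)) (P₀.obj (op F)))

noncomputable instance {E F : EtOver X} (g : F ⟶ E) : Module (Rg E) (PA P₀ g) :=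
  Module.compHom (PA P₀ g) (algebraMap (Rg E) (RA g))

instance {E F : EtOver X} (g : F ⟶ E) : IsScalarTower (Rg E) (RA g) (PA P₀ g) :=
  IsScalarTower.of_algebraMap_smul fun _ _ => rfl

/-- Restriction to an object over the base. -/
noncomputable def resP {E F : EtOver X} (g : F ⟶ E) : PA P₀ (𝟙 E) →ₗ[Rg E] PA P₀ g where
  toFun x := P₀.map g.op x
  map_add' x y := map_add (P₀.map g.op).hom x y
  map_smul' r x := by
    refine (P₀.map_smul g.op (rs (𝟙 E) r) x).trans ?_
    exact congrArg (fun a : RA g => a • (show PA P₀ g from P₀.map g.op x))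
      ((rs_comp (𝟙 E) g r).trans (congrArg (fun k => rs k r) (Category.comp_id g)))

/-- The comparison map of a presheaf of modules. -/
noncomputable def bp {E F : EtOver X} (g : F ⟶ E) : RA g ⊗[Rg E] PA P₀ (𝟙 E) →ₗ[Rg E] PA P₀ g :=
  TensorProduct.lift (((LinearMap.lsmul (RA g) (PA P₀ g)).restrictScalars₁₂ (Rg E) (Rg E)).compl₂ (resP P₀ g))

theorem bp_tmul {E F : EtOver X} (g : F ⟶ E) (a : RA g) (x : PA P₀ (𝟙 E)) :
    bp P₀ g (a ⊗ₜ x) = a • resP P₀ g x := rfl

/-- The sheaf of modules generated by a presheaf of modules. -/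
noncomputable abbrev shMod : ModEt X :=
  (PresheafOfModules.sheafification.{u + 1} (R := OEtRing X) (𝟙 (OEtRing X).obj)).obj P₀

/-- The canonical map. -/
noncomputable def ηP : P₀ ⟶ (PresheafOfModules.restrictScalars (𝟙 (OEtRing X).obj)).obj (shMod P₀).val :=
  PresheafOfModules.sheafificationHomEquiv.{u + 1} (R := OEtRing X) (𝟙 (OEtRing X).obj) (𝟙 (shMod P₀))

theorem ηP_eq : (PresheafOfModules.toPresheaf _).map (ηP P₀) =
    CategoryTheory.toSheafify (etTop X) P₀.presheaf := by
  refine (PresheafOfModules.toPresheaf_map_sheafificationHomEquiv_def.{u + 1} (R := OEtRing X)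
    (𝟙 (OEtRing X).obj) (𝟙 (shMod P₀))).trans ?_
  exact Category.comp_id _

/-- The canonical map on sections. -/
noncomputable def ηA {E F : EtOver X} (g : F ⟶ E) : PA P₀ g →ₗ[Rg E] SA (shMod P₀) g where
  toFun x := (ηP P₀).app (op F) x
  map_add' a b := map_add ((ηP P₀).app (op F)).hom a b
  map_smul' r a := ((ηP P₀).app (op F)).hom.map_smul (rs g r) a

/-- A presheaf of modules whose affine sections commute with base change gives a good module. -/
theorem good_shMod (h : ∀ {E F : EtOver X} (g : F ⟶ E), Aff E → Aff F → Function.Bijective (bp P₀ g)) :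
    Good (shMod P₀) := by
  have hli : Presheaf.IsLocallyInjective (etTop X) ((PresheafOfModules.toPresheaf _).map (ηP P₀)) := by
    rw [ηP_eq]; exact (etTop X).W_toSheafify P₀.presheaf |> fun h => ((GrothendieckTopology.W_iff_isLocallyBijective _ _).1 h).1
  have hls : Presheaf.IsLocallySurjective (etTop X) ((PresheafOfModules.toPresheaf _).map (ηP P₀)) := by
    rw [ηP_eq]; exact ((GrothendieckTopology.W_iff_isLocallyBijective _ _).1 ((etTop X).W_toSheafify P₀.presheaf)).2
  refine good_of_θ fun B hB => ?_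
  let ι : PA P₀ (𝟙 (base B).left) →ₗ[Rg (base B).left] MS ((shMod P₀).over B) (id₀ B) :=
    idι (shMod P₀) B ∘ₗ ηA P₀ (𝟙 (base B).left)
  refine ⟨_, inferInstance, inferInstance, ι, ?_⟩
  let tr : ∀ (P : Over (base B)), AR P ⊗[Rg (base B).left] PA P₀ (𝟙 (base B).left) →
      RA (P.hom.left : P.left.left ⟶ (base B).left) ⊗[Rg (base B).left] PA P₀ (𝟙 (base B).left) := fun P z => z
  have key : ∀ (P : Over (base B)) z, (θ _ ι P z : sectModEt (shMod P₀) P.left.left) =
      (ηP P₀).app (op P.left.left) (bp P₀ _ (tr P z)) := by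
    intro P z
    induction z with
    | zero => exact (map_zero (θ _ ι P)).trans ((congrArg _ (map_zero (bp P₀ _))).trans (map_zero ((ηP P₀).app _).hom)).symm
    | tmul a n =>
      refine (θ_tmul _ ι P a n).trans ?_
      refine Eq.trans ?_ (((ηP P₀).app (op P.left.left)).hom.map_smul a (resP P₀ P.hom.left n)).symm
      exact congrArg (fun m : MS ((shMod P₀).over B) P => a • m)
        (congr($(((PresheafOfModules.toPresheaf _).map (ηP P₀)).naturality P.hom.left.op).hom n)).symm
    | add x y hx hy =>
      refine (map_add (θ _ ι P) x y).trans ((congrArg₂ (· + ·) hx hy).trans ?_)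
      exact ((congrArg _ (map_add (bp P₀ _) (tr P x) (tr P y))).trans (map_add ((ηP P₀).app _).hom _ _)).symm
  refine θ_bijective _ ι (fun P hP z hz => ?_) (fun P hP m => ?_)
  · refine ⟨_, hli.equalizerSieve_mem (X := op P.left.left) (bp P₀ _ (tr P z)) (0 : PA P₀ (𝟙 P.left.left))
      (((key P z).symm.trans hz).trans (map_zero ((ηP P₀).app (op P.left.left)).hom).symm), fun V k hk hV => ?_⟩
    apply (h _ hB hV).1
    have e1 : ∀ w : AR P ⊗[Rg (base B).left] PA P₀ (𝟙 (base B).left),
        (bp P₀ ((sub P k).hom.left : V ⟶ (base B).left) (tr (sub P k) ((arMap (subHom P k)).toLinearMap.rTensor _ w)) :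
          P₀.obj (op V)) = P₀.map k.op (bp P₀ _ (tr P w)) := by
      intro w
      induction w with
      | zero => exact (map_zero (bp P₀ _)).trans ((congrArg _ (map_zero (bp P₀ _))).trans (map_zero (P₀.map k.op).hom)).symm
      | tmul a n =>
        refine Eq.trans ?_ (P₀.map_smul k.op a (resP P₀ P.hom.left n)).symm
        exact congrArg (fun m : PA P₀ ((sub P k).hom.left : V ⟶ (base B).left) =>
          (show RA ((sub P k).hom.left : V ⟶ (base B).left) from rs k a) • m)
          (congr($(P₀.presheaf.map_comp P.hom.left.op k.op) n))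
      | add x y hx hy =>
        refine (congrArg (bp P₀ _) (map_add ((arMap (subHom P k)).toLinearMap.rTensor _) x y)).trans ?_
        refine (map_add (bp P₀ _) _ _).trans ((congrArg₂ (· + ·) hx hy).trans ?_)
        exact ((congrArg _ (map_add (bp P₀ _) (tr P x) (tr P y))).trans (map_add (P₀.map k.op).hom _ _)).symm
    refine (e1 z).trans ((hk : P₀.map k.op (bp P₀ _ (tr P z)) = P₀.map k.op (0 : PA P₀ (𝟙 P.left.left))).trans ?_)
    exact (map_zero (P₀.map k.op).hom).trans (map_zero (bp P₀ _)).symm
  · refine ⟨_, hls.imageSieve_mem (U := P.left.left) (show sectModEt (shMod P₀) P.left.left from m),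
      fun V k hk hV => ?_⟩
    obtain ⟨x, hx⟩ := hk
    obtain ⟨w, hw⟩ := (h ((sub P k).hom.left : V ⟶ (base B).left) hB hV).2 x
    refine ⟨w, (key (sub P k) w).trans ?_⟩
    exact (congrArg ((ηP P₀).app (op V)) hw).trans hx

end

variable {J : Type w} [Category.{w'} J] [HasColimitsOfShape J AddCommGrpCat.{u + 1}] [∀ R : RingCat.{u + 1}, HasColimitsOfShape J (ModuleCat.{u + 1} R)] (D : J ⥤ ModEt X)

/-- The colimit of good modules in presheaves of modules. -/
noncomputable abbrev preColim : PresheafOfModules.{u + 1} (OEtRing X).obj :=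
  colimit (D ⋙ SheafOfModules.forget (OEtRing X))

/-- The coprojections on sections. -/
noncomputable def injP (j : J) {E F : EtOver X} (g : F ⟶ E) : SA (D.obj j) g →ₗ[Rg E] PA (preColim D) g where
  toFun x := (colimit.ι (D ⋙ SheafOfModules.forget (OEtRing X)) j).app (op F) x
  map_add' a b := map_add ((colimit.ι (D ⋙ SheafOfModules.forget (OEtRing X)) j).app (op F)).hom a b
  map_smul' r a := ((colimit.ι (D ⋙ SheafOfModules.forget (OEtRing X)) j).app (op F)).hom.map_smul (rs g r) a

theorem injP_smul (j : J) {E F : EtOver X} (g : F ⟶ E) (a : RA g) (x : SA (D.obj j) g) :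
    injP D j g (a • x) = a • injP D j g x :=
  ((colimit.ι (D ⋙ SheafOfModules.forget (OEtRing X)) j).app (op F)).hom.map_smul a x

theorem injP_res (j : J) {E F : EtOver X} (g : F ⟶ E) (x : SA (D.obj j) (𝟙 E)) :
    injP D j g (resL (D.obj j) (𝟙 E) g g (Category.comp_id g) x) = resP (preColim D) g (injP D j (𝟙 E) x) :=
  congr($(((PresheafOfModules.toPresheaf _).map
    (colimit.ι (D ⋙ SheafOfModules.forget (OEtRing X)) j)).naturality g.op).hom x)

theorem injP_app {i j : J} (f : i ⟶ j) {E F : EtOver X} (g : F ⟶ E) (x : SA (D.obj i) g) :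
    injP D j g (appSA (D.map f) g x) = injP D i g x :=
  congr(($(colimit.w (D ⋙ SheafOfModules.forget (OEtRing X)) f)).app (op F) x)

theorem top_le_span_injP {E F : EtOver X} (g : F ⟶ E) :
    ⊤ ≤ ⨆ j, LinearMap.range (injP D j g) := by
  let ev := PresheafOfModules.evaluation.{u + 1} (OEtRing X).obj (op F)
  let hc := isColimitOfPreserves ev (colimit.isColimit (D ⋙ SheafOfModules.forget (OEtRing X)))
  let s : ∀ j, ev.obj ((D ⋙ SheafOfModules.forget (OEtRing X)).obj j) ⟶ ev.obj (preColim D) :=
    fun j => ev.map (colimit.ι (D ⋙ SheafOfModules.forget (OEtRing X)) j)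
  let W := ⨆ j, LinearMap.range (s j).hom
  have h0 : ModuleCat.ofHom W.mkQ = (0 : ev.obj (preColim D) ⟶ ModuleCat.of _ (_ ⧸ W)) := by
    refine hc.hom_ext fun j => ModuleCat.hom_ext (LinearMap.ext fun y => ?_)
    show W.mkQ ((s j).hom y) = 0
    exact (Submodule.Quotient.mk_eq_zero W).2 (le_iSup (fun j => LinearMap.range (s j).hom) j ⟨y, rfl⟩)
  intro x _
  have hW : (show ev.obj (preColim D) from x) ∈ W :=
    (Submodule.Quotient.mk_eq_zero W).1 congr(($h0).hom (show ev.obj (preColim D) from x))
  let Z : Submodule (RA g) (PA (preColim D) g) := Submodule.span (RA g) (⋃ j, Set.range (injP D j g))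
  have hZ : ∀ z ∈ Z, z ∈ ⨆ j, LinearMap.range (injP D j g) := by
    intro z hz
    induction hz using Submodule.closure_induction with
    | zero => exact zero_mem _
    | add a b _ _ ha hb => exact add_mem ha hb
    | smul_mem r x hx =>
      obtain ⟨j, y, rfl⟩ := Set.mem_iUnion.1 hx
      exact le_iSup (fun j => LinearMap.range (injP D j g)) j ⟨r • y, injP_smul D j g r y⟩
  let T : AddSubgroup (ev.obj (preColim D)) :=
    Z.toAddSubgroup.comap (AddMonoidHom.mk' (fun y => (show PA (preColim D) g from y)) fun _ _ => rfl)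
  refine hZ x (show (show ev.obj (preColim D) from x) ∈ T from ?_)
  refine Submodule.iSup_induction (motive := fun y => y ∈ T) _ hW ?_ (zero_mem T) fun a b => add_mem
  rintro j _ ⟨y, rfl⟩
  exact Submodule.subset_span (Set.mem_iUnion.2 ⟨j, y, rfl⟩)

variable (hD : ∀ j, Good (D.obj j))

include hD in
theorem bp_bijective {E F : EtOver X} (g : F ⟶ E) (hE : Aff E) (hF : Aff F) :
    Function.Bijective (bp (preColim D) g) := by
  let R' := (OEtRing X).obj.obj (op F)
  let ev := PresheafOfModules.evaluation.{u + 1} (OEtRing X).obj (op F)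
  let hc := isColimitOfPreserves ev (colimit.isColimit (D ⋙ SheafOfModules.forget (OEtRing X)))
  let T := RA g ⊗[Rg E] PA (preColim D) (𝟙 E)
  letI : Module R' T := Module.compHom T (show R' →+* RA g from RingHom.id _)
  let be : ∀ j, RA g ⊗[Rg E] SA (D.obj j) (𝟙 E) ≃ₗ[RA g] SA (D.obj j) g := fun j => bcEquiv (hD j) g hE hF
  let ψj : ∀ j, SA (D.obj j) g →ₗ[RA g] T := fun j =>
    (AlgebraTensorModule.map (LinearMap.id : RA g →ₗ[RA g] RA g) (injP D j (𝟙 E))) ∘ₗ (be j).symm.toLinearMap
  have hψj : ∀ {i j : J} (f : i ⟶ j) (x : SA (D.obj i) g), ψj j (appSA (D.map f) g x) = ψj i x := by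
    intro i j f x
    obtain ⟨z, rfl⟩ := (be i).surjective x
    have e : appSA (D.map f) g (be i z) = be j ((appSA (D.map f) (𝟙 E)).lTensor (RA g) z) := appSA_bc _ g z
    simp only [ψj, LinearMap.comp_apply, LinearEquiv.coe_toLinearMap, e, LinearEquiv.symm_apply_apply]
    clear e
    induction z with
    | zero => simp
    | tmul a n =>
      rw [LinearMap.lTensor_tmul]
      show a ⊗ₜ[Rg E] injP D j (𝟙 E) (appSA (D.map f) (𝟙 E) n) = a ⊗ₜ[Rg E] injP D i (𝟙 E) n
      rw [injP_app]
    | add a b ha hb => simp only [map_add, ha, hb]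
  let c : Cocone ((D ⋙ SheafOfModules.forget (OEtRing X)) ⋙ ev) :=
    { pt := ModuleCat.of R' T
      ι :=
        { app := fun j => ModuleCat.ofHom
            { toFun := fun x => ψj j x
              map_add' := fun a b => map_add (ψj j) a b
              map_smul' := fun r a => map_smul (ψj j) r a }
          naturality := fun i j f => ModuleCat.hom_ext (LinearMap.ext fun x => hψj f x) } }
  let d := hc.desc c
  let ψ : PA (preColim D) g →ₗ[RA g] T :=
    { toFun := fun x => d.hom x
      map_add' := fun a b => map_add d.hom a b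
      map_smul' := fun r a => map_smul d.hom r a }
  have hψ : ∀ j (x : SA (D.obj j) g), ψ (injP D j g x) = ψj j x := fun j x => congr(($(hc.fac c j)).hom x)
  have hbe : ∀ j (z : RA g ⊗[Rg E] SA (D.obj j) (𝟙 E)),
      bp (preColim D) g ((injP D j (𝟙 E)).lTensor (RA g) z) = injP D j g (bc (D.obj j) g z) := by
    intro j z
    induction z with
    | zero => simp
    | tmul a n => rw [LinearMap.lTensor_tmul, bp_tmul, bc_tmul, injP_smul, injP_res]
    | add a b ha hb => simp only [map_add, ha, hb]
  have h1 : ∀ z : RA g ⊗[Rg E] PA (preColim D) (𝟙 E), ψ (bp (preColim D) g z) = z := by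
    intro z
    induction z with
    | zero => simp
    | add a b ha hb => simp only [map_add, ha, hb]
    | tmul a n =>
      have hn : n ∈ ⨆ j, LinearMap.range (injP D j (𝟙 E)) := top_le_span_injP D (𝟙 E) trivial
      rw [bp_tmul, map_smul]
      induction hn using Submodule.iSup_induction' with
      | mem j x hx =>
        obtain ⟨y, rfl⟩ := hx
        have e : bc (D.obj j) g ((1 : RA g) ⊗ₜ y) = resL (D.obj j) (𝟙 E) g g (Category.comp_id g) y := by
          rw [bc_tmul, one_smul]
        rw [← injP_res, hψ, ← e]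
        show a • ((AlgebraTensorModule.map (LinearMap.id : RA g →ₗ[RA g] RA g) (injP D j (𝟙 E)))
          ((be j).symm (be j ((1 : RA g) ⊗ₜ y)))) = _
        rw [LinearEquiv.symm_apply_apply, AlgebraTensorModule.map_tmul, LinearMap.id_apply, TensorProduct.smul_tmul',
          smul_eq_mul, mul_one]
      | zero => simp
      | add x y _ _ hx hy => simp only [map_add, smul_add, tmul_add, hx, hy]
  refine ⟨Function.LeftInverse.injective h1, fun x => ?_⟩
  have hx : x ∈ ⨆ j, LinearMap.range (injP D j g) := top_le_span_injP D g trivial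
  induction hx using Submodule.iSup_induction' with
  | mem j x hx =>
    obtain ⟨y, rfl⟩ := hx
    obtain ⟨z, rfl⟩ := ((hD j).bij g hE hF).2 y
    exact ⟨_, hbe j z⟩
  | zero => exact ⟨0, map_zero _⟩
  | add x y _ _ hx hy =>
    obtain ⟨a, rfl⟩ := hx
    obtain ⟨b, rfl⟩ := hy
    exact ⟨a + b, map_add _ a b⟩

include hD in
/-- A colimit of good modules is good. -/
theorem good_colimit [HasColimit D] : Good (colimit D) := by
  let S' := PresheafOfModules.sheafification.{u + 1} (R := OEtRing X) (𝟙 (OEtRing X).obj)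
  let adj := PresheafOfModules.sheafificationAdjunction.{u + 1} (R := OEtRing X) (𝟙 (OEtRing X).obj)
  have : S'.IsLeftAdjoint := adj.isLeftAdjoint
  have hc := isColimitOfPreserves S' (colimit.isColimit (D ⋙ SheafOfModules.forget (OEtRing X)))
  have e : (D ⋙ SheafOfModules.forget (OEtRing X)) ⋙ S' ≅ D :=
    Functor.associator _ _ _ ≪≫ Functor.isoWhiskerLeft D
      ((Functor.isoWhiskerLeft (SheafOfModules.forget (OEtRing X)) (Functor.leftUnitor S').symm) ≪≫
        (Functor.associator _ _ _).symm ≪≫ asIso adj.counit) ≪≫ Functor.rightUnitor D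
  have hd := (IsColimit.precomposeInvEquiv e _).symm hc
  exact (good_shMod (preColim D) (fun g hE hF => bp_bijective D hD g hE hF)).of_iso
    (hd.coconePointUniqueUpToIso (colimit.isColimit D))

end Groth.Agent.AlgSpMod
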