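import Groth.Agent.AlgSpMod.ProjLocal
import Groth.Agent.QCoh.Qcqs
import Mathlib.Algebra.Category.ModuleCat.Presheaf
import Mathlib.RingTheory.TensorProduct.Basic
import Mathlib.RingTheory.Localization.BaseChange
import Mathlib.Topology.Sheaves.SheafCondition.UniqueGluing

/-!
# The Zariski companion of a good module on the small etale site of a scheme
-/

set_option backward.isDefEq.respectTransparency false
set_option backward.isDefEq.respectTransparency.types false
set_option maxHeartbeats 1000000

universe u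

open CategoryTheory CategoryTheory.Limits AlgebraicGeometry Opposite AlgSp TensorProduct
open Groth.Agent Groth.Agent.AlgSpLib Groth.Agent.AlgSpDec

namespace Groth.Agent.AlgSpMod

variable {S : Scheme.{u}} {T : Over S} (N : ModEt ((yon S).obj T))

/-- Morphisms into an open are unique. -/
theorem hom_openObj_ext {F : EtOver ((yon S).obj T)} {W : T.left.Opens} (a b : F ⟶ openObj T W) : a = b := by
  have h0 : (yon S).map a.hom.left ≫ ((yon S).map (EtOver.homOfEtale (etaleOfOpen T.left W)) ≫ 𝟙 _) =
      (yon S).map b.hom.left ≫ ((yon S).map (EtOver.homOfEtale (etaleOfOpen T.left W)) ≫ 𝟙 _) :=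
    (EtOver.w a).trans (EtOver.w b).symm
  simp only [Category.comp_id, ← Functor.map_comp] at h0
  have h1 := congrArg CommaMorphism.left ((yon S).map_injective h0)
  simp only [Over.comp_left] at h1
  exact EtOver.hom_ext _ _ (Over.OverMorphism.ext ((cancel_mono W.ι).1 h1))

/-- The morphism given by an inclusion of opens. -/
noncomputable abbrev openLE {W W' : T.left.Opens} (h : W' ≤ W) : openObj T W' ⟶ openObj T W :=
  (EtOver.ofScheme T).map (etaleOfLE h)

theorem exists_hom_inf {F : EtOver ((yon S).obj T)} {W₁ W₂ : T.left.Opens} (a : F ⟶ openObj T W₁)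
    (b : F ⟶ openObj T W₂) : Nonempty (F ⟶ openObj T (W₁ ⊓ W₂)) := by
  have h0 : (yon S).map a.hom.left ≫ ((yon S).map (EtOver.homOfEtale (etaleOfOpen T.left W₁)) ≫ 𝟙 _) =
      (yon S).map b.hom.left ≫ ((yon S).map (EtOver.homOfEtale (etaleOfOpen T.left W₂)) ≫ 𝟙 _) :=
    (EtOver.w a).trans (EtOver.w b).symm
  simp only [Category.comp_id, ← Functor.map_comp] at h0
  have h1 := congrArg CommaMorphism.left ((yon S).map_injective h0)
  simp only [Over.comp_left] at h1
  have hr : Set.range (a.hom.left.left ≫ W₁.ι) ⊆ Set.range (W₁ ⊓ W₂).ι := by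
    rintro _ ⟨x, rfl⟩
    rw [Scheme.Opens.range_ι]
    refine ⟨(a.hom.left.left x).2, ?_⟩
    show (a.hom.left.left ≫ W₁.ι) x ∈ W₂
    rw [show a.hom.left.left ≫ W₁.ι = b.hom.left.left ≫ W₂.ι from h1]
    exact (b.hom.left.left x).2
  let l := IsOpenImmersion.lift (W₁ ⊓ W₂).ι (a.hom.left.left ≫ W₁.ι) hr
  have hl : l ≫ T.left.homOfLE inf_le_left = a.hom.left.left := by
    rw [← cancel_mono W₁.ι, Category.assoc, Scheme.homOfLE_ι, IsOpenImmersion.lift_fac]
  refine ⟨EtOver.homMk (Over.homMk l ?_) ?_⟩
  · have := Over.w a.hom.left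
    refine Eq.trans ?_ this
    rw [← hl, Category.assoc]
    congr 1
    exact (Over.w (openLE (T := T) (inf_le_left : W₁ ⊓ W₂ ≤ W₁)).hom.left).symm
  · refine Eq.trans ?_ (EtOver.w a)
    rw [← EtOver.w (openLE (T := T) (inf_le_left : W₁ ⊓ W₂ ≤ W₁)), ← Category.assoc, ← Functor.map_comp]
    congr 2
    exact Over.OverMorphism.ext hl

/-- Functions on an open as functions on the corresponding object. -/
noncomputable def openσ (W : T.left.Opens) : Γ(T.left, W) ≃+* Rg (openObj T W) :=
  W.topIso.symm.commRingCatIsoToRingEquiv.trans ULift.ringEquiv.symm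

theorem rs_openσ {W W' : T.left.Opens} (h : W' ≤ W) (a : Γ(T.left, W)) :
    rs (openLE (T := T) h) (openσ W a) = openσ W' (T.left.presheaf.map (homOfLE h).op a) := by
  refine ULift.ext _ _ ?_
  show (T.left.homOfLE h).appTop (W.topIso.inv a) = W'.topIso.inv (T.left.presheaf.map (homOfLE h).op a)
  simp [Scheme.Hom.appTop, ← Functor.map_comp_apply, ← CommRingCat.comp_apply, ← Functor.map_comp]

/-- Sections over an open, as a module over its functions. -/
def ZS (W : T.left.Opens) : Type (u + 1) := SA N (𝟙 (openObj T W))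

noncomputable instance (W : T.left.Opens) : AddCommGroup (ZS N W) :=
  inferInstanceAs (AddCommGroup (SA N (𝟙 (openObj T W))))

noncomputable instance (W : T.left.Opens) : Module Γ(T.left, W) (ZS N W) :=
  Module.compHom (SA N (𝟙 (openObj T W))) (openσ W).toRingHom

/-- Restriction of sections. -/
noncomputable def zres {W W' : T.left.Opens} (h : W' ≤ W) : ZS N W →+ ZS N W' :=
  AddMonoidHom.mk' (fun x => N.val.map (openLE (T := T) h).op x)
    fun x y => map_add (N.val.map (openLE (T := T) h).op).hom x y

theorem zres_smul {W W' : T.left.Opens} (h : W' ≤ W) (a : Γ(T.left, W)) (x : ZS N W) :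
    zres N h (a • x) = T.left.presheaf.map (homOfLE h).op a • zres N h x := by
  show N.val.map (openLE (T := T) h).op (openσ W a • (show SA N (𝟙 _) from x)) =
    (show ZS N W' from openσ W' (T.left.presheaf.map (homOfLE h).op a) •
      (show SA N (𝟙 (openObj T W')) from zres N h x))
  rw [smul_SA_id, smul_SA_id, ← rs_openσ]
  exact N.val.map_smul _ _ _

theorem zres_zres {W W' W'' : T.left.Opens} (h : W' ≤ W) (h' : W'' ≤ W') (x : ZS N W) :
    zres N h' (zres N h x) = zres N (h'.trans h) x := by
  refine Eq.trans ?_ (congrArg (fun k => N.val.presheaf.map (Quiver.Hom.op k) x)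
    (hom_openObj_ext (openLE h' ≫ openLE h) (openLE (T := T) (h'.trans h))))
  exact (congr($(N.val.presheaf.map_comp (openLE (T := T) h).op (openLE (T := T) h').op) x)).symm

theorem zres_refl {W : T.left.Opens} (x : ZS N W) : zres N (le_refl W) x = x := by
  show N.val.map _ x = x
  rw [← hom_openObj_ext (𝟙 _) (openLE (T := T) (le_refl W)), op_id]
  exact congr($(N.val.presheaf.map_id (op (openObj T W))) x)

theorem mem_etTop_openLE {W : T.left.Opens} {κ : Type u} (O : κ → T.left.Opens) (hle : ∀ k, O k ≤ W)
    (hcov : ∀ x ∈ W, ∃ k, x ∈ O k) :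
    Sieve.ofArrows (fun k => openObj T (O k)) (fun k => openLE (hle k)) ∈ etTop _ (openObj T W) := by
  refine AlgSp.ofArrows_mem_etTop _ _ fun x => ?_
  obtain ⟨x, hx⟩ := (show ↥W from x)
  obtain ⟨k, hk⟩ := hcov x hx
  refine ⟨k, (⟨x, hk⟩ : ↥(O k)), Subtype.ext ?_⟩
  exact congr($(T.left.homOfLE_ι (hle k)) ⟨x, hk⟩)

variable (hsm : ∀ W : T.left.Opens, IsAffineOpen W → Small.{u} (ZS N W))

include hsm in
theorem small_ZS (W : T.left.Opens) : Small.{u} (ZS N W) := by
  choose O hO hxO hle using fun x : ↥W => exists_isAffineOpen_mem_and_subset (U := W) (x := x.1) x.2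
  haveI := fun x : ↥W => hsm (O x) (hO x)
  exact small_of_injective (f := fun (s : ZS N W) (x : ↥W) => zres N (hle x) s) fun s t hst =>
    ext_of_cover' N (fun x => openLE (hle x)) (mem_etTop_openLE O hle fun x hx => ⟨⟨x, hx⟩, hxO _⟩) (congrFun hst)

/-- The presheaf of small sections. -/
noncomputable def compPre : PresheafOfModules.{u} T.left.ringCatSheaf.obj :=
  haveI := small_ZS N hsm
  { obj := fun W => ModuleCat.of Γ(T.left, W.unop) (Shrink.{u} (ZS N W.unop))
    map := fun {W W'} i => ModuleCat.ofHom
      (Y := (ModuleCat.restrictScalars (T.left.ringCatSheaf.obj.map i).hom).obj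
        (ModuleCat.of Γ(T.left, W'.unop) (Shrink.{u} (ZS N W'.unop))))
      { toFun := fun x => equivShrink (ZS N W'.unop) (zres N (leOfHom i.unop) ((equivShrink (ZS N W.unop)).symm x))
        map_add' := fun x y => by rw [equivShrink_symm_add, map_add, equivShrink_add]
        map_smul' := fun a x => by
          rw [equivShrink_symm_smul, zres_smul, equivShrink_smul]
          try rfl }
    map_id := fun W => by
      ext x
      show equivShrink _ (zres N _ ((equivShrink _).symm x)) = x
      rw [zres_refl, Equiv.apply_symm_apply]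
    map_comp := fun i j => by
      ext x
      show equivShrink _ (zres N _ ((equivShrink _).symm x)) =
        equivShrink _ (zres N _ ((equivShrink _).symm (equivShrink _ (zres N _ ((equivShrink _).symm x)))))
      rw [Equiv.symm_apply_apply, zres_zres] }

theorem compPre_isSheaf : Presheaf.IsSheaf (Opens.grothendieckTopology T.left) (compPre N hsm).presheaf := by
  haveI := small_ZS N hsm
  show TopCat.Presheaf.IsSheaf (compPre N hsm).presheaf
  rw [TopCat.Presheaf.isSheaf_iff_isSheafUniqueGluing]
  intro ι U sf hsf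
  let x : ∀ i, ZS N (U i) := fun i => (equivShrink (ZS N (U i))).symm (sf i)
  have hle : ∀ i, U i ≤ iSup U := le_iSup U
  have hcov := mem_etTop_openLE (T := T) U hle fun x hx => TopologicalSpace.Opens.mem_iSup.1 hx
  obtain ⟨y, hy⟩ := exists_glue N (fun i => openLE (hle i)) hcov x fun k l => by
    obtain ⟨c⟩ := exists_hom_inf (EtOver.pullbackFst (openLE (T := T) (hle k)) (openLE (hle l)))
      (EtOver.pullbackSnd (openLE (T := T) (hle k)) (openLE (hle l)))
    rw [← hom_openObj_ext (c ≫ openLE inf_le_left) (EtOver.pullbackFst (openLE (T := T) (hle k)) (openLE (hle l))),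
      ← hom_openObj_ext (c ≫ openLE inf_le_right) (EtOver.pullbackSnd (openLE (T := T) (hle k)) (openLE (hle l))),
      op_comp, op_comp, N.val.map_comp, N.val.map_comp]
    refine congrArg (fun z => (N.val.map c.op) z) ?_
    exact (equivShrink (ZS N (U k ⊓ U l))).injective (hsf k l)
  refine ⟨equivShrink (ZS N (iSup U)) y, fun i => ?_, fun z hz => ?_⟩
  · show equivShrink (ZS N (U i)) (zres N (hle i) ((equivShrink _).symm (equivShrink _ y))) = sf i
    rw [Equiv.symm_apply_apply]
    exact (congrArg (equivShrink (ZS N (U i))) (hy i)).trans (Equiv.apply_symm_apply _ _)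
  · refine ((equivShrink (ZS N (iSup U))).symm_apply_eq.1 ?_)
    refine ext_of_cover' N _ hcov fun i => (Eq.trans ?_ (hy i).symm)
    exact (equivShrink (ZS N (U i))).injective (Eq.trans (hz i) (Equiv.apply_symm_apply _ _).symm)

/-- The Zariski module of small sections. -/
noncomputable def compMod : T.left.Modules := ⟨compPre N hsm, compPre_isSheaf N hsm⟩

/-- The module of small sections is a Zariski companion. -/
noncomputable def compCompanion : ZarCompanion T.left (compMod N hsm) ((resSchModEt T).obj N) :=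
  haveI := small_ZS N hsm
  { iso := fun W =>
      { toFun := fun m => ULift.up (equivShrink (ZS N W) m)
        invFun := fun x => (equivShrink (ZS N W)).symm x.down
        left_inv := fun m => (equivShrink (ZS N W)).symm_apply_apply m
        right_inv := fun x => ULift.ext _ _ ((equivShrink (ZS N W)).apply_symm_apply x.down)
        map_add' := fun m m' => ULift.ext _ _ (equivShrink_add (α := ZS N W) m m') }
    map_smul := fun W a m => ULift.ext _ _ (by
      refine Eq.trans ?_ (equivShrink_smul (M := Γ(T.left, W)) (α := ZS N W) a m)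
      refine congrArg (equivShrink (ZS N W)) ?_
      show _ = (show ZS N W from openσ W a • (show SA N (𝟙 _) from m))
      rw [smul_SA_id]
      rfl)
    map_res := fun {W W'} h m => ULift.ext _ _ (by
      show equivShrink (ZS N W') (zres N h m) = equivShrink (ZS N W') (zres N h ((equivShrink _).symm (equivShrink _ m)))
      rw [Equiv.symm_apply_apply]) }

theorem isLocalization_RA_basicOpen {U : T.left.Opens} (hU : IsAffineOpen U) (f : Γ(T.left, U)) :
    IsLocalization.Away (openσ U f) (RA (openLE (T := T) (T.left.basicOpen_le f))) := by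
  let g := openLE (T := T) (T.left.basicOpen_le f)
  haveI := hU.isLocalization_basicOpen f
  let res : Γ(T.left, U) →+* Γ(T.left, T.left.basicOpen f) :=
    (T.left.presheaf.map (homOfLE (T.left.basicOpen_le f)).op).hom
  have hres : algebraMap Γ(T.left, U) Γ(T.left, T.left.basicOpen f) = res := rfl
  have hg : ∀ a, algebraMap (Rg (openObj T U)) (RA g) (openσ U a) = openσ (T.left.basicOpen f) (res a) :=
    fun a => rs_openσ _ a
  refine { map_units := ?_, surj := ?_, exists_of_eq := ?_ }
  · rintro ⟨_, n, rfl⟩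
    show IsUnit (algebraMap (Rg (openObj T U)) (RA g) (openσ U f ^ n))
    rw [← map_pow, hg]
    exact ((IsLocalization.map_units (M := Submonoid.powers f) Γ(T.left, T.left.basicOpen f)
      ⟨f ^ n, n, rfl⟩).map (openσ (T.left.basicOpen f)) : IsUnit (openσ (T.left.basicOpen f) (res (f ^ n))))
  · intro z
    obtain ⟨z, rfl⟩ : ∃ y, (openσ (T.left.basicOpen f) y : RA g) = z := (openσ (T.left.basicOpen f)).surjective z
    obtain ⟨⟨a, ⟨_, n, rfl⟩⟩, h⟩ := IsLocalization.surj (Submonoid.powers f) z
    refine ⟨⟨openσ U a, ⟨openσ U f ^ n, n, rfl⟩⟩, ?_⟩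
    show (show RA g from openσ _ z) * algebraMap _ (RA g) (openσ U f ^ n) = algebraMap _ (RA g) (openσ U a)
    rw [← map_pow, hg, hg]
    exact (map_mul (openσ (T.left.basicOpen f)) z (res (f ^ n))).symm.trans (congrArg _ h)
  · intro x y hxy
    obtain ⟨a, rfl⟩ := (openσ U).surjective x
    obtain ⟨b, rfl⟩ := (openσ U).surjective y
    rw [hg, hg] at hxy
    obtain ⟨⟨_, n, rfl⟩, hc⟩ := IsLocalization.exists_of_eq (M := Submonoid.powers f)
      ((openσ (T.left.basicOpen f)).injective hxy : res a = res b)
    refine ⟨⟨openσ U f ^ n, n, rfl⟩, ?_⟩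
    show openσ U f ^ n * openσ U a = openσ U f ^ n * openσ U b
    rw [← map_pow, ← map_mul, ← map_mul]; exact congrArg _ hc

variable (hN : Good N)

include hN in
/-- The module of small sections is quasi-coherent. -/
theorem isQCoh_compMod : Coh.IsQCoh (compMod N hsm) := by
  haveI := small_ZS N hsm
  have key : ∀ (U : T.left.Opens), IsAffineOpen U → ∀ (f : Γ(T.left, U)),
      (∀ z : ZS N (T.left.basicOpen f), ∃ (n : ℕ) (t : ZS N U), zres N (T.left.basicOpen_le f) t =
        T.left.presheaf.map (homOfLE (T.left.basicOpen_le f)).op f ^ n • z) ∧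
      (∀ t : ZS N U, zres N (T.left.basicOpen_le f) t = 0 → ∃ n : ℕ, f ^ n • t = 0) := by
    intro U hU f
    let g := openLE (T := T) (T.left.basicOpen_le f)
    haveI := isLocalization_RA_basicOpen hU f
    have hb := hN.bij g hU (hU.basicOpen f)
    haveI : IsLocalizedModule (Submonoid.powers (openσ U f))
        (TensorProduct.mk (Rg (openObj T U)) (RA g) (SA N (𝟙 (openObj T U))) 1) := inferInstance
    have h1 : ∀ t : ZS N U, (bc N g (1 ⊗ₜ[Rg (openObj T U)] (show SA N (𝟙 _) from t)) : sectModEt N _) =
        zres N (T.left.basicOpen_le f) t := fun t => by rw [bc_tmul, one_smul]; rfl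
    refine ⟨fun z => ?_, fun t ht => ?_⟩
    · obtain ⟨w, hw⟩ := hb.2 (show SA N g from z)
      obtain ⟨⟨t, ⟨_, n, rfl⟩⟩, hn⟩ := IsLocalizedModule.surj (Submonoid.powers (openσ U f))
        (TensorProduct.mk (Rg (openObj T U)) (RA g) (SA N (𝟙 (openObj T U))) 1) w
      refine ⟨n, t, ?_⟩
      rw [← h1]
      refine Eq.trans (congrArg (bc N g) hn.symm) ?_
      rw [Submonoid.smul_def, map_smul, hw]
      show (show sectModEt N _ from rs g (openσ U f ^ n) • (show sectModEt N _ from z)) =
        (show ZS N _ from openσ _ ((T.left.presheaf.map (homOfLE (T.left.basicOpen_le f)).op f) ^ n) •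
          (show SA N (𝟙 _) from z))
      rw [smul_SA_id, map_pow, map_pow, ← rs_openσ]
    · have h0 : TensorProduct.mk (Rg (openObj T U)) (RA g) (SA N (𝟙 (openObj T U))) 1 t = 0 :=
        hb.1 (((h1 t).trans ht).trans (map_zero (bc N g)).symm)
      obtain ⟨⟨_, n, rfl⟩, hn⟩ := (IsLocalizedModule.eq_zero_iff (Submonoid.powers (openσ U f)) _).1 h0
      exact ⟨n, (congrArg (fun a => (show ZS N U from a • (show SA N (𝟙 _) from t))) (map_pow (openσ U) f n)).trans hn⟩
  refine QCoh.isQCoh_of_sections (fun U hU f s => ?_) fun U hU f t ht => ?_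
  · obtain ⟨n, t, ht⟩ := (key U hU f).1 ((equivShrink (ZS N _)).symm s)
    refine ⟨n, equivShrink (ZS N U) t, ?_⟩
    show equivShrink (ZS N _) (zres N _ ((equivShrink _).symm (equivShrink _ t))) = _
    rw [Equiv.symm_apply_apply, ht, equivShrink_smul, Equiv.apply_symm_apply]
  · obtain ⟨n, hn⟩ := (key U hU f).2 ((equivShrink (ZS N U)).symm t) ((equivShrink (ZS N _)).injective (ht.trans
      ((Equiv.apply_eq_iff_eq_symm_apply _).2 (equivShrink_symm_zero (α := ZS N _)).symm).symm))
    refine ⟨n, (equivShrink (ZS N U)).symm.injective ?_⟩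
    show (equivShrink (ZS N U)).symm (f ^ n • (show Shrink.{u} (ZS N U) from t)) = _
    rw [equivShrink_symm_smul, hn]
    exact (equivShrink_symm_zero (α := ZS N U)).symm

end Groth.Agent.AlgSpMod
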