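import Groth.Agent.AlgSpMod.Cover
import Groth.Agent.DescLib.Amitsur
import Mathlib.Algebra.Category.ModuleCat.Sheaf.PushforwardContinuous
import Mathlib.AlgebraicGeometry.Pullbacks

/-!
# Comparison of sections of a sheaf of modules with a tensor product on affine objects
-/

set_option backward.isDefEq.respectTransparency false
set_option backward.isDefEq.respectTransparency.types false

universe u

open CategoryTheory CategoryTheory.Limits AlgebraicGeometry Opposite AlgSp TensorProduct
open Groth.Agent.AlgSpLib Groth.Agent.AlgSpDec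

namespace Groth.Agent.AlgSpMod

variable {S : Scheme.{u}} {X : Sp S} {B : EtOver X} {E₀ : Over B}

/-- Functions on an object over `E₀`. -/
def AR (P : Over E₀) : Type (u + 1) := Rg P.left.left

noncomputable instance (P : Over E₀) : CommRing (AR P) := inferInstanceAs (CommRing (Rg P.left.left))

noncomputable instance (P : Over E₀) : Algebra (Rg E₀.left) (AR P) :=
  (show Rg E₀.left →+* AR P from rs P.hom.left).toAlgebra

/-- Restriction of functions as an algebra map. -/
noncomputable def arMap {P P' : Over E₀} (h : P' ⟶ P) : AR P →ₐ[Rg E₀.left] AR P' :=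
  ⟨(show AR P →+* AR P' from rs h.left.left), fun r => by
    show rs h.left.left (rs P.hom.left r) = rs P'.hom.left r
    have e : h.left.left ≫ P.hom.left = P'.hom.left := congrArg CommaMorphism.left (Over.w h)
    rw [← e]
    exact (congr($((OEt X).obj.map_comp P.hom.left.op h.left.left.op).hom r)).symm⟩

theorem arMap_comp {P P' P'' : Over E₀} (h : P' ⟶ P) (k : P'' ⟶ P') :
    (arMap k).comp (arMap h) = arMap (k ≫ h) :=
  AlgHom.ext fun a => (congr($((OEt X).obj.map_comp h.left.left.op k.left.left.op).hom a)).symm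

theorem arMap_id (P : Over E₀) : arMap (𝟙 P) = AlgHom.id (Rg E₀.left) (AR P) :=
  AlgHom.ext fun a => congr($((OEt X).obj.map_id (op P.left.left)).hom a)

theorem rg_ext {E : EtOver X} {κ : Type u} {Ek : κ → EtOver X} {j : ∀ k, Ek k ⟶ E}
    (hc : Sieve.ofArrows Ek j ∈ etTop X E) {a b : Rg E} (h : ∀ k, rs (j k) a = rs (j k) b) : a = b := by
  refine (((isSheaf_iff_isSheaf_of_type _ _).1
    ((sheafCompose (etTop X) (CategoryTheory.forget CommRingCat.{u + 1})).obj (OEt X)).property) _
      hc).isSeparatedFor.ext fun U k hk => ?_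
  obtain ⟨i, k', rfl⟩ := (Sieve.mem_ofArrows_iff _ _ _).1 hk
  show (OEt X).obj.map _ a = (OEt X).obj.map _ b
  rw [op_comp, Functor.map_comp]
  exact congrArg ((OEt X).obj.map k'.op) (h i)

variable (M : SheafOfModules.{u + 1} ((OEtRing X).over B))

/-- Sections over an object over `E₀`. -/
def MS (P : Over E₀) : Type (u + 1) := M.val.obj (op P.left)

noncomputable instance (P : Over E₀) : AddCommGroup (MS M P) :=
  inferInstanceAs (AddCommGroup (M.val.obj (op P.left)))

noncomputable instance (P : Over E₀) : Module (AR P) (MS M P) :=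
  inferInstanceAs (Module (((OEtRing X).over B).obj.obj (op P.left)) (M.val.obj (op P.left)))

noncomputable instance (P : Over E₀) : Module (Rg E₀.left) (MS M P) :=
  Module.compHom (MS M P) (algebraMap (Rg E₀.left) (AR P))

instance (P : Over E₀) : IsScalarTower (Rg E₀.left) (AR P) (MS M P) :=
  IsScalarTower.of_algebraMap_smul fun _ _ => rfl

/-- Restriction of sections. -/
noncomputable def msMap {P P' : Over E₀} (h : P' ⟶ P) : MS M P →+ MS M P' where
  toFun x := M.val.map h.left.op x
  map_zero' := map_zero _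
  map_add' := map_add _

theorem msMap_smul {P P' : Over E₀} (h : P' ⟶ P) (a : AR P) (x : MS M P) :
    msMap M h (a • x) = arMap h a • msMap M h x :=
  M.val.map_smul h.left.op a x

theorem msMap_comp {P P' P'' : Over E₀} (h : P' ⟶ P) (k : P'' ⟶ P') (x : MS M P) :
    msMap M k (msMap M h x) = msMap M (k ≫ h) x :=
  (congr($(M.val.presheaf.map_comp h.left.op k.left.op) x)).symm

/-- The morphism to the base. -/
def toId (P : Over E₀) : P ⟶ Over.mk (𝟙 E₀) := Over.homMk P.hom

theorem comp_toId {P P' : Over E₀} (h : P' ⟶ P) : h ≫ toId P = toId P' :=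
  Over.OverMorphism.ext (Over.w h)

variable {N : Type (u + 1)} [AddCommGroup N] [Module (Rg E₀.left) N]
  (ι : N →ₗ[Rg E₀.left] MS M (Over.mk (𝟙 E₀)))

/-- The comparison map. -/
noncomputable def θ (P : Over E₀) : AR P ⊗[Rg E₀.left] N →ₗ[Rg E₀.left] MS M P :=
  TensorProduct.lift
    { toFun := fun a =>
        { toFun := fun n => a • msMap M (toId P) (ι n)
          map_add' := fun x y => by rw [map_add, map_add, smul_add]
          map_smul' := fun r x => by
            rw [map_smul, RingHom.id_apply, algebra_compatible_smul (AR (Over.mk (𝟙 E₀))) r, msMap_smul,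
              AlgHom.commutes, ← mul_smul, mul_comm, mul_smul, algebraMap_smul] }
      map_add' := fun a b => LinearMap.ext fun n => add_smul a b _
      map_smul' := fun r a => LinearMap.ext fun n => smul_assoc r a _ }

theorem θ_tmul (P : Over E₀) (a : AR P) (n : N) : θ M ι P (a ⊗ₜ n) = a • msMap M (toId P) (ι n) :=
  TensorProduct.lift.tmul _ _

theorem msMap_θ {P P' : Over E₀} (h : P' ⟶ P) (z : AR P ⊗[Rg E₀.left] N) :
    msMap M h (θ M ι P z) = θ M ι P' ((arMap h).toLinearMap.rTensor N z) := by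
  induction z with
  | zero => simp
  | tmul a n => rw [LinearMap.rTensor_tmul, θ_tmul, θ_tmul, msMap_smul, msMap_comp, comp_toId]; rfl
  | add x y hx hy => simp only [map_add, hx, hy]

/-- The object cut out by a morphism of the site. -/
abbrev sub (P : Over E₀) {V : EtOver X} (k : V ⟶ P.left.left) : Over E₀ :=
  Over.mk ((Over.homMk k rfl : Over.mk (k ≫ P.left.hom) ⟶ P.left) ≫ P.hom)

/-- Its inclusion. -/
abbrev subHom (P : Over E₀) {V : EtOver X} (k : V ⟶ P.left.left) : sub P k ⟶ P :=
  Over.homMk (Over.homMk k rfl) rfl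

theorem ext_of_cover {P : Over E₀} {κ : Type u} {Q : κ → Over E₀} (j : ∀ k, Q k ⟶ P)
    (hc : Sieve.ofArrows (fun k => (Q k).left.left) (fun k => (j k).left.left) ∈ etTop X P.left.left)
    {x y : MS M P} (h : ∀ k, msMap M (j k) x = msMap M (j k) y) : x = y := by
  let T : Sieve P.left := Sieve.ofArrows (fun k => (Q k).left) (fun k => (j k).left)
  have hT : T ∈ (etTop X).over B P.left := by
    rw [GrothendieckTopology.mem_over_iff]
    refine (etTop X).superset_covering ?_ hc
    rw [Sieve.generate_le_iff]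
    rintro _ _ ⟨k⟩
    refine (Sieve.overEquiv_iff T _).2 ?_
    let c : Over.mk ((j k).left.left ≫ P.left.hom) ⟶ (Q k).left :=
      Over.homMk (𝟙 _) ((Category.id_comp _).trans (Over.w (j k).left).symm)
    have e : (Over.homMk (j k).left.left rfl : Over.mk ((j k).left.left ≫ P.left.hom) ⟶ P.left) = c ≫ (j k).left :=
      Over.OverMorphism.ext (Category.id_comp _).symm
    rw [e]
    exact T.downward_closed (Sieve.ofArrows_mk _ _ k) c
  refine (((isSheaf_iff_isSheaf_of_type _ _).1
    ((sheafCompose ((etTop X).over B) (CategoryTheory.forget AddCommGrpCat.{u + 1})).obj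
      ⟨_, M.isSheaf⟩).property) T hT).isSeparatedFor.ext fun U k hk => ?_
  obtain ⟨i, k', rfl⟩ := (Sieve.mem_ofArrows_iff _ _ _).1 hk
  show M.val.presheaf.map _ x = M.val.presheaf.map _ y
  rw [op_comp, Functor.map_comp]
  exact congrArg (M.val.presheaf.map k'.op) (h i)

variable
  (hli : ∀ (P : Over E₀), Aff P.left.left → ∀ z, θ M ι P z = 0 →
    ∃ R ∈ etTop X P.left.left, ∀ (V : EtOver X) (k : V ⟶ P.left.left), R k → Aff V →
      (arMap (subHom P k)).toLinearMap.rTensor N z = 0)

include hli in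
theorem θ_injective (P : Over E₀) (hP : Aff P.left.left) : Function.Injective (θ M ι P) := by
  classical
  rw [injective_iff_map_eq_zero]
  intro z hz
  obtain ⟨R, hR, hRz⟩ := hli P hP z hz
  obtain ⟨E', q, κ, _, Ek, j, hE', hq, hEk, hRj, hcov, hlift⟩ := (haveI := hP; exists_affine_cover hR)
  let P' := sub P q
  let jk : ∀ k, sub P (j k ≫ q) ⟶ P' := fun k => Over.homMk (Over.homMk (j k) (Category.assoc _ _ _).symm)
    (Over.OverMorphism.ext (Category.assoc _ _ _).symm)
  have hjk : ∀ k, jk k ≫ subHom P q = subHom P (j k ≫ q) := fun k =>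
    Over.OverMorphism.ext (Over.OverMorphism.ext rfl)
  let ρ : AR P' →ₗ[Rg E₀.left] (∀ k, AR (sub P (j k ≫ q))) := LinearMap.pi fun k => (arMap (jk k)).toLinearMap
  have hinj : Function.Injective ρ := by
    intro a b hab
    exact rg_ext hcov fun k => congrFun hab k
  have h0 : (arMap (subHom P q)).toLinearMap.rTensor N z = 0 := by
    have hb : Function.Bijective ρ := ⟨hinj, fun a => (hlift a).imp fun b hb => funext hb⟩
    apply ((LinearEquiv.ofBijective ρ hb).rTensor N).injective
    apply (TensorProduct.piLeft (Rg E₀.left) (N := N) (M := fun k => AR (sub P (j k ≫ q)))).injective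
    rw [map_zero, map_zero]
    funext k
    have key : ∀ w : AR P' ⊗[Rg E₀.left] N,
        TensorProduct.piLeft (Rg E₀.left) (N := N) (M := fun k => AR (sub P (j k ≫ q)))
          ((LinearEquiv.ofBijective ρ hb).rTensor N w) k = (arMap (jk k)).toLinearMap.rTensor N w := by
      intro w
      induction w with
      | zero => simp
      | tmul a n => simp [ρ]
      | add x y hx hy => simp only [map_add, Pi.add_apply, hx, hy]
    rw [key, ← LinearMap.rTensor_comp_apply, ← AlgHom.comp_toLinearMap, arMap_comp, hjk]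
    exact hRz _ _ (hRj k) (hEk k)
  let _ : Algebra (AR P) (AR P') := (arMap (subHom P q)).toRingHom.toAlgebra
  have : IsScalarTower (Rg E₀.left) (AR P) (AR P') :=
    IsScalarTower.of_algebraMap_eq fun r => ((arMap (subHom P q)).commutes r).symm
  have : Module.FaithfullyFlat (AR P) (AR P') := by
    exact RingHom.faithfullyFlat_algebraMap_iff.1 (haveI := hP; haveI := hE'; faithfullyFlat_rs q hq)
  apply Module.FaithfullyFlat.tensorProduct_mk_injective (A := AR P) (B := AR P') (AR P ⊗[Rg E₀.left] N)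
  apply (AlgebraTensorModule.cancelBaseChange (Rg E₀.left) (AR P) (AR P') (AR P') N).injective
  rw [map_zero, map_zero]
  refine Eq.trans ?_ h0
  clear hz hRz h0
  induction z with
  | zero => simp
  | tmul a n => simp [Algebra.smul_def]; rfl
  | add x y hx hy => simp only [tmul_add, map_add, LinearMap.map_add, hx, hy]

theorem isoSpec_inv_appTop' (Y : Scheme.{u}) [IsAffine Y] :
    Y.isoSpec.inv.appTop = (Scheme.ΓSpecIso Γ(Y, ⊤)).inv := by
  have h : (Scheme.ΓSpecIso Γ(Y, ⊤)).hom = Y.isoSpec.hom.appTop := (Scheme.toSpecΓ_appTop Y).symm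
  rw [← cancel_mono (Scheme.ΓSpecIso Γ(Y, ⊤)).hom, Iso.inv_hom_id, h, ← Scheme.Hom.comp_appTop, Iso.hom_inv_id]
  rfl

/-- Functions on the self-product of an affine cover map to the self-tensor product. -/
theorem exists_toTensor {E E' : EtOver X} (q : E' ⟶ E) [Aff E] [Aff E'] [Algebra (Rg E) (Rg E')]
    (h : algebraMap (Rg E) (Rg E') = rs q) :
    ∃ ψ : Rg (EtOver.pullbackObj q q) →+* Rg E' ⊗[Rg E] Rg E',
      (∀ a, ψ (rs (EtOver.pullbackFst q q) a) = a ⊗ₜ 1) ∧ ∀ a, ψ (rs (EtOver.pullbackSnd q q) a) = 1 ⊗ₜ a := by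
  let A := Γ(E.obj.left.left, ⊤)
  let A' := Γ(E'.obj.left.left, ⊤)
  let f := q.hom.left.left
  let _ : Algebra A A' := f.appTop.hom.toAlgebra
  let T := Rg E' ⊗[Rg E] Rg E'
  let up' : A' →+* Rg E' := ULift.ringEquiv.symm.toRingHom
  let up : A →+* Rg E := ULift.ringEquiv.symm.toRingHom
  let l : A' →+* T := (Algebra.TensorProduct.includeLeftRingHom).comp up'
  let r : A' →+* T := (Algebra.TensorProduct.includeRight : Rg E' →ₐ[Rg E] T).toRingHom.comp up'
  let _ : Algebra A T := ((algebraMap (Rg E) T).comp up).toAlgebra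
  have hup : ∀ a : A, up' (f.appTop.hom a) = algebraMap (Rg E) (Rg E') (up a) := fun a => by rw [h]; rfl
  let la : A' →ₐ[A] T := ⟨l, fun a => by
    show up' (f.appTop.hom a) ⊗ₜ[Rg E] (1 : Rg E') = algebraMap (Rg E) T (up a)
    rw [hup]; rfl⟩
  let ra : A' →ₐ[A] T := ⟨r, fun a => by
    show (1 : Rg E') ⊗ₜ[Rg E] up' (f.appTop.hom a) = algebraMap (Rg E) T (up a)
    rw [hup, Algebra.TensorProduct.algebraMap_apply]
    exact (Algebra.TensorProduct.algebraMap_apply' _).symm.trans (Algebra.TensorProduct.algebraMap_apply _)⟩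
  let μ : A' ⊗[A] A' →ₐ[A] T := Algebra.TensorProduct.productMap la ra
  let i₁ : Γ(E'.obj.left.left, ⊤) ⟶ CommRingCat.of (A' ⊗[A] A') :=
    CommRingCat.ofHom Algebra.TensorProduct.includeLeftRingHom
  let i₂ : Γ(E'.obj.left.left, ⊤) ⟶ CommRingCat.of (A' ⊗[A] A') :=
    CommRingCat.ofHom (Algebra.TensorProduct.includeRight : A' →ₐ[A] A' ⊗[A] A').toRingHom
  have hi : f.appTop ≫ i₁ = f.appTop ≫ i₂ := by
    ext a
    show algebraMap A A' a ⊗ₜ[A] (1 : A') = (1 : A') ⊗ₜ[A] algebraMap A A' a
    rw [Algebra.algebraMap_eq_smul_one, TensorProduct.smul_tmul]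
  let aT := Spec.map i₁ ≫ E'.obj.left.left.isoSpec.inv
  let bT := Spec.map i₂ ≫ E'.obj.left.left.isoSpec.inv
  have hq : ∀ i : Γ(E'.obj.left.left, ⊤) ⟶ CommRingCat.of (A' ⊗[A] A'),
      (Spec.map i ≫ E'.obj.left.left.isoSpec.inv) ≫ f = Spec.map (f.appTop ≫ i) ≫ E.obj.left.left.isoSpec.inv := by
    intro i
    rw [Spec.map_comp, Category.assoc, Category.assoc, Scheme.isoSpec_inv_naturality]
  have hc : aT ≫ f = bT ≫ f := by simp only [aT, bT, hq, hi]
  let W := Spec (CommRingCat.of (A' ⊗[A] A'))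
  let sq := IsPullback.map (CategoryTheory.Over.forget S) (IsPullback.of_hasPullback q.hom.left q.hom.left)
  let t : W ⟶ (EtOver.pullbackObj q q).obj.left.left := sq.lift aT bT hc
  have ht₁ : t ≫ (EtOver.pullbackFst q q).hom.left.left = aT := sq.lift_fst _ _ _
  have ht₂ : t ≫ (EtOver.pullbackSnd q q).hom.left.left = bT := sq.lift_snd _ _ _
  refine ⟨μ.toRingHom.comp (((t.appTop ≫ (Scheme.ΓSpecIso _).hom).hom).comp ULift.ringEquiv.toRingHom),
    fun a => ?_, fun a => ?_⟩
  · have e : (EtOver.pullbackFst q q).hom.left.left.appTop ≫ t.appTop ≫ (Scheme.ΓSpecIso _).hom = i₁ := by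
      rw [← Category.assoc, ← Scheme.Hom.comp_appTop, ht₁, Scheme.Hom.comp_appTop, Category.assoc,
        Scheme.ΓSpecIso_naturality, ← Category.assoc, isoSpec_inv_appTop', Iso.inv_hom_id, Category.id_comp]
    show μ ((((EtOver.pullbackFst q q).hom.left.left.appTop ≫ t.appTop ≫ (Scheme.ΓSpecIso _).hom)).hom a.down) = _
    rw [e]
    show Algebra.TensorProduct.productMap la ra (a.down ⊗ₜ 1) = _
    rw [Algebra.TensorProduct.productMap_apply_tmul, map_one, mul_one]
    rfl
  · have e : (EtOver.pullbackSnd q q).hom.left.left.appTop ≫ t.appTop ≫ (Scheme.ΓSpecIso _).hom = i₂ := by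
      rw [← Category.assoc, ← Scheme.Hom.comp_appTop, ht₂, Scheme.Hom.comp_appTop, Category.assoc,
        Scheme.ΓSpecIso_naturality, ← Category.assoc, isoSpec_inv_appTop', Iso.inv_hom_id, Category.id_comp]
    show μ ((((EtOver.pullbackSnd q q).hom.left.left.appTop ≫ t.appTop ≫ (Scheme.ΓSpecIso _).hom)).hom a.down) = _
    rw [e]
    show Algebra.TensorProduct.productMap la ra (1 ⊗ₜ a.down) = _
    rw [Algebra.TensorProduct.productMap_apply_tmul, map_one, one_mul]
    rfl

variable
  (hls : ∀ (P : Over E₀), Aff P.left.left → ∀ m : MS M P,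
    ∃ R ∈ etTop X P.left.left, ∀ (V : EtOver X) (k : V ⟶ P.left.left), R k → Aff V →
      msMap M (subHom P k) m ∈ Set.range (θ M ι (sub P k)))

include hli hls in
theorem θ_bijective (P : Over E₀) (hP : Aff P.left.left) : Function.Bijective (θ M ι P) := by
  classical
  refine ⟨θ_injective M ι hli P hP, fun m => ?_⟩
  obtain ⟨R, hR, hRm⟩ := hls P hP m
  haveI := hP
  obtain ⟨E', q, κ, _, Ek, j, hE', hq, hEk, hRj, hcov, hlift⟩ := exists_affine_cover hR
  haveI := hE'
  let P' := sub P q
  let jk : ∀ k, sub P (j k ≫ q) ⟶ P' := fun k => Over.homMk (Over.homMk (j k) (Category.assoc _ _ _).symm)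
    (Over.OverMorphism.ext (Category.assoc _ _ _).symm)
  have hjk : ∀ k, jk k ≫ subHom P q = subHom P (j k ≫ q) := fun k =>
    Over.OverMorphism.ext (Over.OverMorphism.ext rfl)
  let ρ : AR P' →ₗ[Rg E₀.left] (∀ k, AR (sub P (j k ≫ q))) := LinearMap.pi fun k => (arMap (jk k)).toLinearMap
  have hb : Function.Bijective ρ :=
    ⟨fun a b hab => rg_ext hcov fun k => congrFun hab k, fun a => (hlift a).imp fun b hb => funext hb⟩
  choose zk hzk using fun k => hRm _ _ (hRj k) (hEk k)
  -- the local preimages glue on the cover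
  let σ : ∀ k, AR (sub P (j k ≫ q)) →ₗ[Rg E₀.left] AR P' := fun k =>
    (LinearEquiv.ofBijective ρ hb).symm.toLinearMap ∘ₗ LinearMap.single (Rg E₀.left) (fun k => AR (sub P (j k ≫ q))) k
  let z' : AR P' ⊗[Rg E₀.left] N := ∑ k, (σ k).rTensor N (zk k)
  have hz' : θ M ι P' z' = msMap M (subHom P q) m := by
    refine ext_of_cover M jk hcov fun l => ?_
    rw [msMap_θ, msMap_comp, hjk, ← hzk l]
    congr 1
    simp only [z', map_sum, ← LinearMap.rTensor_comp_apply]
    rw [Finset.sum_eq_single l]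
    · rw [show (arMap (jk l)).toLinearMap ∘ₗ σ l = LinearMap.id from LinearMap.ext fun a =>
        (congrFun ((LinearEquiv.ofBijective ρ hb).apply_symm_apply (Pi.single l a)) l).trans
          (Pi.single_eq_same (M := fun k => AR (sub P (j k ≫ q))) l a),
        LinearMap.rTensor_id, LinearMap.id_apply]
    · intro k _ hk
      rw [show (arMap (jk l)).toLinearMap ∘ₗ σ k = 0 from LinearMap.ext fun a =>
        (congrFun ((LinearEquiv.ofBijective ρ hb).apply_symm_apply (Pi.single k a)) l).trans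
          (Pi.single_eq_of_ne (M := fun k => AR (sub P (j k ≫ q))) (Ne.symm hk) a), LinearMap.rTensor_zero, LinearMap.zero_apply]
    · intro hl; exact absurd (Finset.mem_univ l) hl
  -- the two pullbacks agree
  let π₁ := EtOver.pullbackFst q q
  let π₂ := EtOver.pullbackSnd q q
  let P'' := sub P (π₁ ≫ q)
  haveI hP'' : Aff (EtOver.pullbackObj q q) := by
    have hsq := IsPullback.map (CategoryTheory.Over.forget S) (IsPullback.of_hasPullback q.hom.left q.hom.left)
    haveI : IsAffine (Over.left E'.obj.left) := hE'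
    haveI : IsAffine ((CategoryTheory.Over.forget S).obj E'.obj.left) := hE'
    haveI : IsAffine ((CategoryTheory.Over.forget S).obj P.left.left.obj.left) := hP
    exact IsAffine.of_isIso (hsq.isoPullback.hom)
  let p₁ : P'' ⟶ P' := Over.homMk (Over.homMk π₁ (Category.assoc _ _ _).symm)
    (Over.OverMorphism.ext (Category.assoc _ _ _).symm)
  let p₂ : P'' ⟶ P' := Over.homMk (Over.homMk π₂ (by
      show π₂ ≫ q ≫ P.left.hom = (π₁ ≫ q) ≫ P.left.hom
      rw [← Category.assoc, ← EtOver.pullback_condition]))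
    (Over.OverMorphism.ext (by
      show π₂ ≫ q ≫ P.hom.left = (π₁ ≫ q) ≫ P.hom.left
      rw [← Category.assoc, ← EtOver.pullback_condition]))
  have hp : p₁ ≫ subHom P q = p₂ ≫ subHom P q :=
    Over.OverMorphism.ext (Over.OverMorphism.ext (EtOver.pullback_condition q q))
  have heq : (arMap p₁).toLinearMap.rTensor N z' = (arMap p₂).toLinearMap.rTensor N z' := by
    apply θ_injective M ι hli P'' hP''
    rw [← msMap_θ, ← msMap_θ, hz', msMap_comp, msMap_comp, hp]
  -- descend
  let _ : Algebra (AR P) (AR P') := (arMap (subHom P q)).toRingHom.toAlgebra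
  have : IsScalarTower (Rg E₀.left) (AR P) (AR P') :=
    IsScalarTower.of_algebraMap_eq fun r => ((arMap (subHom P q)).commutes r).symm
  have : Module.FaithfullyFlat (AR P) (AR P') :=
    RingHom.faithfullyFlat_algebraMap_iff.1 (faithfullyFlat_rs q hq)
  let _ : Algebra (Rg P.left.left) (Rg E') := (rs q).toAlgebra
  obtain ⟨ψ, hψ₁, hψ₂⟩ := exists_toTensor q rfl
  let ψ' : AR P'' →+* AR P' ⊗[AR P] AR P' := ψ
  let T := AR P' ⊗[AR P] AR P'
  let ψa : AR P'' →ₐ[Rg E₀.left] T := ⟨ψ', fun r => by
    rw [← (arMap p₁).commutes r]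
    exact (hψ₁ _).trans (IsScalarTower.algebraMap_apply (Rg E₀.left) (AR P') T r).symm⟩
  let e := AlgebraTensorModule.assoc (Rg E₀.left) (AR P) (AR P) (AR P') (AR P') N
  let g : AR P ⊗[Rg E₀.left] N →ₗ[AR P] AR P' ⊗[Rg E₀.left] N :=
    AlgebraTensorModule.map (Algebra.linearMap (AR P) (AR P')) LinearMap.id
  have k₁ : ∀ w : AR P' ⊗[Rg E₀.left] N,
      e (ψa.toLinearMap.rTensor N ((arMap p₁).toLinearMap.rTensor N w)) ∈ LinearMap.range (g.lTensor (AR P')) := by
    intro w
    induction w with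
    | zero => simp
    | tmul a n =>
      refine ⟨a ⊗ₜ ((1 : AR P) ⊗ₜ n), ?_⟩
      simp only [LinearMap.rTensor_tmul, AlgHom.toLinearMap_apply]
      rw [show ψa (arMap p₁ a) = a ⊗ₜ (1 : AR P') from hψ₁ a]
      simp [g]
      rfl
    | add x y hx hy => simp only [map_add]; exact add_mem hx hy
  have k₂ : ∀ w : AR P' ⊗[Rg E₀.left] N,
      e (ψa.toLinearMap.rTensor N ((arMap p₂).toLinearMap.rTensor N w)) = (1 : AR P') ⊗ₜ w := by
    intro w
    induction w with
    | zero => simp
    | tmul a n =>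
      simp only [LinearMap.rTensor_tmul, AlgHom.toLinearMap_apply]
      rw [show ψa (arMap p₂ a) = (1 : AR P') ⊗ₜ a from hψ₂ a]
      rfl
    | add x y hx hy => simp only [map_add, tmul_add, hx, hy]
  obtain ⟨z, hz⟩ := DescLib.mem_range_of_one_tmul_mem g z' (by rw [← k₂, ← heq]; exact k₁ z')
  refine ⟨z, ext_of_cover M (κ := PUnit.{u + 1}) (Q := fun _ => P') (fun _ => subHom P q) ?_ fun _ => ?_⟩
  · exact AlgSp.ofArrows_mem_etTop _ _ fun x => ⟨⟨⟩, hq.surj x⟩
  · rw [msMap_θ, ← hz']
    congr 1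

end Groth.Agent.AlgSpMod
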