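import Groth.Agent.AlgSpDec.EtSite
import Groth.Agent.AlgSpDec.Glue
import Mathlib.AlgebraicGeometry.Morphisms.Affine
import Mathlib.RingTheory.RingHom.FaithfullyFlat

/-!
# Affine objects of the small etale site: coverings by one affine object, functions
-/

set_option backward.isDefEq.respectTransparency false
set_option backward.isDefEq.respectTransparency.types false

universe u

open CategoryTheory CategoryTheory.Limits AlgebraicGeometry Opposite AlgSp
open Groth.Agent.AlgSpLib Groth.Agent.AlgSpDec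

namespace Groth.Agent.AlgSpMod

variable {S : Scheme.{u}} {X : Sp S}

/-- An affine object of the site. -/
abbrev Aff (E : EtOver X) : Prop := IsAffine E.obj.left.left

/-- Functions on an object, lifted one universe. -/
noncomputable abbrev Rg (E : EtOver X) : CommRingCat.{u + 1} := (OEt X).obj.obj (op E)

/-- Restriction of functions. -/
noncomputable abbrev rs {E E' : EtOver X} (g : E' ⟶ E) : Rg E →+* Rg E' := ((OEt X).obj.map g.op).hom

theorem rs_apply {E E' : EtOver X} (g : E' ⟶ E) (a : Rg E) :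
    (rs g a).down = g.hom.left.left.appTop.hom a.down := rfl

theorem exists_sigma_section {κ : Type u} (U : κ → Scheme.{u}) (a : ∀ k, Γ(U k, ⊤)) :
    ∃ b : Γ(∐ U, ⊤), ∀ k, (Sigma.ι U k).appTop b = a k := by
  let P : CommRingCat.{u} := CommRingCat.of (Polynomial (ULift.{u} ℤ))
  let φ : ∀ k, P ⟶ Γ(U k, ⊤) := fun k => CommRingCat.ofHom
    (Polynomial.eval₂RingHom ((Int.castRingHom _).comp ULift.ringEquiv.toRingHom) (a k))
  let ψ : ∀ k, U k ⟶ Spec P := fun k => (U k).toSpecΓ ≫ Spec.map (φ k)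
  refine ⟨(Sigma.desc ψ).appTop ((Scheme.ΓSpecIso P).inv Polynomial.X), fun k => ?_⟩
  rw [← ConcreteCategory.comp_apply, ← Scheme.Hom.comp_appTop, Sigma.ι_desc, ← ConcreteCategory.comp_apply]
  have : (Scheme.ΓSpecIso P).inv ≫ (ψ k).appTop = φ k := by
    simp only [ψ, Scheme.Hom.comp_appTop, Scheme.toSpecΓ_appTop]
    rw [Scheme.ΓSpecIso_naturality, Iso.inv_hom_id_assoc]
  rw [this]
  exact Polynomial.eval₂_X _ _

theorem faithfullyFlat_rs {E E' : EtOver X} (g : E' ⟶ E) [Aff E] [Aff E'] (hs : Surjective g.hom.left.left) :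
    (rs g).FaithfullyFlat := by
  have := EtOver.etale_left g
  have h1 : g.hom.left.left.appTop.hom.FaithfullyFlat := by
    rw [RingHom.FaithfullyFlat.iff_flat_and_comap_surjective]
    refine ⟨HasRingHomProperty.appTop (P := @Flat) _ inferInstance, ?_⟩
    have hS : Surjective (Spec.map g.hom.left.left.appTop) := by
      have : Spec.map g.hom.left.left.appTop =
          E'.obj.left.left.isoSpec.inv ≫ g.hom.left.left ≫ E.obj.left.left.isoSpec.hom := by
        rw [← Scheme.isoSpec_hom_naturality, Iso.inv_hom_id_assoc]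
      rw [this]; infer_instance
    exact hS.surj
  have e : rs g = (ULift.ringEquiv.symm.toRingHom.comp g.hom.left.left.appTop.hom).comp
      ULift.ringEquiv.toRingHom := RingHom.ext fun a => rfl
  rw [e]
  have b1 : Function.Bijective ⇑(ULift.ringEquiv.toRingHom : Rg E →+* Γ(E.obj.left.left, ⊤)) :=
    ULift.ringEquiv.bijective
  have b2 : Function.Bijective ⇑(ULift.ringEquiv.symm.toRingHom : Γ(E'.obj.left.left, ⊤) →+* Rg E') :=
    ULift.ringEquiv.symm.bijective
  rw [RingHom.FaithfullyFlat.iff_flat_and_comap_surjective] at h1 ⊢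
  refine ⟨(RingHom.Flat.of_bijective b1).comp (h1.1.comp (RingHom.Flat.of_bijective b2)), ?_⟩
  rw [PrimeSpectrum.comap_comp, PrimeSpectrum.comap_comp]
  exact (RingHom.FaithfullyFlat.iff_flat_and_comap_surjective.1 (RingHom.FaithfullyFlat.of_bijective b1)).2.comp
    (h1.2.comp (RingHom.FaithfullyFlat.iff_flat_and_comap_surjective.1 (RingHom.FaithfullyFlat.of_bijective b2)).2)

theorem exists_affine_cover {E : EtOver X} [Aff E] {R : Sieve E} (hR : R ∈ etTop X E) :
    ∃ (E' : EtOver X) (q : E' ⟶ E) (κ : Type u) (_ : Fintype κ) (Ek : κ → EtOver X) (ι : ∀ k, Ek k ⟶ E'),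
      Aff E' ∧ Surjective q.hom.left.left ∧ (∀ k, Aff (Ek k)) ∧ (∀ k, R (ι k ≫ q)) ∧
      Sieve.ofArrows Ek ι ∈ etTop X E' ∧
      ∀ a : ∀ k, Rg (Ek k), ∃ b : Rg E', ∀ k, rs (ι k) b = a k := by
  classical
  obtain ⟨P, hP, hPR⟩ := (etPre X).mem_toGrothendieck_iff_of_isStableUnderComposition.1 hR
  obtain ⟨κ, W, w, rfl⟩ := P.exists_eq_ofArrows
  have pt : ∀ x : ↥E.obj.left.left, ∃ (N : EtOver X) (n : N ⟶ E), Aff N ∧ R n ∧
      x ∈ Set.range n.hom.left.left := by
    intro x
    obtain ⟨i, z, rfl⟩ := (ofArrows_mem_etPre_iff W w).1 hP x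
    obtain ⟨O, hO, hzO, -⟩ := exists_isAffineOpen_mem_and_subset (U := (⊤ : (W i).obj.left.left.Opens))
      (x := z) trivial
    obtain ⟨z', rfl⟩ := (range_etOpenι (W i) O).ge hzO
    exact ⟨etOpen (W i) O, etOpenι (W i) O ≫ w i, hO,
      R.downward_closed (hPR _ _ (Presieve.ofArrows.mk i)) _, z', rfl⟩
  choose N n hN hn hx using pt
  obtain ⟨t, ht⟩ := (isCompact_univ (X := ↥E.obj.left.left)).elim_finite_subcover
    (fun x => Set.range (n x).hom.left.left)
    (fun x => by have := EtOver.etale_left (n x); exact (n x).hom.left.left.isOpenMap.isOpen_range)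
    (fun x _ => Set.mem_iUnion.2 ⟨x, hx x⟩)
  let T : {x // x ∈ t} → Over S := fun k => (N k.1).obj.left
  let d : sigmaOver T ⟶ E.obj.left := Over.homMk (Sigma.desc fun k => (n k.1).hom.left.left)
    (Sigma.hom_ext _ _ fun k => by
      show Sigma.ι (fun k => (T k).left) k ≫ Sigma.desc _ ≫ _ = Sigma.ι (fun k => (T k).left) k ≫ Sigma.desc _
      rw [Sigma.ι_desc_assoc, Sigma.ι_desc, Over.w])
  have hd : ∀ k, sigmaι T k ≫ d = (n k.1).hom.left := fun k => Over.OverMorphism.ext (Sigma.ι_desc _ _)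
  have : Etale d.left := (IsZariskiLocalAtSource.iff_of_openCover (sigmaOpenCover fun k => (T k).left)).2 fun k => by
    show Etale (Sigma.ι (fun k => (T k).left) k ≫ Sigma.desc _)
    rw [Sigma.ι_desc]; exact EtOver.etale_left (n k.1)
  let E' : EtOver X := EtOver.mk ((yon S).map d ≫ E.obj.hom)
    (repWith_comp ((repWith_yon_map_iff _ _).2 this) E.property)
  let q : E' ⟶ E := EtOver.homMk d rfl
  let ι : ∀ k : {x // x ∈ t}, N k.1 ⟶ E' := fun k => EtOver.homMk (sigmaι T k) (by
    show (yon S).map (sigmaι T k) ≫ (yon S).map d ≫ E.obj.hom = _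
    rw [← Category.assoc, ← Functor.map_comp, hd, EtOver.w])
  have hιq : ∀ k, ι k ≫ q = n k.1 := fun k => EtOver.hom_ext _ _ (hd k)
  have hA : ∀ k, IsAffine (T k).left := fun k => hN k.1
  have hE' : Aff E' := inferInstanceAs (IsAffine (∐ fun k => (T k).left))
  refine ⟨E', q, {x // x ∈ t}, inferInstance, fun k => N k.1, ι, hE', ⟨fun x => ?_⟩, fun k => hN k.1,
    fun k => (hιq k).symm ▸ hn k.1, AlgSp.ofArrows_mem_etTop _ _ fun y => ?_, fun a => ?_⟩
  · obtain ⟨i, hi, z, rfl⟩ : ∃ i ∈ t, x ∈ Set.range (n i).hom.left.left := by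
      simpa using ht (Set.mem_univ x)
    have e : (sigmaι T ⟨i, hi⟩).left ≫ d.left = (n i).hom.left.left := congrArg CommaMorphism.left (hd ⟨i, hi⟩)
    exact ⟨(sigmaι T ⟨i, hi⟩).left z, (Scheme.Hom.comp_apply _ _ z).symm.trans congr($e z)⟩
  · obtain ⟨k, v, hv⟩ := exists_sigmaι T y
    exact ⟨k, v, hv⟩
  · obtain ⟨b, hb⟩ := exists_sigma_section (fun k => (T k).left) fun k => (a k).down
    exact ⟨⟨b⟩, fun k => ULift.ext _ _ (hb k)⟩

end Groth.Agent.AlgSpMod
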