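import Mathlib.CategoryTheory.Adjunction.Mates
import Mathlib.CategoryTheory.Preadditive.Injective.Basic
import Mathlib.Algebra.Homology.ShortComplex.ShortExact
import Mathlib.Algebra.Homology.ShortComplex.Abelian

/-!
# Left exact sequences by duality from right adjoint sequences
-/

universe v u

open CategoryTheory CategoryTheory.Limits

namespace Groth.Agent.AlgSpMod.DualSeq

variable {A : Type u} [Category.{v} A] {L L' R R' : A ⥤ A} (adj : L ⊣ R) (adj' : L' ⊣ R')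

theorem homEquiv_conjugate (σ : R ⟶ R') {F G : A} (φ : L.obj F ⟶ G) :
    adj'.homEquiv F G (((conjugateEquiv adj adj').symm σ).app F ≫ φ) = adj.homEquiv F G φ ≫ σ.app G := by
  rw [Adjunction.homEquiv_unit, Adjunction.homEquiv_unit, Functor.map_comp, Category.assoc, σ.naturality,
    ← Category.assoc, ← Category.assoc, unit_conjugateEquiv_symm adj adj' σ F]

variable [Abelian A] [EnoughInjectives A] {P Q : A} {L₁ L₂ L₃ : A} {R₁ R₂ R₃ : A → A}

/-- Duality for three term sequences. -/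
theorem shortExact_dual (F : A) (f : L₃ ⟶ L₁ ⊞ L₂) (g : L₁ ⊞ L₂ ⟶ F)
    (e₁ : ∀ G, (L₁ ⟶ G) ≃ (F ⟶ R₁ G)) (e₂ : ∀ G, (L₂ ⟶ G) ≃ (F ⟶ R₂ G)) (e₃ : ∀ G, (L₃ ⟶ G) ≃ (F ⟶ R₃ G))
    (e₃0 : ∀ G, e₃ G 0 = 0) (α : ∀ G, G ⟶ R₁ G ⊞ R₂ G) (γ : ∀ G, R₁ G ⊞ R₂ G ⟶ R₃ G)
    (hw : ∀ G, α G ≫ γ G = 0) (hS : ∀ G, (ShortComplex.mk _ _ (hw G)).ShortExact)
    (hg : ∀ G (ψ : F ⟶ G), biprod.lift (e₁ G (biprod.inl ≫ g ≫ ψ)) (e₂ G (biprod.inr ≫ g ≫ ψ)) = ψ ≫ α G)
    (hf : ∀ G (φ : L₁ ⊞ L₂ ⟶ G), e₃ G (f ≫ φ) =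
      biprod.lift (e₁ G (biprod.inl ≫ φ)) (e₂ G (biprod.inr ≫ φ)) ≫ γ G) :
    ∃ w : f ≫ g = 0, (ShortComplex.mk f g w).ShortExact := by
  have w : f ≫ g = 0 := (e₃ F).injective (by
    rw [e₃0, hf]
    have := hg F (𝟙 F)
    rw [Category.comp_id, Category.id_comp] at this
    rw [this, hw])
  have epi : Epi g := Preadditive.epi_of_cancel_zero g fun {G} ψ hψ => by
    haveI := (hS G).mono_f
    refine Preadditive.mono_iff_cancel_zero (α G) |>.1 inferInstance _ _ ?_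
    rw [← hg, hψ, comp_zero, comp_zero]
    have h0 := hg G 0
    rw [comp_zero, comp_zero, comp_zero, zero_comp] at h0
    exact h0
  have key : ∀ (G : A) (φ : L₁ ⊞ L₂ ⟶ G), f ≫ φ = 0 → ∃ ψ, g ≫ ψ = φ := by
    intro G φ hφ
    have h : biprod.lift (e₁ G (biprod.inl ≫ φ)) (e₂ G (biprod.inr ≫ φ)) ≫ γ G = 0 := by rw [← hf, hφ, e₃0]
    haveI := (hS G).mono_f
    obtain ⟨ψ, hψ⟩ := KernelFork.IsLimit.lift' (hS G).exact.fIsKernel _ h
    refine ⟨ψ, biprod.hom_ext' _ _ ((e₁ G).injective ?_) ((e₂ G).injective ?_)⟩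
    · have := congrArg (· ≫ biprod.fst) ((hg G ψ).trans hψ)
      simpa using this
    · have := congrArg (· ≫ biprod.snd) ((hg G ψ).trans hψ)
      simpa using this
  have mono : Mono f := by
    let j := Injective.ι L₃
    haveI : Injective (ShortComplex.mk _ _ (hw (Injective.under L₃))).X₁ :=
      inferInstanceAs (Injective (Injective.under L₃))
    let sp := (hS (Injective.under L₃)).splittingOfInjective
    let t := e₃ _ j ≫ sp.s
    let φ : L₁ ⊞ L₂ ⟶ Injective.under L₃ :=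
      biprod.desc ((e₁ _).symm (t ≫ biprod.fst)) ((e₂ _).symm (t ≫ biprod.snd))
    have hφ : f ≫ φ = j := (e₃ _).injective (by
      rw [hf, biprod.inl_desc, biprod.inr_desc, Equiv.apply_symm_apply, Equiv.apply_symm_apply,
        show biprod.lift (t ≫ biprod.fst) (t ≫ biprod.snd) = t by ext <;> simp]
      show (e₃ _ j ≫ sp.s) ≫ _ = _
      rw [Category.assoc]
      exact (congrArg (e₃ _ j ≫ ·) sp.s_g).trans (Category.comp_id _))
    exact mono_of_mono_fac hφ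
  refine ⟨w, { exact := ?_, mono_f := mono, epi_g := epi }⟩
  choose ψ hψ using key
  exact ShortComplex.exact_of_g_is_cokernel _ (CokernelCofork.IsColimit.ofπ g w (fun {G} φ hφ => ψ G φ hφ)
    (fun {G} φ hφ => hψ G φ hφ) (fun {G} φ hφ m hm => (cancel_epi g).1 (hm.trans (hψ G φ hφ).symm)))

end Groth.Agent.AlgSpMod.DualSeq
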