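import Groth.Agent.AlgSpMod.Converse
import Groth.Agent.SiteBase.ModGroth

/-!
# Exactness of colimits of modules on the small etale site
-/

set_option backward.isDefEq.respectTransparency false
set_option backward.isDefEq.respectTransparency.types false

universe u

open CategoryTheory CategoryTheory.Limits AlgebraicGeometry Opposite AlgSp

namespace Groth.Agent.AlgSpMod

variable {S : Scheme.{u}} (X : Sp S)

theorem ab5_modEt : AB5OfSize.{u + 1, u + 1} (ModEt X) :=
  ⟨fun K _ _ => by
    haveI : HasExactColimitsOfShape K (PresheafOfModules.{u + 1} (OEtRing X).obj) := by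
      haveI : ReflectsFiniteLimits (PresheafOfModules.toPresheaf.{u + 1} (OEtRing X).obj) :=
        ⟨fun _ _ _ => reflectsLimitsOfShape_of_reflectsIsomorphisms⟩
      exact HasExactColimitsOfShape.domain_of_functor K (PresheafOfModules.toPresheaf.{u + 1} (OEtRing X).obj)
    exact (PresheafOfModules.sheafificationAdjunction.{u + 1} (R := OEtRing X) (𝟙 (OEtRing X).obj)).hasExactColimitsOfShape K⟩

theorem ab4_modEt : AB4OfSize.{u + 1} (ModEt X) :=
  haveI := ab5_modEt X
  haveI : HasFiniteBiproducts (ModEt X) := HasFiniteBiproducts.of_hasFiniteProducts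
  AB4.of_AB5 _

end Groth.Agent.AlgSpMod
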