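import Groth.Agent.AlgSpMod.FiniteTypeColimit
import Groth.Agent.AlgSpDec.LqfScheme

/-!
# Extending submodules of finite type from a quasi-compact open subspace
-/

set_option autoImplicit false
set_option backward.isDefEq.respectTransparency false
set_option backward.isDefEq.respectTransparency.types false
set_option maxHeartbeats 1000000

universe u

open CategoryTheory CategoryTheory.Limits AlgebraicGeometry Opposite AlgSp TensorProduct
open Groth.Agent Groth.Agent.AlgSpLib Groth.Agent.AlgSpDec Groth.Agent.AlgSpPts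

namespace Groth.Agent.AlgSpMod

namespace ExtendFt

variable {S : Scheme.{u}} {X U : Sp S} {j : U ⟶ X} (hj : RepWith @IsOpenImmersion j)

include hj in
theorem etJ : IsEtaleMor j := isEtaleMor_of_repWith_isOpenImmersion hj

/-- The unit of base change along an open immersion is surjective on points. -/
theorem surjective_unit (C : EtOver U) :
    Function.Surjective ((EtPullRestrict.adj hj.1 (etJ hj)).unit.app C).hom.left.left := by
  let C' := (EtOver.postcomp j (etJ hj)).obj C
  let u := ((EtPullRestrict.adj hj.1 (etJ hj)).unit.app C).hom.left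
  have hu : u ≫ hj.1.snd C'.obj.hom = 𝟙 C.obj.left :=
    congrArg (fun k => k.hom.left) ((EtPullRestrict.adj hj.1 (etJ hj)).left_triangle_components C)
  have : IsOpenImmersion (hj.1.snd C'.obj.hom).left := hj.property_snd _
  intro p
  refine ⟨(hj.1.snd C'.obj.hom).left p, (hj.1.snd C'.obj.hom).left.isOpenEmbedding.injective ?_⟩
  show (u.left ≫ (hj.1.snd C'.obj.hom).left) ((hj.1.snd C'.obj.hom).left p) = _
  rw [← Over.comp_left, hu]
  rfl

variable {F : ModEt X} {Q : ModEt U} (π : restr (etJ hj) F ⟶ Q)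

/-- The obstruction to a section lying in the kernel on the open subspace. -/
noncomputable def obsU : F ⟶ (pushModEt hj.1).obj Q :=
  haveI := PostcompSite.isContinuous j (etJ hj)
  (EtPullRestrict.modAdj hj.1 (etJ hj)).homEquiv F Q π

theorem obsU_app_eq (V : EtOver X) (s : sectModEt F V) :
    (obsU hj π).val.app (op V) s = π.val.app (op (EtOver.bcObj hj.1 V))
      (F.val.map ((EtPullRestrict.adj hj.1 (etJ hj)).counit.app V).op s) := rfl

/-- On objects of the open subspace the obstruction is the quotient map. -/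
theorem obsU_eq_zero_iff (C : EtOver U) (y : sectModEt F ((EtOver.postcomp j (etJ hj)).obj C)) :
    (obsU hj π).val.app (op ((EtOver.postcomp j (etJ hj)).obj C)) y = 0 ↔ π.val.app (op C) y = 0 := by
  let ad := EtPullRestrict.adj hj.1 (etJ hj)
  let C' := (EtOver.postcomp j (etJ hj)).obj C
  have key : Q.val.map (ad.unit.app C).op (π.val.app (op (EtOver.bcObj hj.1 C'))
      (F.val.map (ad.counit.app C').op y)) = π.val.app (op C) y := by
    refine (PresheafOfModules.naturality_apply π.val (ad.unit.app C).op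
      (F.val.map (ad.counit.app C').op y)).symm.trans (congrArg (π.val.app (op C)) ?_)
    refine (congr($(F.val.presheaf.map_comp
      (ad.counit.app C').op ((EtOver.postcomp j (etJ hj)).map (ad.unit.app C)).op) y)).symm.trans ?_
    exact (congrArg (fun k => F.val.map k.op y) (ad.left_triangle_components C)).trans
      congr($(F.val.presheaf.map_id (op C')) y)
  rw [obsU_app_eq]
  constructor
  · intro h
    rw [← key, h, map_zero]
  · intro h
    refine ext_of_cover' Q (fun _ : PUnit.{u + 1} => ad.unit.app C)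
      (AlgSp.ofArrows_mem_etTop _ _ fun p => ⟨⟨⟩, surjective_unit hj C p⟩) fun _ => ?_
    rw [key, h, map_zero]

end ExtendFt

namespace ExtendFt

variable {S : Scheme.{u}} {X U : Sp S} {j : U ⟶ X} (hj : RepWith @IsOpenImmersion j) {F : ModEt X} (hF : Good F)
  {G : ModEt U} (g : G ⟶ restr (etJ hj) F) [Mono g] [G.IsQuasicoherent]

include hF in
/-- Over objects of the open subspace the kernel is the submodule. -/
theorem mem_kernel_iff (C : EtOver U) (hC : Aff C) (y : sectModEt F ((EtOver.postcomp j (etJ hj)).obj C)) :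
    (∃ w, (kernel.ι (obsU hj (cokernel.π g))).val.app (op ((EtOver.postcomp j (etJ hj)).obj C)) w = y) ↔
      ∃ x, g.val.app (op C) x = y := by
  constructor
  · rintro ⟨w, rfl⟩
    exact CohUnion.exists_preimage_of_cokernel g (good_of_qcoh G) (Good.restr (etJ hj) F hF) hC _
      ((obsU_eq_zero_iff hj (cokernel.π g) C _).1
        congr(($(kernel.condition (obsU hj (cokernel.π g)))).val.app (op ((EtOver.postcomp j (etJ hj)).obj C)) w))
  · rintro ⟨x, rfl⟩
    obtain ⟨w, hw⟩ := ((left_exact (ShortComplex.mk (kernel.ι (obsU hj (cokernel.π g))) (obsU hj (cokernel.π g))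
      (kernel.condition _)) (ShortComplex.kernelSequence_exact _)
      (inferInstanceAs (Mono (kernel.ι (obsU hj (cokernel.π g))))) (𝟙 ((EtOver.postcomp j (etJ hj)).obj C))).2
        (show SA F (𝟙 ((EtOver.postcomp j (etJ hj)).obj C)) from g.val.app (op C) x)).1
        ((obsU_eq_zero_iff hj (cokernel.π g) C _).2 congr(($(cokernel.condition g)).val.app (op C) x))
    exact ⟨w, hw⟩

/-- The sections of the submodule as sections of the module. -/
noncomputable def gApp (C : EtOver U) : SA G (𝟙 C) →+ SA F (𝟙 ((EtOver.postcomp j (etJ hj)).obj C)) :=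
  AddMonoidHom.mk' (fun x => g.val.app (op C) x) (fun a c => map_add (g.val.app (op C)).hom a c)

omit [Mono g] [G.IsQuasicoherent] in
theorem gApp_smul (C : EtOver U) (r : Rg C) (x : SA G (𝟙 C)) :
    gApp hj g C (r • x) = (show Rg ((EtOver.postcomp j (etJ hj)).obj C) from r) • gApp hj g C x := by
  refine ((appSA g (𝟙 C)).map_smul r x).trans ?_
  rw [smul_SA_id, smul_SA_id]
  exact congrArg (fun c : Rg ((EtOver.postcomp j (etJ hj)).obj C) =>
    c • (show sectModEt F ((EtOver.postcomp j (etJ hj)).obj C) from g.val.app (op C) x))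
    (φ_app_eq (etJ hj) C r)

include hF in
/-- The kernel is of finite type over the open subspace. -/
theorem finite_kernel_open [G.IsFiniteType] (C : EtOver U) (hC : Aff C)
    (_hP : Good ((pushModEt hj.1).obj (cokernel g))) :
    Module.Finite (Rg ((EtOver.postcomp j (etJ hj)).obj C))
      (SA (kernel (obsU hj (cokernel.π g))) (𝟙 ((EtOver.postcomp j (etJ hj)).obj C))) := by
  have := hC
  obtain ⟨T, hT⟩ := (finite_SA (M := G) C).fg_top
  let jk := appSA (kernel.ι (obsU hj (cokernel.π g))) (𝟙 ((EtOver.postcomp j (etJ hj)).obj C))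
  let T' : Submodule (Rg ((EtOver.postcomp j (etJ hj)).obj C)) (SA F (𝟙 ((EtOver.postcomp j (etJ hj)).obj C))) :=
    Submodule.span _ (gApp hj g C '' (T : Set (SA G (𝟙 C))))
  have : Module.Finite (Rg ((EtOver.postcomp j (etJ hj)).obj C)) T' :=
    Module.Finite.span_of_finite _ (T.finite_toSet.image _)
  have h₁ : ∀ y, jk y ∈ T' := fun y => by
    obtain ⟨x, hx⟩ := (mem_kernel_iff hj hF g C hC _).1 ⟨y, rfl⟩
    have hb : jk y = gApp hj g C x := hx.symm
    rw [hb]
    exact CohUnion.mem_span_image (A := Rg C) (fun r => (show Rg ((EtOver.postcomp j (etJ hj)).obj C) from r))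
      (gApp hj g C) (gApp_smul hj g C) _ (hT.symm ▸ Submodule.mem_top)
  have hjT : LinearMap.range jk = T' := by
    refine le_antisymm ?_ (Submodule.span_le.2 ?_)
    · rintro _ ⟨y, rfl⟩
      exact h₁ y
    · rintro _ ⟨x, -, rfl⟩
      obtain ⟨w, hw⟩ := (mem_kernel_iff hj hF g C hC (g.val.app (op C) x)).2 ⟨x, rfl⟩
      exact ⟨w, hw⟩
  exact Module.Finite.equiv
    ((LinearEquiv.ofInjective jk (appSA_injective _ _)).trans (LinearEquiv.ofEq _ _ hjT)).symm

include hF in
/-- The extended submodule restricts to the given one. -/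
theorem exists_iso_open [QuasiSeparatedSpace ↥S] (_hP : Good ((pushModEt hj.1).obj (cokernel g))) {N : ModEt X}
    (k : N ⟶ kernel (obsU hj (cokernel.π g))) [Mono k]
    (hfull : ∀ C : EtOver X, Aff C → FtUnion.Over' (Set.range (Points.map j)) C →
      Function.Surjective (appSA k (𝟙 C))) :
    haveI := PostcompSite.isContinuous j (etJ hj)
    ∃ e : restr (etJ hj) N ≅ G, e.hom ≫ g = (SheafOfModules.pushforward.{u + 1} (EtPullRestrict.φ (etJ hj))).map
      (k ≫ kernel.ι (obsU hj (cokernel.π g))) := by
  have := PostcompSite.isContinuous j (etJ hj)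
  let R := SheafOfModules.pushforward.{u + 1} (EtPullRestrict.φ (etJ hj))
  let adj := EtPullRestrict.modAdj hj.1 (etJ hj)
  let g' := k ≫ kernel.ι (obsU hj (cokernel.π g))
  have : Mono g' := mono_comp _ _
  have h0 : R.map g' ≫ cokernel.π g = 0 := by
    apply (adj.homEquiv N (cokernel g)).injective
    rw [Adjunction.homEquiv_naturality_left]
    refine Eq.trans (show g' ≫ obsU hj (cokernel.π g) = 0 by rw [Category.assoc, kernel.condition, comp_zero]) ?_
    have : (pushModEt hj.1).Additive := inferInstance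
    rw [Adjunction.homEquiv_unit, Functor.map_zero, comp_zero]
  have : PreservesFiniteLimits R := EtPullRestrict.preservesFiniteLimits_restrict (etJ hj)
  have : Mono (R.map g') := inferInstance
  let a : restr (etJ hj) N ⟶ G := (Abelian.monoLift g (R.map g') h0)
  have ha : a ≫ g = R.map g' := Abelian.monoLift_comp _ _ _
  have : Mono a := by
    have : Mono (a ≫ g) := ha.symm ▸ inferInstance
    exact mono_of_mono a g
  have : Epi a := epi_of_forall_affine a fun C hC x => by
    obtain ⟨w, hw⟩ := (mem_kernel_iff hj hF g C hC (g.val.app (op C) x)).2 ⟨x, rfl⟩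
    obtain ⟨y, hy⟩ := hfull ((EtOver.postcomp j (etJ hj)).obj C) hC
      (fun v => ⟨Points.ofPt C.obj.hom v, Points.map_ofPt _ _ _⟩) w
    refine ⟨y, appSA_injective g (𝟙 C) ?_⟩
    refine Eq.trans (congr(($ha).val.app (op C) y) :) ?_
    exact (congrArg ((kernel.ι (obsU hj (cokernel.π g))).val.app (op ((EtOver.postcomp j (etJ hj)).obj C))) hy).trans hw
  have : IsIso a := isIso_of_mono_of_epi a
  exact ⟨asIso a, ha⟩

end ExtendFt

variable {S : Scheme.{u}} [QuasiSeparatedSpace ↥S] {X U : Sp S} {j : U ⟶ X}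

open ExtendFt in
/-- A submodule of finite type of the restriction to a quasi-compact open subspace extends. -/
theorem exists_extend (hX : IsAlgSpace X) (hqc : IsQuasiCompactSp X) (hqs : IsQuasiSeparatedSp X)
    (hU : IsAlgSpace U) (hj : RepWith @IsOpenImmersion j) (hUc : IsQuasiCompactSp U) {F : ModEt X} (hF : Good F)
    {G : ModEt U} (g : G ⟶ restr (etJ hj) F) [Mono g] [G.IsQuasicoherent] [G.IsFiniteType] :
    haveI := PostcompSite.isContinuous j (etJ hj)
    ∃ (G' : ModEt X) (g' : G' ⟶ F), Mono g' ∧ G'.IsQuasicoherent ∧ G'.IsFiniteType ∧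
      ∃ e : restr (etJ hj) G' ≅ G, e.hom ≫ g = (SheafOfModules.pushforward.{u + 1} (EtPullRestrict.φ (etJ hj))).map g' := by
  classical
  have := PostcompSite.isContinuous j (etJ hj)
  let R := SheafOfModules.pushforward.{u + 1} (EtPullRestrict.φ (etJ hj))
  let π := cokernel.π g
  let ψ := obsU hj π
  have hjm : Mono j := mono_of_openImmersion hj
  have hQ : Good (cokernel g) := good_cokernel g (good_of_qcoh G) (Good.restr (etJ hj) F hF)
  have hjqc : IsQuasiCompactMor j := isQuasiCompactMor_of_qc_qs hU hX hUc hqs j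
  have hjqs : IsQuasiSeparatedMor j := repWith_mono
    (fun _ _ e (_ : IsClosedImmersion e) => inferInstanceAs (QuasiCompact e)) _ (isSeparatedMor_of_mono j)
  have := isQuasicoherent_push_qcqs hj.1 (cokernel g) hjqc hjqs hQ
  have hP : Good ((pushModEt hj.1).obj (cokernel g)) := good_of_qcoh _
  have hN₀ : Good (kernel ψ) := good_kernel ψ hF hP
  let P' := fun C : EtOver U => (EtOver.postcomp j (etJ hj)).obj C
  -- the charts
  have : CompactSpace (Points U) := (isQuasiCompactSp_iff hU).1 hUc
  obtain ⟨tU, htU⟩ := exists_finite_charts hU (W := (Set.univ : Set (Points U))) isCompact_univ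
  let A : Set (Points X) := Set.range (Points.map j)
  let P₁ : {C : EtOver U // Aff C} → {E : EtOver X // Aff E} := fun C => ⟨P' C.1, C.2⟩
  have hfin : ∀ E ∈ tU.image P₁, Module.Finite (Rg E.1) (SA (kernel ψ) (𝟙 E.1)) := by
    intro E hE
    obtain ⟨C, -, rfl⟩ := Finset.mem_image.1 hE
    exact finite_kernel_open hj hF g C.1 C.2 hP
  obtain ⟨N, k, hk, hNg, hNq, hNf, hfull, -⟩ := exists_finiteType_sub_extend hX hqc hqs hN₀
    (A := A) (isOpenEmbedding_map' hX hj).isOpen_range (AlgSpDec2.ElemChain.isCompact_range_of_qc hU hUc j) (tU.image P₁)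
    (fun E hE v => by
      obtain ⟨C, -, rfl⟩ := Finset.mem_image.1 hE
      exact ⟨Points.ofPt C.1.obj.hom v, Points.map_ofPt _ _ _⟩)
    (by
      rintro _ ⟨x, rfl⟩
      obtain ⟨C, hC, v, hv⟩ := Set.mem_iUnion₂.1 (htU (Set.mem_univ x))
      exact Set.mem_iUnion₂.2 ⟨P₁ C, Finset.mem_image_of_mem _ hC, v, by rw [← hv, Points.map_ofPt]; rfl⟩)
    hfin (m := 0) Fin.elim0 (fun i => i.elim0) (fun i => i.elim0)
  let g' := k ≫ kernel.ι ψ
  have hg' : Mono g' := mono_comp _ _
  exact ⟨N, g', hg', hNq, hNf, exists_iso_open hj hF g hP k hfull⟩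

end Groth.Agent.AlgSpMod
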