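import Groth.Agent.AlgSpMod.Presented
import Groth.Agent.AlgSpDec.QuasiAffineDescent

/-!
# Functions and presented modules on fibre products of affine objects
-/

set_option backward.isDefEq.respectTransparency false
set_option backward.isDefEq.respectTransparency.types false
set_option maxHeartbeats 1000000

universe u

open CategoryTheory CategoryTheory.Limits AlgebraicGeometry Opposite AlgSp TensorProduct
open Groth.Agent.AlgSpLib Groth.Agent.AlgSpDec

namespace Groth.Agent.AlgSpMod

variable {S : Scheme.{u}} {X : Sp S}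

theorem rs_comp {E E' E'' : EtOver X} (g : E' ⟶ E) (h : E'' ⟶ E') (a : Rg E) : rs h (rs g a) = rs (h ≫ g) a :=
  (congr($((OEt X).obj.map_comp g.op h.op).hom a)).symm

theorem rs_id (E : EtOver X) (a : Rg E) : rs (𝟙 E) a = a := congr($((OEt X).obj.map_id (op E)).hom a)

/-- Functions on an object over another one. -/
def RA {E F : EtOver X} (_g : F ⟶ E) : Type (u + 1) := Rg F

noncomputable instance {E F : EtOver X} (g : F ⟶ E) : CommRing (RA g) := inferInstanceAs (CommRing (Rg F))

noncomputable instance {E F : EtOver X} (g : F ⟶ E) : Algebra (Rg E) (RA g) :=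
  (show Rg E →+* RA g from rs g).toAlgebra

theorem algebraMap_RA {E F : EtOver X} (g : F ⟶ E) (r : Rg E) : algebraMap (Rg E) (RA g) r = rs g r := rfl

variable (M : ModEt X)

/-- Sections over an object over another one. -/
def SA {E F : EtOver X} (_g : F ⟶ E) : Type (u + 1) := sectModEt M F

noncomputable instance {E F : EtOver X} (g : F ⟶ E) : AddCommGroup (SA M g) :=
  inferInstanceAs (AddCommGroup (sectModEt M F))

noncomputable instance {E F : EtOver X} (g : F ⟶ E) : Module (RA g) (SA M g) :=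
  inferInstanceAs (Module ((OEtRing X).obj.obj (op F)) (M.val.obj (op F)))

noncomputable instance {E F : EtOver X} (g : F ⟶ E) : Module (Rg E) (SA M g) :=
  Module.compHom (SA M g) (algebraMap (Rg E) (RA g))

instance {E F : EtOver X} (g : F ⟶ E) : IsScalarTower (Rg E) (RA g) (SA M g) :=
  IsScalarTower.of_algebraMap_smul fun _ _ => rfl

theorem smul_SA {E F : EtOver X} (g : F ⟶ E) (r : Rg E) (x : SA M g) :
    r • x = (show RA g from rs g r) • x := rfl

/-- Restriction of sections between objects over one. -/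
noncomputable def resL {E F F' : EtOver X} (g : F ⟶ E) (g' : F' ⟶ E) (h : F' ⟶ F) (w : h ≫ g = g') :
    SA M g →ₗ[Rg E] SA M g' where
  toFun x := M.val.map h.op (show sectModEt M F from x)
  map_add' x y := map_add (M.val.map h.op).hom x y
  map_smul' r x := by
    refine (M.val.map_smul h.op (rs g r) (show sectModEt M F from x)).trans ?_
    subst w
    exact congrArg (· • _) (rs_comp g h r)

theorem resL_smul {E F F' : EtOver X} (g : F ⟶ E) (g' : F' ⟶ E) (h : F' ⟶ F) (w : h ≫ g = g') (a : RA g)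
    (x : SA M g) : resL M g g' h w (a • x) = (show RA g' from rs h a) • resL M g g' h w x :=
  M.val.map_smul h.op (show Rg F from a) (show sectModEt M F from x)

theorem resL_resL {E F F' F'' : EtOver X} (g : F ⟶ E) (g' : F' ⟶ E) (g'' : F'' ⟶ E) (h : F' ⟶ F) (h' : F'' ⟶ F')
    (w : h ≫ g = g') (w' : h' ≫ g' = g'') (x : SA M g) :
    resL M g' g'' h' w' (resL M g g' h w x) =
      resL M g g'' (h' ≫ h) (by rw [Category.assoc, w, w']) x :=
  (congr($(M.val.presheaf.map_comp h.op h'.op) (show sectModEt M F from x))).symm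

/-- The comparison map along a morphism. -/
noncomputable def bc {E F : EtOver X} (g : F ⟶ E) : RA g ⊗[Rg E] SA M (𝟙 E) →ₗ[Rg E] SA M g :=
  TensorProduct.lift (((LinearMap.lsmul (RA g) (SA M g)).restrictScalars₁₂ (Rg E) (Rg E)).compl₂
    (resL M (𝟙 E) g g (Category.comp_id g)))

theorem bc_tmul {E F : EtOver X} (g : F ⟶ E) (a : RA g) (x : SA M (𝟙 E)) :
    bc M g (a ⊗ₜ x) = a • resL M (𝟙 E) g g (Category.comp_id g) x := rfl

/-- The second ring of a pushout is generated by the images of the two factors. -/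
theorem mem_of_isPushout {A B C D : CommRingCat.{u}} {f : A ⟶ B} {g : A ⟶ C} {i : B ⟶ D} {j : C ⟶ D}
    (H : IsPushout f g i j) (K : Subring D) (hi : ∀ b, i.hom b ∈ K) (hj : ∀ c, j.hom c ∈ K) (x : D) : x ∈ K := by
  let d := H.desc (CommRingCat.ofHom (i.hom.codRestrict K hi)) (CommRingCat.ofHom (j.hom.codRestrict K hj)) (by
    ext a; exact congr(($H.w).hom a))
  have hd : d ≫ CommRingCat.ofHom K.subtype = 𝟙 _ := by
    apply H.hom_ext
    · rw [← Category.assoc, H.inl_desc, Category.comp_id]; rfl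
    · rw [← Category.assoc, H.inr_desc, Category.comp_id]; rfl
  have e : ((d.hom x : K) : D) = x := congr(($hd).hom x)
  exact e ▸ (d.hom x).2

theorem bijective_congr {α : Type (u + 1)} {β : Type (u + 1)} {f g : α → β} (h : ∀ x, f x = g x)
    (hg : Function.Bijective g) : Function.Bijective f := (funext h : f = g) ▸ hg

/-- Over a presented base the comparison map of affine objects is bijective. -/
theorem bc_bijective_of_over {B F : EtOver X} (E₀ : Over B) (p : (M.over B).Presentation) (g : F ⟶ E₀.left)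
    (hE : Aff E₀.left) (hF : Aff F) : Function.Bijective (bc M g) := by
  obtain ⟨N, _, _, ι, hι, hθ, -⟩ := exists_bijective_θ (M := M.over B) (E₀ := E₀) p hE
  let P : Over E₀ := Over.mk (Over.homMk g rfl : Over.mk (g ≫ E₀.hom) ⟶ E₀)
  let eA : RA g ≃ₗ[Rg E₀.left] AR P :=
    { toFun := fun a => a, map_add' := fun _ _ => rfl, map_smul' := fun _ _ => rfl, invFun := fun a => a,
      left_inv := fun _ => rfl, right_inv := fun _ => rfl }
  let ι' : N →ₗ[Rg E₀.left] SA M (𝟙 E₀.left) :=
    { toFun := fun n => ι n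
      map_add' := fun a b => map_add ι a b
      map_smul' := fun r n => map_smul ι r n }
  let eN : N ≃ₗ[Rg E₀.left] SA M (𝟙 E₀.left) := LinearEquiv.ofBijective ι' hι
  have key : ∀ z : RA g ⊗[Rg E₀.left] N, (bc M g (eN.toLinearMap.lTensor _ z) : sectModEt M F) =
      θ (M.over B) ι P (eA.toLinearMap.rTensor N z) := by
    intro z
    induction z with
    | zero => simp only [map_zero]
    | tmul a n =>
      rw [LinearMap.lTensor_tmul, LinearMap.rTensor_tmul]
      refine (bc_tmul M g a (eN n)).trans ?_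
      exact (θ_tmul (M.over B) ι P (eA a) n).symm
    | add a b ha hb => simp only [map_add]; exact congrArg₂ (· + ·) ha hb
  have hb : Function.Bijective fun z => θ (M.over B) ι P (eA.toLinearMap.rTensor N z) :=
    (hθ P hF).comp (eA.rTensor N).bijective
  have hl : Function.Bijective (eN.toLinearMap.lTensor (RA g)) := (eN.lTensor (RA g)).bijective
  refine (Function.Bijective.of_comp_iff _ hl).1 ?_
  exact bijective_congr (β := sectModEt M F) key hb

/-- Over a presented base the comparison map of affine objects is bijective. -/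
theorem bc_bijective_of_presentation {B E F : EtOver X} (p : (M.over B).Presentation) (h : E ⟶ B) (g : F ⟶ E)
    (hE : Aff E) (hF : Aff F) : Function.Bijective (bc M g) :=
  bc_bijective_of_over M (Over.mk h) p g hE hF

theorem exists_toTensor₂ {E E₁ E₂ : EtOver X} (q₁ : E₁ ⟶ E) (q₂ : E₂ ⟶ E) [Aff E] [Aff E₁] [Aff E₂] :
    ∃ ψ : Rg (EtOver.pullbackObj q₁ q₂) →+* RA q₁ ⊗[Rg E] RA q₂,
      (∀ a, ψ (rs (EtOver.pullbackFst q₁ q₂) a) = (show RA q₁ from a) ⊗ₜ 1) ∧
      ∀ a, ψ (rs (EtOver.pullbackSnd q₁ q₂) a) = 1 ⊗ₜ (show RA q₂ from a) := by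
  let A := Γ(E.obj.left.left, ⊤)
  let A₁ := Γ(E₁.obj.left.left, ⊤)
  let A₂ := Γ(E₂.obj.left.left, ⊤)
  let f₁ := q₁.hom.left.left
  let f₂ := q₂.hom.left.left
  let _ : Algebra A A₁ := f₁.appTop.hom.toAlgebra
  let _ : Algebra A A₂ := f₂.appTop.hom.toAlgebra
  let T := RA q₁ ⊗[Rg E] RA q₂
  let up : A →+* Rg E := ULift.ringEquiv.symm.toRingHom
  let up₁ : A₁ →+* RA q₁ := ULift.ringEquiv.symm.toRingHom
  let up₂ : A₂ →+* RA q₂ := ULift.ringEquiv.symm.toRingHom
  let _ : Algebra A T := ((algebraMap (Rg E) T).comp up).toAlgebra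
  let la : A₁ →ₐ[A] T := ⟨(Algebra.TensorProduct.includeLeft : RA q₁ →ₐ[Rg E] T).toRingHom.comp up₁, fun a => by
    show (Algebra.TensorProduct.includeLeft : RA q₁ →ₐ[Rg E] T) (algebraMap (Rg E) (RA q₁) (up a)) = _
    rw [AlgHom.commutes]; rfl⟩
  let ra : A₂ →ₐ[A] T := ⟨(Algebra.TensorProduct.includeRight : RA q₂ →ₐ[Rg E] T).toRingHom.comp up₂, fun a => by
    show (Algebra.TensorProduct.includeRight : RA q₂ →ₐ[Rg E] T) (algebraMap (Rg E) (RA q₂) (up a)) = _
    rw [AlgHom.commutes]; rfl⟩
  let μ : A₁ ⊗[A] A₂ →ₐ[A] T := Algebra.TensorProduct.productMap la ra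
  let i₁ : Γ(E₁.obj.left.left, ⊤) ⟶ CommRingCat.of (A₁ ⊗[A] A₂) :=
    CommRingCat.ofHom Algebra.TensorProduct.includeLeftRingHom
  let i₂ : Γ(E₂.obj.left.left, ⊤) ⟶ CommRingCat.of (A₁ ⊗[A] A₂) :=
    CommRingCat.ofHom (Algebra.TensorProduct.includeRight : A₂ →ₐ[A] A₁ ⊗[A] A₂).toRingHom
  have hi : f₁.appTop ≫ i₁ = f₂.appTop ≫ i₂ := by
    ext a
    show algebraMap A A₁ a ⊗ₜ[A] (1 : A₂) = (1 : A₁) ⊗ₜ[A] algebraMap A A₂ a
    rw [Algebra.algebraMap_eq_smul_one, TensorProduct.smul_tmul, ← Algebra.algebraMap_eq_smul_one]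
  let aT := Spec.map i₁ ≫ E₁.obj.left.left.isoSpec.inv
  let bT := Spec.map i₂ ≫ E₂.obj.left.left.isoSpec.inv
  have hc : aT ≫ f₁ = bT ≫ f₂ := by
    simp only [aT, bT, Category.assoc]
    rw [← Scheme.isoSpec_inv_naturality, ← Scheme.isoSpec_inv_naturality, ← Category.assoc, ← Category.assoc,
      ← Spec.map_comp, ← Spec.map_comp, hi]
  let sq := IsPullback.map (CategoryTheory.Over.forget S) (IsPullback.of_hasPullback q₁.hom.left q₂.hom.left)
  let t : Spec (CommRingCat.of (A₁ ⊗[A] A₂)) ⟶ (EtOver.pullbackObj q₁ q₂).obj.left.left := sq.lift aT bT hc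
  have ht₁ : t ≫ (EtOver.pullbackFst q₁ q₂).hom.left.left = aT := sq.lift_fst _ _ _
  have ht₂ : t ≫ (EtOver.pullbackSnd q₁ q₂).hom.left.left = bT := sq.lift_snd _ _ _
  refine ⟨μ.toRingHom.comp (((t.appTop ≫ (Scheme.ΓSpecIso _).hom).hom).comp ULift.ringEquiv.toRingHom),
    fun a => ?_, fun a => ?_⟩
  · have e : (EtOver.pullbackFst q₁ q₂).hom.left.left.appTop ≫ t.appTop ≫ (Scheme.ΓSpecIso _).hom = i₁ := by
      rw [← Category.assoc, ← Scheme.Hom.comp_appTop, ht₁, Scheme.Hom.comp_appTop, Category.assoc,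
        Scheme.ΓSpecIso_naturality, ← Category.assoc, isoSpec_inv_appTop', Iso.inv_hom_id, Category.id_comp]
    show μ ((((EtOver.pullbackFst q₁ q₂).hom.left.left.appTop ≫ t.appTop ≫ (Scheme.ΓSpecIso _).hom)).hom a.down) = _
    rw [e]
    show Algebra.TensorProduct.productMap la ra (a.down ⊗ₜ 1) = _
    rw [Algebra.TensorProduct.productMap_apply_tmul, map_one, mul_one]
    rfl
  · have e : (EtOver.pullbackSnd q₁ q₂).hom.left.left.appTop ≫ t.appTop ≫ (Scheme.ΓSpecIso _).hom = i₂ := by
      rw [← Category.assoc, ← Scheme.Hom.comp_appTop, ht₂, Scheme.Hom.comp_appTop, Category.assoc,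
        Scheme.ΓSpecIso_naturality, ← Category.assoc, isoSpec_inv_appTop', Iso.inv_hom_id, Category.id_comp]
    show μ ((((EtOver.pullbackSnd q₁ q₂).hom.left.left.appTop ≫ t.appTop ≫ (Scheme.ΓSpecIso _).hom)).hom a.down) = _
    rw [e]
    show Algebra.TensorProduct.productMap la ra (1 ⊗ₜ a.down) = _
    rw [Algebra.TensorProduct.productMap_apply_tmul, map_one, one_mul]
    rfl

/-- The map from the tensor product of functions. -/
noncomputable def mulRA {E E₁ E₂ : EtOver X} (q₁ : E₁ ⟶ E) (q₂ : E₂ ⟶ E) :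
    RA q₁ ⊗[Rg E] RA q₂ →ₐ[Rg E] RA (EtOver.pullbackFst q₁ q₂ ≫ q₁) :=
  Algebra.TensorProduct.productMap
    ⟨(show RA q₁ →+* RA (EtOver.pullbackFst q₁ q₂ ≫ q₁) from rs (EtOver.pullbackFst q₁ q₂)), fun r =>
      rs_comp q₁ (EtOver.pullbackFst q₁ q₂) r⟩
    ⟨(show RA q₂ →+* RA (EtOver.pullbackFst q₁ q₂ ≫ q₁) from rs (EtOver.pullbackSnd q₁ q₂)), fun r => by
      show rs (EtOver.pullbackSnd q₁ q₂) (rs q₂ r) = rs (EtOver.pullbackFst q₁ q₂ ≫ q₁) r
      rw [rs_comp, ← EtOver.pullback_condition]⟩

theorem mulRA_bijective {E E₁ E₂ : EtOver X} (q₁ : E₁ ⟶ E) (q₂ : E₂ ⟶ E) [Aff E] [Aff E₁] [Aff E₂] :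
    Function.Bijective (mulRA q₁ q₂) := by
  obtain ⟨ψ, hψ₁, hψ₂⟩ := exists_toTensor₂ q₁ q₂
  constructor
  · refine Function.LeftInverse.injective (g := fun x => ψ x) fun z => ?_
    induction z with
    | zero => exact (congrArg ψ (map_zero (mulRA q₁ q₂))).trans (map_zero ψ)
    | tmul a b =>
      show ψ (mulRA q₁ q₂ (a ⊗ₜ b)) = _
      rw [mulRA, Algebra.TensorProduct.productMap_apply_tmul]
      refine (map_mul ψ _ _).trans ?_
      show ψ (rs (EtOver.pullbackFst q₁ q₂) a) * ψ (rs (EtOver.pullbackSnd q₁ q₂) b) = _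
      rw [hψ₁, hψ₂, Algebra.TensorProduct.tmul_mul_tmul, one_mul, mul_one]
    | add x y hx hy => exact (congrArg ψ (map_add (mulRA q₁ q₂) x y)).trans ((map_add ψ _ _).trans (congrArg₂ (· + ·) hx hy))
  · let f₁ := q₁.hom.left.left
    let f₂ := q₂.hom.left.left
    have := EtOver.etale_left q₂
    let sq := IsPullback.map (CategoryTheory.Over.forget S) (IsPullback.of_hasPullback q₁.hom.left q₂.hom.left)
    haveI : IsAffine ((CategoryTheory.Over.forget S).obj E₁.obj.left) := (inferInstance : Aff E₁)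
    haveI : IsAffine ((CategoryTheory.Over.forget S).obj E₂.obj.left) := (inferInstance : Aff E₂)
    haveI : IsAffine ((CategoryTheory.Over.forget S).obj E.obj.left) := (inferInstance : Aff E)
    haveI : Flat ((CategoryTheory.Over.forget S).map q₂.hom.left) := (inferInstance : Flat q₂.hom.left.left)
    have H := AlgSpDec.isPushout_appTop sq
    let W := (CategoryTheory.Over.forget S).obj (Limits.pullback q₁.hom.left q₂.hom.left)
    intro w
    let K : Subring Γ(W, ⊤) := (mulRA q₁ q₂).range.toSubring.comap ULift.ringEquiv.symm.toRingHom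
    refine mem_of_isPushout H K (fun a => ?_) (fun a => ?_) w.down
    · refine ⟨(show RA q₁ from ⟨a⟩) ⊗ₜ 1, ?_⟩
      show mulRA q₁ q₂ _ = _
      rw [mulRA, Algebra.TensorProduct.productMap_apply_tmul, map_one, mul_one]; rfl
    · refine ⟨1 ⊗ₜ (show RA q₂ from ⟨a⟩), ?_⟩
      show mulRA q₁ q₂ _ = _
      rw [mulRA, Algebra.TensorProduct.productMap_apply_tmul, map_one, one_mul]; rfl

/-- The comparison map for fibre products. -/
noncomputable def fib {E V F : EtOver X} (g : V ⟶ E) (g' : F ⟶ E) :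
    RA g ⊗[Rg E] SA M g' →ₗ[Rg E] SA M (EtOver.pullbackFst g g' ≫ g) :=
  let w := EtOver.pullbackFst g g' ≫ g
  let r : SA M g' →ₗ[Rg E] SA M w :=
    resL M g' w (EtOver.pullbackSnd g g') (EtOver.pullback_condition g g').symm
  TensorProduct.lift
    { toFun := fun a =>
        { toFun := fun m => (show RA w from rs (EtOver.pullbackFst g g') a) • r m
          map_add' := fun x y => by rw [map_add, smul_add]
          map_smul' := fun c x => by rw [map_smul, RingHom.id_apply, smul_comm] }
      map_add' := fun a b => LinearMap.ext fun m => by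
        show (show RA w from rs (EtOver.pullbackFst g g') (a + b)) • r m = _
        rw [show (show RA w from rs (EtOver.pullbackFst g g') (a + b)) =
          (show RA w from rs (EtOver.pullbackFst g g') a) + (show RA w from rs (EtOver.pullbackFst g g') b) from
            map_add (rs (EtOver.pullbackFst g g')) a b, add_smul]
        rfl
      map_smul' := fun c a => LinearMap.ext fun m => by
        show (show RA w from rs (EtOver.pullbackFst g g') (rs g c * (show Rg V from a))) • r m =
          c • ((show RA w from rs (EtOver.pullbackFst g g') a) • r m)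
        rw [← smul_assoc]
        congr 1
        exact (map_mul (rs (EtOver.pullbackFst g g')) _ _).trans (congrArg (· * _) (rs_comp _ _ _)) }

theorem fib_tmul {E V F : EtOver X} (g : V ⟶ E) (g' : F ⟶ E) (a : RA g) (m : SA M g') :
    fib M g g' (a ⊗ₜ m) =
      HSMul.hSMul (α := RA (EtOver.pullbackFst g g' ≫ g)) (β := SA M (EtOver.pullbackFst g g' ≫ g))
        (rs (EtOver.pullbackFst g g') a)
        (resL M g' (EtOver.pullbackFst g g' ≫ g) (EtOver.pullbackSnd g g') (EtOver.pullback_condition g g').symm m) :=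
  TensorProduct.lift.tmul _ _

theorem fib_bijective {E V F : EtOver X} (g : V ⟶ E) (g' : F ⟶ E) [Aff E] [Aff V] [Aff F]
    (hb : Function.Bijective (bc M (EtOver.pullbackSnd g g'))) : Function.Bijective (fib M g g') := by
  classical
  let π := EtOver.pullbackSnd g g'
  -- functions on `F` acting on sections over `F`
  let eS : SA M g' ≃+ SA M (𝟙 F) := AddEquiv.refl (sectModEt M F)
  let μ := Algebra.TensorProduct.comm (Rg E) (RA g') (RA g) |>.trans (AlgEquiv.ofBijective (mulRA g g') (mulRA_bijective g g'))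
  let μF : RA g' ⊗[Rg E] RA g ≃ₗ[RA g'] RA g' ⊗[Rg E] RA g := LinearEquiv.refl _ _
  let σ : SA M g' ⊗[RA g'] (RA g' ⊗[Rg E] RA g) ≃+ SA M g' ⊗[Rg E] RA g :=
    (AlgebraTensorModule.cancelBaseChange (Rg E) (RA g') (RA g') (SA M g') (RA g)).toAddEquiv
  let ν : SA M g' ⊗[RA g'] (RA g' ⊗[Rg E] RA g) →+ RA π ⊗[Rg F] SA M (𝟙 F) :=
    TensorProduct.liftAddHom
      (AddMonoidHom.mk' (fun m => AddMonoidHom.mk' (fun w => (show RA π from μ w) ⊗ₜ[Rg F] (eS m))
        (fun a b => (congrArg (fun k : RA π => k ⊗ₜ[Rg F] eS m) (map_add μ a b)).trans (add_tmul _ _ _)))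
        fun a b => AddMonoidHom.ext fun w => by
          show _ ⊗ₜ[Rg F] eS (a + b) = _
          rw [map_add, tmul_add]; rfl)
      (fun r m w => by
        show (show RA π from μ w) ⊗ₜ[Rg F] eS (r • m) = (show RA π from μ (r • w)) ⊗ₜ[Rg F] eS m
        have e1 : eS (r • m) = (show Rg F from r) • eS m := by
          rw [smul_SA M (𝟙 F), show (show RA (𝟙 F) from rs (𝟙 F) (show Rg F from r)) = (r : Rg F) from rs_id F r]
          rfl
        rw [e1, ← TensorProduct.smul_tmul]
        congr 1
        rw [Algebra.smul_def, Algebra.smul_def, map_mul]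
        congr 1
        show rs π r = mulRA g g' (Algebra.TensorProduct.comm (Rg E) (RA g') (RA g) (r ⊗ₜ 1))
        rw [Algebra.TensorProduct.comm_tmul, mulRA, Algebra.TensorProduct.productMap_apply_tmul, map_one, one_mul]
        rfl)
  let ν' : RA π ⊗[Rg F] SA M (𝟙 F) →+ SA M g' ⊗[RA g'] (RA g' ⊗[Rg E] RA g) :=
    TensorProduct.liftAddHom
      (AddMonoidHom.mk' (fun w => AddMonoidHom.mk' (fun m => (eS.symm m) ⊗ₜ[RA g'] (μ.symm w))
        (fun a b => (congrArg (fun k => k ⊗ₜ[RA g'] μ.symm w) (map_add eS.symm a b)).trans (add_tmul _ _ _)))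
        fun a b => AddMonoidHom.ext fun m => by
          show _ ⊗ₜ[RA g'] μ.symm (a + b) = _
          rw [map_add, tmul_add]; rfl)
      (fun r w m => by
        show (eS.symm m) ⊗ₜ[RA g'] (μ.symm (r • w)) = (eS.symm (r • m)) ⊗ₜ[RA g'] μ.symm w
        have e1 : eS.symm (r • m) = (show RA g' from r) • eS.symm m := by
          rw [smul_SA M (𝟙 F), show (show RA (𝟙 F) from rs (𝟙 F) r) = (show RA (𝟙 F) from r) from rs_id F r]
          rfl
        rw [e1, TensorProduct.smul_tmul]
        congr 1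
        apply μ.injective
        rw [Algebra.smul_def, Algebra.smul_def, μ.apply_symm_apply, map_mul, μ.apply_symm_apply]
        congr 1
        show rs π r = mulRA g g' (Algebra.TensorProduct.comm (Rg E) (RA g') (RA g) ((show RA g' from r) ⊗ₜ 1))
        rw [Algebra.TensorProduct.comm_tmul, mulRA, Algebra.TensorProduct.productMap_apply_tmul, map_one, one_mul]
        rfl)
  have hν : Function.Bijective ν := by
    refine Function.bijective_iff_has_inverse.2 ⟨ν', fun z => ?_, fun z => ?_⟩
    · induction z with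
      | zero => simp only [map_zero]
      | tmul m w =>
        show (eS.symm (eS m)) ⊗ₜ[RA g'] μ.symm (μ w) = _
        rw [μ.symm_apply_apply, eS.symm_apply_apply]
      | add x y hx hy => simp only [map_add, hx, hy]
    · induction z with
      | zero => simp only [map_zero]
      | tmul w m =>
        show (show RA π from μ (μ.symm w)) ⊗ₜ[Rg F] eS (eS.symm m) = _
        rw [μ.apply_symm_apply, eS.apply_symm_apply]
      | add x y hx hy => simp only [map_add, hx, hy]
  let c : SA M g' ⊗[Rg E] RA g ≃ₗ[Rg E] RA g ⊗[Rg E] SA M g' := TensorProduct.comm _ _ _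
  have key : ∀ z : SA M g' ⊗[RA g'] (RA g' ⊗[Rg E] RA g),
      (fib M g g' (c (σ z)) : sectModEt M _) = bc M π (ν z) := by
    intro z
    induction z with
    | zero => simp only [map_zero]
    | tmul m w =>
      induction w with
      | zero =>
        rw [tmul_zero]; simp only [map_zero]
      | tmul b a =>
        show (fib M g g' (a ⊗ₜ (b • m)) : sectModEt M _) =
          (show RA π from μ (b ⊗ₜ a)) • resL M (𝟙 F) π π (Category.comp_id π) (eS m)
        rw [fib_tmul, resL_smul, ← mul_smul]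
        show _ = (show RA π from mulRA g g' (a ⊗ₜ b)) • _
        rw [mulRA, Algebra.TensorProduct.productMap_apply_tmul]
        rfl
      | add x y hx hy =>
        simp only [tmul_add, map_add] at hx hy ⊢
        exact congrArg₂ (· + ·) hx hy
    | add x y hx hy => simp only [map_add]; exact congrArg₂ (· + ·) hx hy
  have hcσ : Function.Bijective fun z => c (σ z) := c.bijective.comp σ.bijective
  refine (Function.Bijective.of_comp_iff _ hcσ).1 ?_
  exact bijective_congr (β := sectModEt M (EtOver.pullbackObj g g')) key (hb.comp hν)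

end Groth.Agent.AlgSpMod
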