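import Groth.Agent.AlgSpMod.LocFree
import Groth.Agent.AlgSpDec.FinLocFree
import Groth.Agent.AlgSpLib.AffineDescProps
import Groth.Agent.AlgSpLib.Descent2
import Mathlib.RingTheory.Flat.EquationalCriterion

/-!
# Finite locally free morphisms and the direct image of the structure sheaf
-/

set_option backward.isDefEq.respectTransparency false
set_option backward.isDefEq.respectTransparency.types false
set_option maxHeartbeats 1000000

universe u

open CategoryTheory CategoryTheory.Limits AlgebraicGeometry Opposite AlgSp TensorProduct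
open Groth.Agent Groth.Agent.AlgSpLib Groth.Agent.AlgSpDec

namespace Groth.Agent.AlgSpMod

variable {S : Scheme.{u}}

theorem good_unit {X : Sp S} : Good (unitModEt X) := by
  refine ⟨fun {E F} g hE hF => ?_⟩
  have h1 : ∀ a : RA g, (bc (unitModEt X) g (a ⊗ₜ[Rg E] (show SA (unitModEt X) (𝟙 E) from (1 : Rg E))) :
      Rg F) = a := by
    intro a
    rw [bc_tmul]
    show (show Rg F from a) * rs g (1 : Rg E) = a
    rw [map_one]
    exact mul_one _
  have h2 : ∀ z : RA g ⊗[Rg E] SA (unitModEt X) (𝟙 E), ∃ a : RA g, z = a ⊗ₜ (show SA (unitModEt X) (𝟙 E) from (1 : Rg E)) := by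
    intro z
    induction z with
    | zero => exact ⟨0, (zero_tmul _ _).symm⟩
    | tmul a r =>
      refine ⟨(show Rg E from r) • a, ?_⟩
      rw [TensorProduct.smul_tmul]
      congr 1
      rw [smul_SA_id]
      exact (mul_one (show Rg E from r)).symm
    | add x y hx hy =>
      obtain ⟨a, rfl⟩ := hx
      obtain ⟨b, rfl⟩ := hy
      exact ⟨a + b, (add_tmul _ _ _).symm⟩
  refine ⟨fun z z' hzz => ?_, fun y => ⟨_, h1 (show RA g from y)⟩⟩
  obtain ⟨a, rfl⟩ := h2 z
  obtain ⟨b, rfl⟩ := h2 z'
  have : a = b := (h1 a).symm.trans (hzz.trans (h1 b))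
  rw [this]

variable {X Y : Sp S} {f : X ⟶ Y} (hf : Representable f)

/-- Sections of the direct image of the structure sheaf. -/
noncomputable def pushUnitEquiv (E : EtOver Y) :
    SA ((pushModEt hf).obj (unitModEt X)) (𝟙 E) ≃ₗ[Rg E] RB hf E :=
  (eSB hf (unitModEt X) E).trans (LinearEquiv.restrictScalars (Rg E)
    ({ toFun := fun x => x
       invFun := fun x => x
       left_inv := fun _ => rfl
       right_inv := fun _ => rfl
       map_add' := fun _ _ => rfl
       map_smul' := fun r x => by
         show (show RB hf E from r • x) = r * (show RB hf E from x)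
         exact smul_SA_id (M := unitModEt X) (show Rg (EtOver.bcObj hf E) from r)
           (show SA (unitModEt X) (𝟙 _) from x) } : SB hf (unitModEt X) E ≃ₗ[RB hf E] RB hf E))

theorem lfd_of_finLocFree (hY : IsAlgSpace Y) (h : IsFinLocFreeMor f) :
    IsAffineMor f ∧ ∃ q : SheafOfModules.LocalGeneratorsData.{u + 1} ((pushModEt hf).obj (unitModEt X)),
      q.IsLocallyFreeData ∧ q.IsFiniteType := by
  obtain ⟨hfin, hflat, hlfp⟩ := (isFinLocFreeMor_iff hY).1 h
  have haff := isAffineMor_of_isFiniteMor hfin
  have hA := aff_bcObj_of_isAffineMor hf haff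
  refine ⟨haff, exists_locallyFreeData hY (good_push hf _ hA good_unit) fun E hE => ?_⟩
  have := finite_RB hf hfin E hE
  have : Flat (hf.snd E.obj.hom).left := (repWith_of_locP hY hf hflat).property _ _ _ (hf.isPullback E.obj.hom)
  have : LocallyOfFinitePresentation (hf.snd E.obj.hom).left :=
    (repWith_of_locP hY hf hlfp).property _ _ _ (hf.isPullback E.obj.hom)
  haveI : IsAffine E.obj.left.left := hE
  haveI : IsAffine (hf.pullback E.obj.hom).left := hA E hE
  let eW := ULift.ringEquiv (R := Γ((hf.pullback E.obj.hom).left, ⊤))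
  let eE := ULift.ringEquiv (R := Γ(E.obj.left.left, ⊤))
  have e : β hf E = (eW.symm.toRingHom.comp (hf.snd E.obj.hom).left.appTop.hom).comp eE.toRingHom :=
    RingHom.ext fun a => rfl
  have hfl : (β hf E).Flat := by
    have h1 : (hf.snd E.obj.hom).left.appTop.hom.Flat := HasRingHomProperty.appTop (P := @Flat) _ inferInstance
    rw [e]
    exact RingHom.Flat.comp (RingHom.Flat.of_bijective eE.bijective)
      (RingHom.Flat.comp h1 (RingHom.Flat.of_bijective eW.symm.bijective))
  have hfp : (β hf E).FinitePresentation := by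
    have h1 : (hf.snd E.obj.hom).left.appTop.hom.FinitePresentation :=
      HasRingHomProperty.appTop (P := @LocallyOfFinitePresentation) _ inferInstance
    rw [e]
    exact ((RingHom.FinitePresentation.of_bijective eW.symm.bijective).comp h1).comp
      (RingHom.FinitePresentation.of_bijective eE.bijective)
  haveI : Module.Flat (Rg E) (RB hf E) := hfl
  haveI : Algebra.FinitePresentation (Rg E) (RB hf E) := hfp
  haveI : Module.FinitePresentation (Rg E) (RB hf E) :=
    Module.FinitePresentation.of_finite_of_finitePresentation _ _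
  haveI : Module.Projective (Rg E) (RB hf E) := Module.Flat.projective_of_finitePresentation
  exact ⟨Module.Finite.equiv (pushUnitEquiv hf E).symm, Module.Projective.of_equiv' (pushUnitEquiv hf E).symm⟩

theorem finLocFree_snd (haff : IsAffineMor f) (q : SheafOfModules.LocalGeneratorsData.{u + 1} ((pushModEt hf).obj (unitModEt X)))
    [q.IsLocallyFreeData] [q.IsFiniteType] (E : EtOver Y) (hE : Aff E) : finLocFree (hf.snd E.obj.hom).left := by
  have hA := aff_bcObj_of_isAffineMor hf haff
  have hG : Good ((pushModEt hf).obj (unitModEt X)) := good_push hf _ hA good_unit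
  haveI := hG.isQuasicoherent
  haveI : Module.Finite (Rg E) (SA ((pushModEt hf).obj (unitModEt X)) (𝟙 E)) := finite_of_locallyFreeData q E hE
  haveI := projective_of_locallyFreeData hG q E hE
  haveI : Module.Finite (Rg E) (RB hf E) := Module.Finite.equiv (pushUnitEquiv hf E)
  haveI : Module.Projective (Rg E) (RB hf E) := Module.Projective.of_equiv' (pushUnitEquiv hf E)
  haveI : Module.FinitePresentation (Rg E) (RB hf E) := Module.finitePresentation_of_projective _ _
  haveI : Algebra.FinitePresentation (Rg E) (RB hf E) := inferInstance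
  haveI : IsAffine E.obj.left.left := hE
  haveI : IsAffine (hf.pullback E.obj.hom).left := hA E hE
  let eW := ULift.ringEquiv (R := Γ((hf.pullback E.obj.hom).left, ⊤))
  let eE := ULift.ringEquiv (R := Γ(E.obj.left.left, ⊤))
  let A := (hf.snd E.obj.hom).left
  have e : A.appTop.hom = (eW.toRingHom.comp (β hf E)).comp eE.symm.toRingHom := RingHom.ext fun a => rfl
  have h1 : A.appTop.hom.Finite := by
    rw [e]
    exact ((RingHom.Finite.of_surjective _ eW.surjective).comp (show (β hf E).Finite from inferInstanceAs
      (Module.Finite (Rg E) (RB hf E)))).comp (RingHom.Finite.of_surjective _ eE.symm.surjective)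
  have h2 : A.appTop.hom.Flat := by
    rw [e]
    exact RingHom.Flat.comp (RingHom.Flat.of_bijective eE.symm.bijective)
      (RingHom.Flat.comp (show (β hf E).Flat from Module.Flat.of_projective (R := Rg E) (M := RB hf E))
        (RingHom.Flat.of_bijective eW.bijective))
  have h3 : A.appTop.hom.FinitePresentation := by
    rw [e]
    exact ((RingHom.FinitePresentation.of_bijective eW.bijective).comp (show (β hf E).FinitePresentation from
      inferInstanceAs (Algebra.FinitePresentation (Rg E) (RB hf E)))).comp
      (RingHom.FinitePresentation.of_bijective eE.symm.bijective)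
  exact ⟨(HasAffineProperty.iff_of_isAffine (P := @IsFinite)).2 ⟨inferInstance, h1⟩,
    (HasRingHomProperty.iff_of_isAffine (P := @Flat)).2 h2,
    (HasRingHomProperty.iff_of_isAffine (P := @LocallyOfFinitePresentation)).2 h3⟩

theorem finLocFree_of_lfd (hY : IsAlgSpace Y) (haff : IsAffineMor f)
    (q : SheafOfModules.LocalGeneratorsData.{u + 1} ((pushModEt hf).obj (unitModEt X)))
    [q.IsLocallyFreeData] [q.IsFiniteType] : IsFinLocFreeMor f := by
  have := EtFound.fpqc_isFinite.{u}
  have : IsZariskiLocalAtTarget (finLocFree : MorphismProperty Scheme.{u}) := by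
    rw [AlgSpLib.finLocFree_eq]; infer_instance
  have : (finLocFree : MorphismProperty Scheme.{u}).DescendsAlong (@Surjective ⊓ @Flat ⊓ @QuasiCompact) := by
    rw [AlgSpLib.finLocFree_eq]; infer_instance
  obtain ⟨U, a, ha, has⟩ := hY.atlas
  let E₀ := EtOver.mk a ha
  choose O hO hxO _ using fun x : ↥U.left => exists_isAffineOpen_mem_and_subset
    (U := (⊤ : E₀.obj.left.left.Opens)) (x := x) trivial
  let D : ↥U.left → EtOver Y := fun x => etOpen E₀ (O x)
  have hcov : IsFpqcCover (fun x => (yon S).obj (D x).obj.left) (fun x => (D x).obj.hom) := by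
    refine isFpqcCover_of_isFppfCover hY (fun x => IsAlgSpace.yon_obj _) _ ⟨fun x => ⟨?_, ?_⟩, fun y => ?_⟩
    · exact locP_mono (P := @Etale) (Q := @Flat) (fun _ _ g (_ : Etale g) => inferInstanceAs (Flat g))
        (locP_of_repWith (D x).property)
    · exact locP_mono (P := @Etale) (Q := @LocallyOfFinitePresentation)
        (fun _ _ g (_ : Etale g) => inferInstanceAs (LocallyOfFinitePresentation g)) (locP_of_repWith (D x).property)
    · obtain ⟨v, hv⟩ := surjective_ofPt has y
      obtain ⟨w, hw⟩ := (range_etOpenι E₀ (O v)).ge (hxO v)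
      refine ⟨v, Points.ofScheme _ w, ?_⟩
      rw [← Points.ofPt_eq_map_ofScheme]
      exact ((ofPt_hom (etOpenι E₀ (O v)) w).symm.trans (congrArg (Points.ofPt E₀.obj.hom) hw)).trans hv
  exact repWith_of_fpqc (P := finLocFree) hf hcov (fun x => hf.isPullback (D x).obj.hom) fun x =>
    (repWith_yon_map_iff _ _).2 (finLocFree_snd hf haff q (D x) (hO x))

end Groth.Agent.AlgSpMod
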