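import Groth.Agent.AlgSpMod.Converse

/-!
# Sections over affine objects of modules of finite type and of finite presentation
-/

set_option backward.isDefEq.respectTransparency false
set_option backward.isDefEq.respectTransparency.types false
set_option maxHeartbeats 1000000

universe u

open CategoryTheory CategoryTheory.Limits AlgebraicGeometry Opposite AlgSp TensorProduct
open Groth.Agent Groth.Agent.AlgSpLib Groth.Agent.AlgSpDec

namespace Groth.Agent.AlgSpMod

variable {S : Scheme.{u}} {X : Sp S} {M : ModEt X}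

/-- The image of a tautological section. -/
noncomputable def genSec {B : EtOver X} {I : Type (u + 1)} (G : Fr (B := B) I ⟶ M.over B) (E₀ : Over B) (l : I) :
    SA M (𝟙 E₀.left) :=
  appMS G (Over.mk (𝟙 E₀) : Over E₀) (δ (B := B) I (Over.mk (𝟙 E₀) : Over E₀) l)

theorem exists_bc_eq {B : EtOver X} {I : Type (u + 1)} (G : Fr (B := B) I ⟶ M.over B) (E₀ : Over B) {F : EtOver X}
    (V : F ⟶ E₀.left) (w : AR (sub (Over.mk (𝟙 E₀) : Over E₀) V) ⊗[Rg E₀.left] (I →₀ Rg E₀.left)) :
    ∃ z, bc M V ((Submodule.span (Rg E₀.left) (Set.range (genSec G E₀))).subtype.lTensor (RA V) z) =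
      appMS G (sub (Over.mk (𝟙 E₀) : Over E₀) V) (θ _ (freeι (B := B) (E₀ := E₀) I) _ w) := by
  let id₁ : Over E₀ := Over.mk (𝟙 E₀)
  let P := sub id₁ V
  let f : RA V ⊗[Rg E₀.left] ↥(Submodule.span (Rg E₀.left) (Set.range (genSec G E₀))) →+ MS (M.over B) P :=
    AddMonoidHom.mk' (fun z => bc M V ((Submodule.span (Rg E₀.left) (Set.range (genSec G E₀))).subtype.lTensor (RA V) z))
      fun a b => by simp only [map_add]
  suffices h : appMS G P (θ _ (freeι (B := B) (E₀ := E₀) I) P w) ∈ f.range from h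
  induction w with
  | zero => rw [map_zero, map_zero]; exact zero_mem _
  | add a b ha hb => rw [map_add, map_add]; exact add_mem ha hb
  | tmul a c =>
    induction c using Finsupp.induction_linear with
    | zero => rw [tmul_zero, map_zero, map_zero]; exact zero_mem _
    | add c c' hc hc' => rw [tmul_add, map_add, map_add]; exact add_mem hc hc'
    | single l r =>
      rw [show Finsupp.single l r = r • Finsupp.single l (1 : Rg E₀.left) by simp, ← TensorProduct.smul_tmul,
        θ_free_single, map_smul, ← msMap_δ (P := id₁) I (subHom id₁ V), ← msMap_appMS]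
      exact ⟨(show RA V from (r • a : AR P)) ⊗ₜ ⟨genSec G E₀ l, Submodule.subset_span ⟨l, rfl⟩⟩,
        bc_tmul M V _ _⟩

theorem exists_points_cover {E E' : EtOver X} (q : E' ⟶ E) (hq : Surjective q.hom.left.left) {κ : Type*}
    {Ek : κ → EtOver X} {j : ∀ k, Ek k ⟶ E'} (hc : Sieve.ofArrows Ek j ∈ etTop X E') (x : ↥E.obj.left.left) :
    ∃ k, x ∈ Set.range (j k ≫ q).hom.left.left := by
  obtain ⟨y, rfl⟩ := hq.surj x
  obtain ⟨k, z, hz⟩ := exists_range_of_mem_etTop hc y
  exact ⟨k, z, show q.hom.left.left ((j k).hom.left.left z) = _ by rw [hz]⟩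

/-- Over an affine object generators of a quasi-coherent module generate its sections. -/
theorem span_genSec [M.IsQuasicoherent] {B : EtOver X} {I : Type (u + 1)} (G : Fr (B := B) I ⟶ M.over B) [Epi G]
    (E₀ : Over B) [Aff E₀.left] : Submodule.span (Rg E₀.left) (Set.range (genSec G E₀)) = ⊤ := by
  refine eq_top_iff.2 fun m _ => ?_
  obtain ⟨R, hR', hRm⟩ := exists_preimage_of_epi (E₀ := E₀) G (Over.mk (𝟙 E₀)) m
  obtain ⟨F', q, κ', _, Fk, j', -, hq, hFk, hRj, hcov', -⟩ := exists_affine_cover (E := E₀.left) hR'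
  refine mem_of_cover (fun l => j' l ≫ q) hFk (fun x => exists_points_cover q hq hcov' x) _ m fun l => ?_
  obtain ⟨x, hx⟩ := hRm _ _ (hRj l)
  obtain ⟨w, rfl⟩ := (θ_free_bijective (B := B) (E₀ := E₀) I (sub (Over.mk (𝟙 E₀)) (j' l ≫ q)) (hFk l)).2 x
  obtain ⟨z, hz⟩ := exists_bc_eq G E₀ (j' l ≫ q) w
  refine ⟨z, (bc_bijective M (j' l ≫ q) inferInstance (hFk l)).1 (hz.trans (hx.trans ?_))⟩
  exact ((bc_tmul M (j' l ≫ q) 1 m).trans (one_smul _ _)).symm

theorem finite_bc [M.IsQuasicoherent] {E F : EtOver X} (g : F ⟶ E) (hE : Aff E) (hF : Aff F)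
    [hfin : Module.Finite (Rg F) (SA M (𝟙 F))] : Module.Finite (RA g) (RA g ⊗[Rg E] SA M (𝟙 E)) := by
  classical
  obtain ⟨G', hG'⟩ := hfin.fg_top
  have : Module.Finite (RA g) (SA M g) := by
    refine ⟨⟨G'.image (toF g).symm, eq_top_iff.2 fun x _ => ?_⟩⟩
    have hx : toF g x ∈ Submodule.span (Rg F) (G' : Set (SA M (𝟙 F))) := hG' ▸ Submodule.mem_top
    rw [← (toF g).symm_apply_apply x]
    generalize toF g x = y at hx ⊢
    induction hx using Submodule.span_induction with
    | mem y hy => exact Submodule.subset_span (Finset.mem_image_of_mem _ hy)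
    | zero => rw [map_zero]; exact zero_mem _
    | add a b _ _ ha hb => rw [map_add]; exact add_mem ha hb
    | smul a b _ hb =>
      have := Submodule.smul_mem _ (show RA g from a) hb
      convert this using 1
      apply (toF g).injective
      rw [toF_smul, AddEquiv.apply_symm_apply, AddEquiv.apply_symm_apply]
  exact Module.Finite.equiv (bcEquiv (good_of_qcoh M) g hE hF).symm

/-- Sections of a module of finite type over affine objects form finite modules. -/
theorem finite_SA [M.IsQuasicoherent] [hM : M.IsFiniteType] (E : EtOver X) [hE : Aff E] :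
    Module.Finite (Rg E) (SA M (𝟙 E)) := by
  obtain ⟨σ, hσ⟩ := hM.exists_localGeneratorsData
  obtain ⟨E', p, κ, _, Ek, j, -, hp, hEk, hR, hcov, -⟩ := exists_affine_cover (σ.coversTop E)
  refine finite_of_cover (fun k => j k ≫ p) hEk (fun x => exists_points_cover p hp hcov x) fun k => ?_
  obtain ⟨i, ⟨ψ⟩⟩ := (Sieve.mem_ofObjects_iff _ _).1 (hR k)
  have : Finite (σ.generators i).I := (hσ.isFiniteType i).finite
  haveI : Aff (Over.mk ψ : Over (σ.X i)).left := hEk k
  have key := span_genSec (σ.generators i).π (Over.mk ψ : Over (σ.X i))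
  have : Module.Finite (Rg (Ek k)) (SA M (𝟙 (Ek k))) :=
    ⟨⟨(Set.finite_range (genSec (σ.generators i).π (Over.mk ψ : Over (σ.X i)))).toFinset, by
      rw [Set.Finite.coe_toFinset]; exact key⟩⟩
  exact finite_bc (j k ≫ p) hE (hEk k)

/-- Finite presentation descends along finite coverings by affine objects. -/
theorem finitePresentation_of_cover {E : EtOver X} [hE : Aff E] {κ : Type*} [Finite κ] {Ek : κ → EtOver X}
    (h : ∀ k, Ek k ⟶ E) (hA : ∀ k, Aff (Ek k))
    (hs : ∀ x : ↥E.obj.left.left, ∃ k, x ∈ Set.range (h k).hom.left.left) {N : Type (u + 1)} [AddCommGroup N]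
    [Module (Rg E) N] (hfp : ∀ k, Module.FinitePresentation (RA (h k)) (RA (h k) ⊗[Rg E] N)) :
    Module.FinitePresentation (Rg E) N := by
  have : Module.Finite (Rg E) N := finite_of_cover h hA hs fun k => (haveI := hfp k; inferInstance)
  obtain ⟨n, f, hf⟩ := Module.Finite.exists_fin' (Rg E) N
  refine Module.finitePresentation_of_surjective f hf (Module.Finite.iff_fg.1 ?_)
  refine finite_of_cover h hA hs fun k => ?_
  haveI := hA k
  have : Module.Flat (Rg E) (RA (h k)) := flat_RA (h k)
  let A := RA (h k)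
  let φ : A ⊗[Rg E] LinearMap.ker f →ₗ[A] A ⊗[Rg E] (Fin n → Rg E) := (LinearMap.ker f).subtype.baseChange A
  let ψ : A ⊗[Rg E] (Fin n → Rg E) →ₗ[A] A ⊗[Rg E] N := f.baseChange A
  have hψ : Function.Surjective ψ := LinearMap.lTensor_surjective A hf
  have hφ : Function.Injective φ :=
    Module.Flat.lTensor_preserves_injective_linearMap (M := A) _ Subtype.val_injective
  have hex : Function.Exact φ ψ := Module.Flat.lTensor_exact A (LinearMap.exact_subtype_ker_map f)
  have := hfp k
  have hfg : (LinearMap.ker ψ).FG := Module.FinitePresentation.fg_ker ψ hψ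
  rw [hex.linearMap_ker_eq] at hfg
  have : Module.Finite A (LinearMap.range φ) := Module.Finite.iff_fg.2 hfg
  exact Module.Finite.equiv (LinearEquiv.ofInjective φ hφ).symm

theorem finitePresentation_bc [M.IsQuasicoherent] {E F : EtOver X} (g : F ⟶ E) (hE : Aff E) (hF : Aff F)
    (hfp : Module.FinitePresentation (Rg F) (SA M (𝟙 F))) :
    Module.FinitePresentation (RA g) (RA g ⊗[Rg E] SA M (𝟙 E)) := by
  letI : Module (RA g) (SA M (𝟙 F)) := Module.compHom (SA M (𝟙 F)) (show RA g →+* Rg F from RingHom.id _)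
  have : Module.FinitePresentation (RA g) (SA M (𝟙 F)) := hfp
  let e : SA M g ≃ₗ[RA g] SA M (𝟙 F) := { toF g with map_smul' := toF_smul g }
  exact Module.FinitePresentation.of_equiv (e.symm.trans (bcEquiv (good_of_qcoh M) g hE hF).symm)

/-- Sections of a module of finite presentation over affine objects are finitely presented. -/
theorem fp_SA [hM : M.IsFinitePresentation] (E : EtOver X) [hE : Aff E] :
    Module.FinitePresentation (Rg E) (SA M (𝟙 E)) := by
  have hq : M.IsQuasicoherent := inferInstance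
  obtain ⟨σ, hσ⟩ := hM.exists_quasicoherentData
  obtain ⟨E', p, κ, _, Ek, j, -, hp, hEk, hR, hcov, -⟩ := exists_affine_cover (σ.coversTop E)
  refine finitePresentation_of_cover (fun k => j k ≫ p) hEk (fun x => exists_points_cover p hp hcov x) fun k => ?_
  obtain ⟨i, ⟨ψ⟩⟩ := (Sieve.mem_ofObjects_iff _ _).1 (hR k)
  obtain ⟨N, _, _, ι, hι, -, hN⟩ :=
    exists_bijective_θ (M := M.over (σ.X i)) (E₀ := (Over.mk ψ : Over (σ.X i))) (σ.presentation i) (hEk k)
  have := hN (hσ.isFinite_presentation i)
  let ι' : N →ₗ[Rg (Over.mk ψ : Over (σ.X i)).left] SA M (𝟙 (Over.mk ψ : Over (σ.X i)).left) :=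
    { toFun := fun n => ι n, map_add' := map_add ι, map_smul' := map_smul ι }
  have h2 : Module.FinitePresentation (Rg (Over.mk ψ : Over (σ.X i)).left) (SA M (𝟙 (Over.mk ψ : Over (σ.X i)).left)) :=
    Module.FinitePresentation.of_equiv (LinearEquiv.ofBijective ι' hι)
  exact finitePresentation_bc (j k ≫ p) hE (hEk k) h2

theorem isFiniteType_iff [M.IsQuasicoherent] :
    M.IsFiniteType ↔ ∀ E : EtOver X, Aff E → Module.Finite (Rg E) (SA M (𝟙 E)) :=
  ⟨fun _ E _ => finite_SA E, isFiniteType_of_good (good_of_qcoh M)⟩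

theorem isFinitePresentation_iff [M.IsQuasicoherent] :
    M.IsFinitePresentation ↔ ∀ E : EtOver X, Aff E → Module.FinitePresentation (Rg E) (SA M (𝟙 E)) :=
  ⟨fun _ E _ => fp_SA E, isFinitePresentation_of_good (good_of_qcoh M)⟩

end Groth.Agent.AlgSpMod
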