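import Groth.Agent.AlgSpMod.FiniteTypeUnion
import Mathlib.CategoryTheory.Abelian.GrothendieckCategory.Subobject

/-!
# The filtered union of the submodules of finite type
-/

set_option autoImplicit false
set_option backward.isDefEq.respectTransparency false
set_option backward.isDefEq.respectTransparency.types false
set_option maxHeartbeats 1000000

universe u

open CategoryTheory CategoryTheory.Limits AlgebraicGeometry Opposite AlgSp
open Groth.Agent Groth.Agent.AlgSpLib

namespace Groth.Agent.AlgSpMod

variable {S : Scheme.{u}} {X : Sp S}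

theorem isFiniteType_of_iso {M N : ModEt X} (e : M ≅ N) [M.IsQuasicoherent] [M.IsFiniteType] :
    N.IsQuasicoherent ∧ N.IsFiniteType := by
  have hN : Good N := (good_of_qcoh M).of_iso e
  have := hN.isQuasicoherent
  refine ⟨inferInstance, isFiniteType_of_good hN fun E hE => ?_⟩
  have := finite_SA (M := M) E
  exact finite_of_epi e.hom (good_of_qcoh M) hN E hE

/-- Two submodules of finite type lie in a third one. -/
theorem exists_finiteType_sup {M : ModEt X} (hM : Good M) {N₁ N₂ : ModEt X} (ι₁ : N₁ ⟶ M) (ι₂ : N₂ ⟶ M)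
    [N₁.IsQuasicoherent] [N₁.IsFiniteType] [N₂.IsQuasicoherent] [N₂.IsFiniteType] :
    ∃ (N : ModEt X) (ι : N ⟶ M) (a : N₁ ⟶ N) (b : N₂ ⟶ N), Mono ι ∧ N.IsQuasicoherent ∧ N.IsFiniteType ∧
      a ≫ ι = ι₁ ∧ b ≫ ι = ι₂ := by
  let C := ShortComplex.mk (biprod.inl : N₁ ⟶ N₁ ⊞ N₂) biprod.snd biprod.inl_snd
  have hP : Good (N₁ ⊞ N₂) := good_of_extension C
    (ShortComplex.Splitting.ofHasBinaryBiproduct N₁ N₂).shortExact (good_of_qcoh N₁) (good_of_qcoh N₂)
  let d := biprod.desc ι₁ ι₂
  let π := cokernel.π d
  let p := kernel.lift π d (cokernel.condition _)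
  have : Epi p := (ShortComplex.cokernelSequence_exact d).epi_kernelLift
  have hK : Good (kernel π) := good_kernel π hM (good_cokernel d hP hM)
  refine ⟨kernel π, kernel.ι π, biprod.inl ≫ p, biprod.inr ≫ p, inferInstance, hK.isQuasicoherent,
    @isFiniteType_of_good _ _ _ hK fun E hE => ?_, ?_, ?_⟩
  · have := finite_SA (M := N₁) E
    have := finite_SA (M := N₂) E
    exact finite_of_total biprod.fst biprod.inl biprod.snd biprod.inr biprod.total p E
      (surjective_of_epi p hP hK hE)
  · rw [Category.assoc, kernel.lift_ι, biprod.inl_desc]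
  · rw [Category.assoc, kernel.lift_ι, biprod.inr_desc]

/-- A module is the colimit of its filtered system of submodules of finite type. -/
theorem finiteType_subobjects [QuasiSeparatedSpace ↥S] (hX : IsAlgSpace X) (hqc : IsQuasiCompactSp X)
    (hqs : IsQuasiSeparatedSp X) (M : ModEt X) [M.IsQuasicoherent] (P : ObjectProperty (Subobject M))
    (hP : P = fun N => (Subobject.underlying.obj N).IsQuasicoherent ∧ (Subobject.underlying.obj N).IsFiniteType)
    (ι : P.ι ⋙ Subobject.underlying ⟶ (Functor.const P.FullSubcategory).obj M)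
    (hι : ∀ N : P.FullSubcategory, ι.app N = N.obj.arrow) :
    IsFiltered P.FullSubcategory ∧ Nonempty (IsColimit (Cocone.mk M ι)) := by
  have := isGrothendieckAbelian_modEt X
  have hM : Good M := good_of_qcoh M
  have hmk : ∀ (N : ModEt X) (i : N ⟶ M) [Mono i] [N.IsQuasicoherent] [N.IsFiniteType], P (Subobject.mk i) :=
    fun N i _ _ _ => by
      rw [hP]
      exact isFiniteType_of_iso (Subobject.underlyingIso i).symm
  have hmem : ∀ {m : ℕ} (V : Fin m → EtOver X) (_ : ∀ i, IsAffine (V i).obj.left.left)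
      (s : ∀ i, sectModEt M (V i)), ∃ (N : ModEt X) (k : N ⟶ M) (_ : Mono k), P (Subobject.mk k) ∧
      ∀ i, ∃ t, k.val.app (op (V i)) t = s i := fun V hV s => by
    obtain ⟨N, k, hk, -, h₁, h₂, hs⟩ := exists_finiteType_sub hX hqc hqs hM V hV s
    exact ⟨N, k, hk, hmk N k, hs⟩
  have : Nonempty P.FullSubcategory := by
    obtain ⟨N, k, hk, h, -⟩ := hmem (m := 0) Fin.elim0 (fun i => i.elim0) (fun i => i.elim0)
    exact ⟨⟨Subobject.mk k, h⟩⟩
  have : ∀ j k : P.FullSubcategory, Subsingleton (j ⟶ k) := fun j k =>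
    ⟨fun a b => ObjectProperty.hom_ext _ (Subsingleton.elim _ _)⟩
  have hf : IsFiltered P.FullSubcategory :=
    { cocone_objs := fun A B => by
        have hA := hP.le _ A.property
        have hB := hP.le _ B.property
        obtain ⟨_, _⟩ := hA
        obtain ⟨_, _⟩ := hB
        obtain ⟨N, i, a, b, hi, _, _, ha, hb⟩ :=
          exists_finiteType_sup hM A.obj.arrow B.obj.arrow
        exact ⟨⟨Subobject.mk i, hmk N i⟩, ObjectProperty.homMk (homOfLE (Subobject.le_mk_of_comm a ha)),
          ObjectProperty.homMk (homOfLE (Subobject.le_mk_of_comm b hb)), trivial⟩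
      cocone_maps := fun A B f g => ⟨B, 𝟙 B, Subsingleton.elim _ _⟩ }
  refine ⟨hf, ?_⟩
  have : WellPowered.{u + 1} (ModEt X) := IsGrothendieckAbelian.wellPowered.{u + 1} _
  have : HasColimits.{u + 1} (ModEt X) := inferInstance
  have : EssentiallySmall.{u + 1} P.FullSubcategory := essentiallySmall_of_fully_faithful P.ι
  have : HasWidePullbacks.{u + 1} (ModEt X) := inferInstance
  have : HasCoproducts.{u + 1} (ModEt X) := inferInstance
  have : HasImages (ModEt X) := inferInstance
  have : InitialMonoClass (ModEt X) := inferInstance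
  letI cl : CompleteLattice (Subobject M) := inferInstance
  let e := (equivSmallModel.{u + 1} P.FullSubcategory).symm
  have : IsFiltered (SmallModel.{u + 1} P.FullSubcategory) := IsFiltered.of_equivalence e.symm
  let F : SmallModel.{u + 1} P.FullSubcategory ⥤ MonoOver M := e.functor ⋙ P.ι ⋙ Subobject.representative
  let c : Cocone (F ⋙ MonoOver.forget M) :=
    { pt := Over.mk (𝟙 M)
      ι := { app := fun j => Over.homMk (F.obj j).obj.hom (Category.comp_id _)
             naturality := fun j k g => Over.OverMorphism.ext (by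
               show ((MonoOver.forget M).map (F.map g)).left ≫ (F.obj k).obj.hom = (F.obj j).obj.hom ≫ 𝟙 M
               rw [Category.comp_id]
               exact Over.w _) } }
  have : Mono c.pt.hom := inferInstanceAs (Mono (𝟙 M))
  have hsup : Subobject.mk c.pt.hom = ⨆ j, Subobject.mk (F.obj j).obj.hom := by
    set T := ⨆ j, Subobject.mk (F.obj j).obj.hom with hT
    have hTle : ∀ j, Subobject.mk (F.obj j).obj.hom ≤ T := fun j =>
      le_iSup (fun j => Subobject.mk (F.obj j).obj.hom) j
    have : Epi T.arrow := epi_of_forall_affine T.arrow fun V hV s => by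
      obtain ⟨N, k, hk, hPk, hs⟩ := hmem (m := 1) (fun _ => V) (fun _ => hV) (fun _ => s)
      obtain ⟨t, ht⟩ := hs 0
      let j : P.FullSubcategory := ⟨Subobject.mk k, hPk⟩
      have h₁ : Subobject.mk k ≤ (e.functor.obj (e.inverse.obj j)).obj :=
        leOfHom ((e.counitIso.app j).inv).hom
      have h₂ : (e.functor.obj (e.inverse.obj j)).obj ≤ T :=
        (Subobject.mk_arrow _).symm.le.trans (hTle (e.inverse.obj j))
      exact ⟨(Subobject.ofMkLE k T (h₁.trans h₂)).val.app (op V) t,
        congr(($(Subobject.ofMkLE_arrow (f := k) (h₁.trans h₂))).val.app (op V) t).trans ht⟩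
    have : IsIso T.arrow := isIso_of_mono_of_epi _
    exact (Subobject.mk_eq_top_of_isIso (𝟙 M)).trans (Subobject.eq_top_of_isIso_arrow T).symm
  refine ⟨(IsColimit.whiskerEquivalenceEquiv e).symm ?_⟩
  exact IsColimit.ofIsoColimit (IsGrothendieckAbelian.isColimitMapCoconeOfSubobjectMkEqISup F c hsup)
    (Cocone.ext (Iso.refl _) fun j => (Category.comp_id _).trans (hι (e.functor.obj j)).symm)

end Groth.Agent.AlgSpMod
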