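import Groth.Agent.AlgSpMod.CoherentUnion
import Groth.Agent.AlgSpDec2.ElemSq

/-!
# Quasi-coherent modules on qcqs spaces are unions of submodules of finite type

Along a chain of elementary steps `A ⊂ A ∪ f(V)` a submodule of finite type over `A` is cut down,
without changing it over `A`, to one of finite type over `A ∪ f(V)` containing given sections.
-/

set_option autoImplicit false
set_option backward.isDefEq.respectTransparency false
set_option backward.isDefEq.respectTransparency.types false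
set_option maxHeartbeats 1000000

universe u

open CategoryTheory CategoryTheory.Limits AlgebraicGeometry Opposite AlgSp TensorProduct
open Groth.Agent Groth.Agent.AlgSpLib Groth.Agent.AlgSpDec Groth.Agent.AlgSpPts Groth.Agent.AlgSpDec2

namespace Groth.Agent.AlgSpMod

namespace FtUnion

variable {S : Scheme.{u}} {X : Sp S}

/-- All points of an object lie in a set of points. -/
def Over' (A : Set (Points X)) (C : EtOver X) : Prop := ∀ v, Points.ofPt C.obj.hom v ∈ A

/-- A morphism killing the sections over charts covering a set kills the sections over objects above it. -/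
theorem killed_over {N Q : ModEt X} (ψ : N ⟶ Q) (hN : Good N) {A : Set (Points X)}
    (t : Finset {E : EtOver X // Aff E}) (ht : A ⊆ ⋃ E ∈ t, Set.range (Points.ofPt E.1.obj.hom))
    (hψ : ∀ E ∈ t, ∀ w : SA N (𝟙 E.1), appSA ψ (𝟙 E.1) w = 0) (C : EtOver X) (hC : Aff C) (hCA : Over' A C)
    (z : sectModEt N C) : ψ.val.app (op C) z = 0 := by
  have := hC
  have key : ∀ v : ↥C.obj.left.left, ∃ (E : {E : EtOver X // Aff E}) (F : EtOver X) (g₁ : F ⟶ C) (_ : F ⟶ E.1),
      E ∈ t ∧ Aff F ∧ v ∈ Set.range g₁.hom.left.left := fun v => by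
    obtain ⟨E, hE, w, hw⟩ := Set.mem_iUnion₂.1 (ht (hCA v))
    have := E.2
    obtain ⟨F, g₁, g₂, y, hF, hy, -⟩ := exists_common_affine v w hw.symm
    exact ⟨E, F, g₁, g₂, hE, hF, y, hy⟩
  choose E F g₁ g₂ hE hF hv using key
  refine ext_of_cover' Q g₁ (AlgSp.ofArrows_mem_etTop _ _ fun v => ⟨v, hv v⟩) fun v => ?_
  refine (PresheafOfModules.naturality_apply ψ.val (g₁ v).op z).symm.trans (Eq.trans ?_ (map_zero _).symm)
  obtain ⟨w, hw⟩ := (hN.bij (g₂ v) (E v).2 (hF v)).2 (show SA N (g₂ v) from N.val.map (g₁ v).op z)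
  rw [show N.val.map (g₁ v).op z = bc N (g₂ v) w from hw.symm]
  clear hw
  induction w with
  | zero => exact (congrArg (ψ.val.app (op (F v))) (map_zero _)).trans (map_zero _)
  | tmul a x =>
    refine (congrArg (ψ.val.app (op (F v))) (bc_tmul N (g₂ v) a x)).trans ?_
    refine ((ψ.val.app (op (F v))).hom.map_smul a _).trans ?_
    have : ψ.val.app (op (F v)) (N.val.map (g₂ v).op x) = 0 := by
      refine (PresheafOfModules.naturality_apply ψ.val (g₂ v).op x).trans ?_
      exact (congrArg (Q.val.map (g₂ v).op) (hψ _ (hE v) x)).trans (map_zero _)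
    exact (congrArg (fun y => a • y) this).trans (smul_zero _)
  | add a b ha hb =>
    refine (congrArg (ψ.val.app (op (F v))) (map_add _ a b)).trans ?_
    exact (map_add _ _ _).trans ((congrArg₂ (· + ·) ha hb).trans (add_zero 0))

open CohUnion

theorem map_map_inv {Z : Sp S} (N : ModEt Z) {C C' : EtOver Z} (k : C ⟶ C') [IsIso k]
    (z : sectModEt N C) : N.val.map k.op (N.val.map (inv k).op z) = z := by
  refine (congr($(N.val.presheaf.map_comp (inv k).op k.op) z)).symm.trans ?_
  have hk : (inv k).op ≫ k.op = 𝟙 (op C) := by rw [← op_comp, IsIso.hom_inv_id, op_id]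
  exact (congrArg (fun m => N.val.presheaf.map m z) hk).trans congr($(N.val.presheaf.map_id (op C)) z)

/-- A section over a chart injective above a set is killed by the obstruction as soon as it is killed on
the diagonal and over the set. -/
theorem obs_self (E : EtOver X) {N : ModEt X} {κ : Type (u + 1)} (ℓ : κ → sectModEt N E) {A B : Set (Points X)}
    (hA : IsOpen A) (hEB : Over' B E) (hinj : ElemChain.Inj E.obj.hom (B \ A))
    (hψ : ∀ C, Aff C → Over' A C → ∀ z, (obs E N ℓ).val.app (op C) z = 0) (y : sectModEt N E)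
    (hy : (cokernel.π (genMap E N ℓ)).val.app (op (top₀ E)) (N.val.map (toE E (top₀ E)).op y) = 0) :
    (obs E N ℓ).val.app (op E) y = 0 := by
  let ad := EtPullRestrict.adj E.property.1 (etC E)
  let π := cokernel.π (genMap E N ℓ)
  let P := EtOver.bcObj E.property.1 E
  let δ : top₀ E ⟶ P := ad.homEquiv (top₀ E) E (toE E (top₀ E))
  refine (obs_app_eq E N ℓ E y).trans ?_
  let O : P.obj.left.left.Opens :=
    ⟨Points.ofPt (P.obj.hom ≫ E.obj.hom) ⁻¹' A, hA.preimage (Points.continuous_ofPt _)⟩
  choose W hW hxW hWO using fun x : O => exists_isAffineOpen_mem_and_subset (U := O) (x := x.1) x.2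
  let Ek : Option O → EtOver ((yon S).obj E.obj.left) := fun k => k.elim (top₀ E) fun x => etOpen P (W x)
  let h : ∀ k, Ek k ⟶ P := fun k => match k with
    | none => δ
    | some x => etOpenι P (W x)
  refine ext_of_cover' _ h (AlgSp.ofArrows_mem_etTop _ _ fun p => ?_) fun k => ?_
  · by_cases hp : p ∈ O
    · exact ⟨some ⟨p, hp⟩, (range_etOpenι P (W ⟨p, hp⟩)).ge (hxW ⟨p, hp⟩)⟩
    · refine ⟨none, ?_⟩
      show p ∈ Set.range δ.hom.left.left
      have h₁ : δ.hom.left ≫ E.property.1.fst' E.obj.hom = 𝟙 E.obj.left := (yon S).map_injective (by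
        rw [Functor.map_comp, Functor.relativelyRepresentable.map_fst']
        exact (EtOver.w δ).trans ((yon S).map_id _).symm)
      have h₂ : δ.hom.left ≫ E.property.1.snd E.obj.hom = 𝟙 E.obj.left := by
        simp only [δ, ad, EtPullRestrict.adj, Adjunction.mkOfHomEquiv_homEquiv]
        refine (E.property.1.lift_snd _ _ _).trans ?_
        show (yon S).preimage (𝟙 _) = 𝟙 _
        rw [Functor.preimage_id]
      let T := Over.mk ((E.property.1.pullback E.obj.hom).left.fromSpecResidueField p ≫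
        (E.property.1.pullback E.obj.hom).hom)
      let l : T ⟶ E.property.1.pullback E.obj.hom := ElemChain.resPt p
      haveI : IsReduced T.left := inferInstanceAs (IsReduced (Spec _))
      haveI : Subsingleton ↥T.left := inferInstanceAs
        (Subsingleton (PrimeSpectrum ((E.property.1.pullback E.obj.hom).left.residueField p)))
      have heq : l ≫ E.property.1.fst' E.obj.hom = l ≫ E.property.1.snd E.obj.hom := by
        refine hinj T _ _ inferInstance inferInstance ?_ fun t => ?_
        · rw [Functor.map_comp, Functor.map_comp, Category.assoc, Category.assoc,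
            Functor.relativelyRepresentable.map_fst', E.property.1.w]
        · refine ⟨hEB _, ?_⟩
          rw [← ofPt_comp, Functor.map_comp, Category.assoc, Functor.relativelyRepresentable.map_fst', ofPt_comp,
            show l.left t = p from Scheme.fromSpecResidueField_apply p t]
          exact hp
      obtain ⟨t₀⟩ : Nonempty ↥T.left :=
        ⟨IsLocalRing.closedPoint ((E.property.1.pullback E.obj.hom).left.residueField p)⟩
      have := ElemChain.mem_range_diag E.property h₁ h₂ l heq t₀
      rwa [show l.left t₀ = p from Scheme.fromSpecResidueField_apply p t₀] at this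
  refine (PresheafOfModules.naturality_apply π.val (h k).op _).symm.trans (Eq.trans ?_ (map_zero _).symm)
  refine Eq.trans (congrArg (π.val.app (op (Ek k))) (congr($(N.val.presheaf.map_comp
    (ad.counit.app E).op ((EtOver.postcomp E.obj.hom (etC E)).map (h k)).op) y)).symm) ?_
  show π.val.app (op (Ek k)) (N.val.map ((EtOver.postcomp E.obj.hom (etC E)).map (h k) ≫ ad.counit.app E).op y) = 0
  cases k with
  | none =>
    rw [show (EtOver.postcomp E.obj.hom (etC E)).map (h none) ≫ ad.counit.app E = toE E (top₀ E) from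
      (ad.homEquiv_counit _ _ δ).symm.trans (Equiv.symm_apply_apply _ _)]
    exact hy
  | some x =>
    let C := etOpen P (W x)
    let C' := (EtOver.postcomp E.obj.hom (etC E)).obj C
    let z : sectModEt N C' :=
      N.val.map ((EtOver.postcomp E.obj.hom (etC E)).map (h (some x)) ≫ ad.counit.app E).op y
    have hz : (obs E N ℓ).val.app (op C') z = 0 := hψ C' (hW x) (fun v => by
      show Points.ofPt ((((yon S).map _) ≫ P.obj.hom) ≫ E.obj.hom) v ∈ A
      rw [Category.assoc, ofPt_comp]
      exact hWO x v.2) z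
    rw [obs_app_eq] at hz
    refine Eq.trans ?_ ((PresheafOfModules.naturality_apply π.val (ad.unit.app C).op
      (N.val.map (ad.counit.app C').op z)).trans
        ((congrArg ((quot₀ E N ℓ).val.map (ad.unit.app C).op) hz).trans (map_zero _)))
    refine congrArg (π.val.app (op C)) (Eq.trans ?_ (congr($(N.val.presheaf.map_comp
      (ad.counit.app C').op ((EtOver.postcomp E.obj.hom (etC E)).map (ad.unit.app C)).op) z)))
    show z = N.val.map ((EtOver.postcomp E.obj.hom (etC E)).map (ad.unit.app C) ≫ ad.counit.app C').op z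
    exact ((congrArg (fun k => N.val.map k.op z) (ad.left_triangle_components C)).trans
      congr($(N.val.presheaf.map_id (op C')) z)).symm

/-- Restricted to the diagonal the generators are killed. -/
theorem genBack_top (E : EtOver X) {N : ModEt X} {κ : Type (u + 1)} (ℓ : κ → sectModEt N E)
    (z : SA (SheafOfModules.free (R := OEtRing ((yon S).obj E.obj.left)) κ) (𝟙 (top₀ E))) :
    (cokernel.π (genMap E N ℓ)).val.app (op (top₀ E)) (N.val.map (toE E (top₀ E)).op (genBack E N ℓ z)) = 0 := by
  rw [show N.val.map (toE E (top₀ E)).op (genBack E N ℓ z) =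
    (genMap E N ℓ).val.app (op (top₀ E)) z from map_map_inv N (toE E (top₀ E)) _]
  exact congr(($(cokernel.condition (genMap E N ℓ))).val.app (op (top₀ E)) z)

/-- If the generators are killed the kernel of the obstruction is finite over the chart. -/
theorem finite_kernel_chart [QuasiSeparatedSpace ↥S] (E : EtOver X) [Aff E] {N : ModEt X} {κ : Type (u + 1)} [Finite κ]
    (ℓ : κ → sectModEt N E) (hN : Good N)
    (hb : ∀ z, (obs E N ℓ).val.app (op E) (genBack E N ℓ z) = 0) :
    Module.Finite (Rg E) (SA (kernel (obs E N ℓ)) (𝟙 E)) := by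
  let ψ := obs E N ℓ
  let b := genBack E N ℓ
  let t₀ : Set (SA (SheafOfModules.free (R := OEtRing ((yon S).obj E.obj.left)) κ) (𝟙 (top₀ E))) :=
    Set.range fun i : κ => (SheafOfModules.ιFree i).val.app (op (top₀ E)) (1 : Rg (top₀ E))
  let j := appSA (kernel.ι ψ) (𝟙 E)
  let T : Submodule (Rg E) (SA N (𝟙 E)) := Submodule.span _ (b '' t₀)
  have : Module.Finite (Rg E) T := Module.Finite.span_of_finite _ ((Set.finite_range _).image _)
  have h₁ : ∀ y, j y ∈ T := fun y => by
    obtain ⟨z, hz⟩ := exists_preimage_of_cokernel (genMap E N ℓ) (good_of_qcoh _)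
      (Good.restr (etC E) N hN) (W := top₀ E) ‹Aff E› _ (obs_app_zero E N ℓ
        (congr(($(kernel.condition ψ)).val.app (op E) (show sectModEt (kernel ψ) E from y))))
    have hy' : j y = b z :=
      ((congrArg (N.val.map (inv (toE E (top₀ E))).op) hz).trans (map_inv_map N (toE E (top₀ E)) _)).symm
    rw [hy']
    exact mem_span_image _ b (genBack_smul E N ℓ) t₀ (mem_span_free κ (top₀ E) z)
  have h₂ : ∀ z, b z ∈ LinearMap.range j := fun z => by
    obtain ⟨y, hy⟩ := ((left_exact (ShortComplex.mk (kernel.ι ψ) ψ (kernel.condition ψ))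
      (ShortComplex.kernelSequence_exact ψ) (inferInstanceAs (Mono (kernel.ι ψ))) (𝟙 E)).2
        (show SA N (𝟙 E) from b z)).1 (hb z)
    exact ⟨y, hy⟩
  have hjT : LinearMap.range j = T := by
    refine le_antisymm ?_ (Submodule.span_le.2 ?_)
    · rintro _ ⟨y, rfl⟩
      exact h₁ y
    · rintro _ ⟨z, -, rfl⟩
      exact h₂ z
  exact Module.Finite.equiv
    ((LinearEquiv.ofInjective j (appSA_injective (kernel.ι ψ) _)).trans (LinearEquiv.ofEq _ _ hjT)).symm

variable (A : Set (Points X))

/-- A submodule of `N₀` as large over `A` which is of finite type over charts covering `B`. -/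
structure Sub {N₀ : ModEt X} (B : Set (Points X)) {m : ℕ} (V : Fin m → EtOver X)
    (s : ∀ i, sectModEt N₀ (V i)) where
  N : ModEt X
  k : N ⟶ N₀
  mono : Mono k
  good : Good N
  mem : ∀ i, ∃ x, k.val.app (op (V i)) x = s i
  full : ∀ C : EtOver X, Aff C → Over' A C → Function.Surjective (appSA k (𝟙 C))
  charts : Finset {E : EtOver X // Aff E}
  le : ∀ E ∈ charts, Over' B E.1
  cover : B ⊆ ⋃ E ∈ charts, Set.range (Points.ofPt E.1.obj.hom)
  finite : ∀ E ∈ charts, Module.Finite (Rg E.1) (SA N (𝟙 E.1))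

variable [QuasiSeparatedSpace ↥S] (hX : IsAlgSpace X) (hqs : IsQuasiSeparatedSp X)

include hX hqs in
/-- One step of the chain. -/
theorem step {N₀ : ModEt X} {m : ℕ} {V : Fin m → EtOver X} (hV : ∀ i, Aff (V i))
    {s : ∀ i, sectModEt N₀ (V i)} {B C : Set (Points X)} (hB : IsOpen B) (hAB : A ⊆ B)
    (hstep : ElemChain.Step X B C) (D : Sub A B V s) : Nonempty (Sub A C V s) := by
  classical
  obtain ⟨W, f, hW, hf, hC, hinj⟩ := hstep
  let E : EtOver X := EtOver.mk f hf
  have : Aff E := hW
  have hN := D.good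
  choose G hG using fun e : {e // e ∈ D.charts} =>
    (haveI := D.finite e.1 e.2; Module.Finite.fg_top (R := Rg e.1.1) (M := SA D.N (𝟙 e.1.1)))
  choose x hx using D.mem
  let J := Fin m ⊕ Σ e : {e // e ∈ D.charts}, {g // g ∈ G e}
  let eJ := (Fintype.equivFin J).symm
  let V' : J → EtOver X := Sum.elim V fun j => j.1.1.1
  let s' : ∀ j : J, sectModEt D.N (V' j) := fun j => match j with
    | .inl i => x i
    | .inr j => j.2.1
  have hV' : ∀ j, Aff (V' j) := by
    rintro (i | j)
    · exact hV i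
    · exact j.1.1.2
  obtain ⟨κ, hκ, ℓ, hℓ⟩ := exists_obs_eq_zero E D.N hX hqs hN (fun i => V' (eJ i)) (fun i => hV' _)
    (fun i => s' (eJ i))
  have hℓ' : ∀ j, (obs E D.N ℓ).val.app (op (V' j)) (s' j) = 0 := fun j => by
    obtain ⟨i, rfl⟩ := eJ.surjective j
    exact hℓ i
  let ψ := obs E D.N ℓ
  have hgood := good_obs_target E D.N ℓ hX hqs hN
  have hchart : ∀ e ∈ D.charts, ∀ w : SA D.N (𝟙 e.1), appSA ψ (𝟙 e.1) w = 0 := fun e he w => by
    have hw : w ∈ Submodule.span (Rg e.1) (G ⟨e, he⟩ : Set (SA D.N (𝟙 e.1))) := (hG ⟨e, he⟩).symm ▸ trivial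
    induction hw using Submodule.span_induction with
    | mem w hw => exact hℓ' (.inr ⟨⟨e, he⟩, ⟨w, hw⟩⟩)
    | zero => exact map_zero _
    | add a b _ _ ha hb => rw [map_add, ha, hb, add_zero]
    | smul r a _ ha => rw [map_smul, ha, smul_zero]
  have hover := killed_over ψ hN D.charts D.cover hchart
  have hker : ∀ {C' : EtOver X} (w : SA D.N (𝟙 C')), appSA ψ (𝟙 C') w = 0 →
      ∃ y, appSA (kernel.ι ψ) (𝟙 C') y = w := fun {C'} w hw => by
    obtain ⟨y, hy⟩ := ((left_exact (ShortComplex.mk (kernel.ι ψ) ψ (kernel.condition ψ))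
      (ShortComplex.kernelSequence_exact ψ) (inferInstanceAs (Mono (kernel.ι ψ))) (𝟙 C')).2 w).1 hw
    exact ⟨y, hy⟩
  have := D.mono
  refine ⟨{
    N := kernel ψ
    k := kernel.ι ψ ≫ D.k
    mono := mono_comp _ _
    good := good_kernel ψ hN hgood
    mem := fun i => ?_
    full := fun C' hC' hA' w => ?_
    charts := insert ⟨E, hW⟩ D.charts
    le := fun e he => ?_
    cover := ?_
    finite := fun e he => ?_ }⟩
  · obtain ⟨y, hy⟩ := hker (show SA D.N (𝟙 (V i)) from x i) (hℓ' (.inl i))
    exact ⟨y, (congrArg (D.k.val.app (op (V i))) hy).trans (hx i)⟩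
  · obtain ⟨w', rfl⟩ := D.full C' hC' hA' w
    obtain ⟨y, hy⟩ := hker w' (hover C' hC' (fun v => hAB (hA' v)) (show sectModEt D.N C' from w'))
    exact ⟨y, (congrArg (appSA D.k (𝟙 C')) hy :)⟩
  · intro v
    rw [hC]
    rcases Finset.mem_insert.1 he with rfl | he
    · exact Or.inr ⟨v, rfl⟩
    · exact Or.inl (D.le e he v)
  · rw [hC, Finset.set_biUnion_insert]
    exact Set.union_subset (D.cover.trans Set.subset_union_right) Set.subset_union_left
  · rcases Finset.mem_insert.1 he with rfl | he
    · exact finite_kernel_chart E ℓ hN fun z => obs_self E ℓ hB (fun v => by rw [hC]; exact Or.inr ⟨v, rfl⟩)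
        hinj hover _ (genBack_top E ℓ z)
    · haveI := D.finite e he
      let j := appSA (kernel.ι ψ) (𝟙 e.1)
      exact Module.Finite.equiv (LinearEquiv.ofBijective j
        ⟨appSA_injective (kernel.ι ψ) _, fun w => hker w (hchart e he w)⟩).symm

end FtUnion

variable {S : Scheme.{u}} {X : Sp S} [QuasiSeparatedSpace ↥S]

/-- A module of finite type over a quasi-compact open is cut down to one of finite type without change there,
keeping given sections. -/
theorem exists_finiteType_sub_extend (hX : IsAlgSpace X) (hqc : IsQuasiCompactSp X) (hqs : IsQuasiSeparatedSp X)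
    {N₀ : ModEt X} (hM : Good N₀) {A : Set (Points X)} (hA : IsOpen A) (hAc : IsCompact A)
    (t : Finset {E : EtOver X // Aff E}) (hle : ∀ E ∈ t, FtUnion.Over' A E.1)
    (hcov : A ⊆ ⋃ E ∈ t, Set.range (Points.ofPt E.1.obj.hom))
    (hfin : ∀ E ∈ t, Module.Finite (Rg E.1) (SA N₀ (𝟙 E.1)))
    {m : ℕ} (V : Fin m → EtOver X) (hV : ∀ i, Aff (V i)) (s : ∀ i, sectModEt N₀ (V i)) :
    ∃ (N : ModEt X) (k : N ⟶ N₀), Mono k ∧ Good N ∧ N.IsQuasicoherent ∧ N.IsFiniteType ∧
      (∀ C : EtOver X, Aff C → FtUnion.Over' A C → Function.Surjective (appSA k (𝟙 C))) ∧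
      ∀ i, ∃ x, k.val.app (op (V i)) x = s i := by
  have main : ∀ B, Relation.ReflTransGen (ElemChain.Step X) A B →
      IsOpen B ∧ IsCompact B ∧ A ⊆ B ∧ Nonempty (FtUnion.Sub A B V s) := by
    intro B hB
    induction hB with
    | refl =>
      exact ⟨hA, hAc, subset_rfl, ⟨⟨N₀, 𝟙 N₀, inferInstance, hM, fun i => ⟨s i, rfl⟩,
        fun C _ _ w => ⟨w, rfl⟩, t, hle, hcov, hfin⟩⟩⟩
    | tail _ hstep ih =>
      obtain ⟨hBo, hBc, hle', ⟨D⟩⟩ := ih
      obtain ⟨hCo, hCc, hBC⟩ := ElemChain.step_compact hstep hBo hBc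
      exact ⟨hCo, hCc, hle'.trans hBC, FtUnion.step A hX hqs hV hBo hle' hstep D⟩
  obtain ⟨-, -, -, ⟨D⟩⟩ := main _ (ElemChain.reach_univ hX hqc hqs hA hAc)
  have := D.good.isQuasicoherent
  refine ⟨D.N, D.k, D.mono, D.good, inferInstance, isFiniteType_of_good D.good fun U hU => ?_, D.full, D.mem⟩
  have := hU
  have key : ∀ v : ↥U.obj.left.left, ∃ (E : {E : EtOver X // Aff E}) (F : EtOver X) (g₁ : F ⟶ U) (_ : F ⟶ E.1),
      E ∈ D.charts ∧ Aff F ∧ v ∈ Set.range g₁.hom.left.left := fun v => by
    obtain ⟨E, hE, w, hw⟩ := Set.mem_iUnion₂.1 (D.cover (Set.mem_univ (Points.ofPt U.obj.hom v)))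
    have := E.2
    obtain ⟨F, g₁, g₂, z, hF, hz, -⟩ := exists_common_affine v w hw.symm
    exact ⟨E, F, g₁, g₂, hE, hF, z, hz⟩
  choose E F g₁ g₂ hE hF hv using key
  have : IsAffine U.obj.left.left := hU
  obtain ⟨t', ht'⟩ := isCompact_univ.elim_finite_subcover (fun v => Set.range (g₁ v).hom.left.left)
    (fun v => by
      have := EtOver.etale_left (g₁ v)
      exact (g₁ v).hom.left.left.isOpenMap.isOpen_range)
    (fun x _ => Set.mem_iUnion.2 ⟨x, hv x⟩)
  refine finite_of_cover (fun v : t' => g₁ v.1) (fun v => hF v.1) (fun x => ?_) fun v => ?_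
  · obtain ⟨v, hv', hx⟩ := Set.mem_iUnion₂.1 (ht' (Set.mem_univ x))
    exact ⟨⟨v, hv'⟩, hx⟩
  · haveI := D.finite (E v.1) (hE v.1)
    have := finite_of_bc_iso D.N D.good (g₂ v.1) (E v.1).2 (hF v.1)
    exact finite_bc (g₁ v.1) hU (hF v.1)

/-- Finitely many sections of a quasi-coherent module lie in a submodule of finite type. -/
theorem exists_finiteType_sub (hX : IsAlgSpace X) (hqc : IsQuasiCompactSp X) (hqs : IsQuasiSeparatedSp X)
    {M : ModEt X} (hM : Good M) {m : ℕ} (V : Fin m → EtOver X) (hV : ∀ i, Aff (V i))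
    (s : ∀ i, sectModEt M (V i)) :
    ∃ (N : ModEt X) (ι : N ⟶ M), Mono ι ∧ Good N ∧ N.IsQuasicoherent ∧ N.IsFiniteType ∧
      ∀ i, ∃ x, ι.val.app (op (V i)) x = s i := by
  obtain ⟨N, k, h₁, h₂, h₃, h₄, -, h₅⟩ := exists_finiteType_sub_extend hX hqc hqs hM isOpen_empty isCompact_empty ∅
    (fun _ h => absurd h (Finset.notMem_empty _)) (Set.empty_subset _) (fun _ h => absurd h (Finset.notMem_empty _))
    V hV s
  exact ⟨N, k, h₁, h₂, h₃, h₄, h₅⟩

end Groth.Agent.AlgSpMod
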