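import Groth.Agent.AlgSpMod.FpSmall
import Mathlib.CategoryTheory.Comma.StructuredArrow.Small
import Mathlib.RingTheory.Finiteness.Prod

/-!
# A criterion for a module to be a filtered colimit of modules of finite presentation
-/

set_option autoImplicit false
set_option backward.isDefEq.respectTransparency false
set_option backward.isDefEq.respectTransparency.types false

universe u

open CategoryTheory CategoryTheory.Limits AlgebraicGeometry Opposite AlgSp TensorProduct
open Groth.Agent Groth.Agent.AlgSpLib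

namespace Groth.Agent.AlgSpMod

variable {S : Scheme.{u}} [QuasiSeparatedSpace ↥S] {X : Sp S}

/-- A family of affine objects covering the site. -/
def IsChartFamily (𝓒 : EtOver X → Prop) : Prop :=
  (∀ C, 𝓒 C → Aff C) ∧ ∀ W : EtOver X, ∃ (κ : Type u) (U : κ → EtOver X) (g : ∀ k, U k ⟶ W),
    Sieve.ofArrows U g ∈ etTop X W ∧ ∀ k, Aff (U k) ∧ ∃ C, 𝓒 C ∧ Nonempty (U k ⟶ C)

theorem eq_zero_of_charts {𝓒 : EtOver X → Prop} (h𝓒 : IsChartFamily 𝓒) {P R : ModEt X} (hP : Good P) (φ : P ⟶ R)
    (h : ∀ C, 𝓒 C → ∀ t, φ.val.app (op C) t = 0) : φ = 0 := by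
  refine SheafOfModules.Hom.ext (PresheafOfModules.hom_ext fun W => ModuleCat.hom_ext (LinearMap.ext fun x => ?_))
  obtain ⟨κ, U, g, hcov, hU⟩ := h𝓒.2 W.unop
  refine ext_of_cover' R g hcov fun k => ?_
  refine (PresheafOfModules.naturality_apply φ.val (g k).op x).symm.trans (Eq.trans ?_ (map_zero (R.val.map (g k).op).hom).symm)
  obtain ⟨hUk, C, hC, ⟨c⟩⟩ := hU k
  obtain ⟨z, hz⟩ := (hP.bij c (h𝓒.1 C hC) hUk).2 (show SA P c from P.val.map (g k).op x)
  have h0 : appSA φ (𝟙 C) = 0 := LinearMap.ext fun t => h C hC t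
  have h1 : appSA φ c (bc P c z) = 0 := (appSA_bc φ c z).trans (by rw [h0, LinearMap.lTensor_zero, LinearMap.zero_apply, map_zero])
  rw [hz] at h1
  exact h1

theorem epi_of_charts {𝓒 : EtOver X → Prop} (h𝓒 : IsChartFamily 𝓒) {P M : ModEt X} (hM : Good M) (f : P ⟶ M)
    (h : ∀ C, 𝓒 C → ∀ s : sectModEt M C, ∃ t, f.val.app (op C) t = s) : Epi f := by
  refine Abelian.epi_of_cokernel_π_eq_zero f (eq_zero_of_charts h𝓒 hM _ fun C hC s => ?_)
  obtain ⟨t, rfl⟩ := h C hC s
  exact congr(($(cokernel.condition f)).val.app (op C) t)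

theorem isColimit_of_charts {𝓒 : EtOver X → Prop} (h𝓒 : IsChartFamily 𝓒) {M : ModEt X} (hM : Good M)
    {J : Type (u + 1)} [SmallCategory J] [IsFiltered J] (D : J ⥤ ModEt X) (hD : ∀ j, Good (D.obj j))
    (ι : D ⟶ (Functor.const J).obj M)
    (hA : ∀ C, 𝓒 C → ∀ s : sectModEt M C, ∃ j t, (ι.app j).val.app (op C) t = s)
    (hB : ∀ C, 𝓒 C → ∀ j t, (ι.app j).val.app (op C) t = 0 →
      ∃ (j' : J) (f : j ⟶ j'), (D.map f).val.app (op C) t = 0) :
    Nonempty (IsColimit (Cocone.mk M ι)) := by
  haveI := isGrothendieckAbelian_modEt X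
  haveI : IsConnected J := IsFiltered.isConnected J
  let d := colimit.desc D (Cocone.mk M ι)
  haveI : Epi d := epi_of_charts h𝓒 hM d fun C hC s => by
    obtain ⟨j, t, ht⟩ := hA C hC s
    exact ⟨(colimit.ι D j).val.app (op C) t,
      (congr(($(colimit.ι_desc (Cocone.mk M ι) j)).val.app (op C) t)).trans ht⟩
  have hk : ∀ j, (kernel.ι ι).app j ≫ colimit.ι D j = 0 := fun j => by
    refine eq_zero_of_charts h𝓒 ((good_kernel (ι.app j) (hD j) hM).of_iso
      (PreservesKernel.iso ((evaluation J (ModEt X)).obj j) ι).symm) _ fun C hC t => ?_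
    obtain ⟨j', f, hf⟩ := hB C hC j (((kernel.ι ι).app j).val.app (op C) t)
      (congr(($(congr_app (kernel.condition ι) j)).val.app (op C) t))
    refine (congr(($((congrArg ((kernel.ι ι).app j ≫ ·) (colimit.w D f).symm))).val.app (op C) t)).trans ?_
    exact (congrArg ((colimit.ι D j').val.app (op C)) hf).trans (map_zero ((colimit.ι D j').val.app (op C)).hom)
  let T : ShortComplex (J ⥤ ModEt X) := ShortComplex.mk (kernel.ι ι) ι (kernel.condition ι)
  have hex : (colim.mapShortComplex T (colimit.isColimit (kernel ι)) (colimit.cocone D)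
      (constCocone J M) (0 : colimit (kernel ι) ⟶ colimit D) d (fun j => by rw [comp_zero]; exact (hk j).symm)
      (fun j => (colimit.ι_desc (Cocone.mk M ι) j).trans (Category.comp_id _).symm)).Exact :=
    colim.exact_mapShortComplex (ShortComplex.kernelSequence_exact ι) _ (colimit.isColimit D)
      (isColimitConstCocone J M) _ _ _ _
  haveI : Mono d := hex.mono_g rfl
  haveI : IsIso d := isIso_of_mono_of_epi d
  haveI : IsIso ((colimit.isColimit D).desc (Cocone.mk M ι)) := ‹IsIso d›
  exact ⟨IsColimit.ofPointIso (t := Cocone.mk M ι) (colimit.isColimit D)⟩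

theorem fp_biprod {A B : ModEt X} [A.IsFinitePresentation] [B.IsFinitePresentation] :
    (A ⊞ B).IsFinitePresentation := by
  have hP : Good (A ⊞ B) := good_of_extension (ShortComplex.mk (biprod.inl : A ⟶ A ⊞ B) biprod.snd biprod.inl_snd)
    (ShortComplex.Splitting.ofHasBinaryBiproduct A B).shortExact (good_of_fp A) (good_of_fp B)
  haveI := hP.isQuasicoherent
  refine isFinitePresentation_of_good hP fun E hE => ?_
  haveI := hE
  haveI := fp_SA (M := A) E
  haveI := fp_SA (M := B) E
  let f := (appSA (biprod.fst : A ⊞ B ⟶ A) (𝟙 E)).prod (appSA (biprod.snd : A ⊞ B ⟶ B) (𝟙 E))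
  let g := (appSA (biprod.inl : A ⟶ A ⊞ B) (𝟙 E)).coprod (appSA (biprod.inr : B ⟶ A ⊞ B) (𝟙 E))
  have ap : ∀ {P Q : ModEt X} {a b : P ⟶ Q} (_ : a = b) (x : SA P (𝟙 E)), appSA a (𝟙 E) x = appSA b (𝟙 E) x :=
    fun h x => by rw [h]
  refine Module.FinitePresentation.of_equiv (LinearEquiv.ofLinear f g ?_ ?_).symm
  · refine LinearMap.ext fun p => ?_
    refine Prod.ext ?_ ?_
    · show appSA biprod.fst (𝟙 E) (appSA biprod.inl (𝟙 E) p.1 + appSA biprod.inr (𝟙 E) p.2) = p.1
      rw [map_add]
      exact (congrArg₂ (· + ·) (ap biprod.inl_fst p.1) (ap biprod.inr_fst p.2)).trans (add_zero _)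
    · show appSA biprod.snd (𝟙 E) (appSA biprod.inl (𝟙 E) p.1 + appSA biprod.inr (𝟙 E) p.2) = p.2
      rw [map_add]
      exact (congrArg₂ (· + ·) (ap biprod.inl_snd p.1) (ap biprod.inr_snd p.2)).trans (zero_add _)
  · exact LinearMap.ext fun x => appSA_total biprod.fst biprod.inl biprod.snd biprod.inr biprod.total (𝟙 _) E x

theorem fp_cokernel {A B : ModEt X} (φ : A ⟶ B) [A.IsFinitePresentation] [B.IsFinitePresentation] :
    (cokernel φ).IsFinitePresentation := by
  have hC : Good (cokernel φ) := good_cokernel φ (good_of_fp A) (good_of_fp B)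
  haveI := hC.isQuasicoherent
  refine isFinitePresentation_of_good hC fun E hE => ?_
  haveI := hE
  haveI := fp_SA (M := A) E
  haveI := fp_SA (M := B) E
  have hr : LinearMap.ker (appSA (cokernel.π φ) (𝟙 E)) = LinearMap.range (appSA φ (𝟙 E)) := by
    ext x
    refine ⟨fun h => CohUnion.exists_preimage_of_cokernel φ (good_of_fp A) (good_of_fp B) hE x h, ?_⟩
    rintro ⟨a, rfl⟩
    exact congr(($(cokernel.condition φ)).val.app (op E) a)
  refine Module.finitePresentation_of_surjective (appSA (cokernel.π φ) (𝟙 E))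
    (fun y => surjective_of_epi (cokernel.π φ) (good_of_fp B) hC hE y) ?_
  rw [hr]
  exact Module.Finite.iff_fg.1 (Module.Finite.range _)

/-- The objects of finite presentation. -/
abbrev fpProp (X : Sp S) : ObjectProperty (ModEt X) := fun P => P.IsFinitePresentation

theorem exists_isColimit_fp {𝓒 : EtOver X → Prop} (h𝓒 : IsChartFamily 𝓒) {M : ModEt X} (hM : Good M)
    (hA : ∀ C, 𝓒 C → ∀ s : sectModEt M C, ∃ (P : ModEt X) (_ : P.IsFinitePresentation) (p : P ⟶ M) (t : sectModEt P C),
      p.val.app (op C) t = s)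
    (hB : ∀ C, 𝓒 C → ∀ (P : ModEt X) (p : P ⟶ M) (t : sectModEt P C), P.IsFinitePresentation →
      p.val.app (op C) t = 0 → ∃ (Q : ModEt X) (_ : Q.IsFinitePresentation) (a : P ⟶ Q) (q : Q ⟶ M),
        a ≫ q = p ∧ a.val.app (op C) t = 0)
    (h0 : ∃ (P : ModEt X), P.IsFinitePresentation) :
    ∃ (J : Type (u + 1)) (_ : SmallCategory J) (_ : IsFiltered J) (D : J ⥤ ModEt X)
      (ι : D ⟶ (Functor.const J).obj M),
      (∀ j, (D.obj j).IsFinitePresentation) ∧ Nonempty (IsColimit (Cocone.mk M ι)) := by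
  haveI : ObjectProperty.EssentiallySmall.{u + 1} (fpProp X) :=
    haveI := essentiallySmall_finProp (X := X)
    ObjectProperty.EssentiallySmall.of_le (Q := finProp X) fun P hP E hE =>
      (haveI : P.IsFinitePresentation := hP; haveI := hE; haveI := fp_SA (M := P) E; inferInstance)
  let I := CostructuredArrow (fpProp X).ι M
  haveI : Nonempty I := by
    obtain ⟨P, hP⟩ := h0
    exact ⟨CostructuredArrow.mk (S := (fpProp X).ι) (Y := (⟨P, hP⟩ : (fpProp X).FullSubcategory)) (0 : P ⟶ M)⟩
  haveI : IsFiltered I :=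
    { cocone_objs := fun A B => by
        haveI : A.left.obj.IsFinitePresentation := A.left.property
        haveI : B.left.obj.IsFinitePresentation := B.left.property
        let C : I := CostructuredArrow.mk (S := (fpProp X).ι) (Y := (⟨A.left.obj ⊞ B.left.obj, fp_biprod⟩ : (fpProp X).FullSubcategory)) (biprod.desc A.hom B.hom)
        exact ⟨C, CostructuredArrow.homMk (ObjectProperty.homMk biprod.inl) (biprod.inl_desc _ _),
          CostructuredArrow.homMk (ObjectProperty.homMk biprod.inr) (biprod.inr_desc _ _), trivial⟩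
      cocone_maps := fun A B f g => by
        haveI : A.left.obj.IsFinitePresentation := A.left.property
        haveI : B.left.obj.IsFinitePresentation := B.left.property
        let φ := f.left.hom - g.left.hom
        have hw : φ ≫ B.hom = 0 := by
          rw [Preadditive.sub_comp]
          exact sub_eq_zero.2 ((CostructuredArrow.w f).trans (CostructuredArrow.w g).symm)
        let C : I := CostructuredArrow.mk (S := (fpProp X).ι) (Y := (⟨cokernel φ, fp_cokernel φ⟩ : (fpProp X).FullSubcategory)) (cokernel.desc φ B.hom hw)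
        refine ⟨C, CostructuredArrow.homMk (ObjectProperty.homMk (cokernel.π φ)) (cokernel.π_desc _ _ _), ?_⟩
        refine CostructuredArrow.hom_ext _ _ (ObjectProperty.hom_ext _ (sub_eq_zero.1 ?_))
        exact (Preadditive.sub_comp _ _ _).symm.trans (cokernel.condition φ) }
  haveI : EssentiallySmall.{u + 1} I := inferInstance
  let e := (equivSmallModel.{u + 1} I).symm
  haveI : IsFiltered (SmallModel.{u + 1} I) := IsFiltered.of_equivalence e.symm
  let D := e.functor ⋙ CostructuredArrow.proj _ _ ⋙ (fpProp X).ι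
  let ι : D ⟶ (Functor.const _).obj M :=
    { app := fun j => (e.functor.obj j).hom
      naturality := fun j k f => (CostructuredArrow.w (e.functor.map f)).trans (Category.comp_id _).symm }
  refine ⟨_, inferInstance, inferInstance, D, ι, fun j => (e.functor.obj j).left.property,
    isColimit_of_charts h𝓒 hM D (fun j => haveI : (D.obj j).IsFinitePresentation := (e.functor.obj j).left.property
      good_of_fp _) ι (fun C hC s => ?_) (fun C hC j t ht => ?_)⟩
  · obtain ⟨P, hP, p, t, rfl⟩ := hA C hC s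
    let A : I := CostructuredArrow.mk (S := (fpProp X).ι) (Y := (⟨P, hP⟩ : (fpProp X).FullSubcategory)) p
    exact ⟨e.inverse.obj A, (e.counitIso.inv.app A).left.hom.val.app (op C) t,
      congr(($(CostructuredArrow.w (e.counitIso.inv.app A))).val.app (op C) t)⟩
  · obtain ⟨Q, hQ, a, q, ha, hat⟩ := hB C hC _ _ t (e.functor.obj j).left.property ht
    let B : I := CostructuredArrow.mk (S := (fpProp X).ι) (Y := (⟨Q, hQ⟩ : (fpProp X).FullSubcategory)) q
    let α : e.functor.obj j ⟶ B := CostructuredArrow.homMk (ObjectProperty.homMk a) ha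
    refine ⟨e.inverse.obj B, e.unit.app j ≫ e.inverse.map α, ?_⟩
    have : e.functor.map (e.unit.app j ≫ e.inverse.map α) = α ≫ e.counitIso.inv.app B := by simp
    refine (congr(($(congrArg (fun m => (CostructuredArrow.proj _ _ ⋙ (fpProp X).ι).map m) this)).val.app (op C) t)).trans ?_
    exact (congrArg ((e.counitIso.inv.app B).left.hom.val.app (op C)) hat).trans
      (map_zero ((e.counitIso.inv.app B).left.hom.val.app (op C)).hom)

end Groth.Agent.AlgSpMod
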