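import Groth.Agent.AlgSpMod.CoherentUnion
import Mathlib.CategoryTheory.Abelian.GrothendieckCategory.Subobject
import Mathlib.CategoryTheory.ObjectProperty.Small

/-!
# Modules with finite sections over affine objects form an essentially small class
-/

set_option autoImplicit false
set_option backward.isDefEq.respectTransparency false
set_option backward.isDefEq.respectTransparency.types false

universe u

open CategoryTheory CategoryTheory.Limits AlgebraicGeometry Opposite AlgSp
open Groth.Agent Groth.Agent.AlgSpLib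

namespace Groth.Agent.AlgSpMod

variable {S : Scheme.{u}} [QuasiSeparatedSpace ↥S] {X : Sp S}

/-- The free module on an object of the site. -/
noncomputable def genFree (E : EtOver X) : ModEt X :=
  (PresheafOfModules.sheafification (𝟙 (OEtRing X).obj)).obj (freeRep X E)

theorem exists_genFree_hit (M : ModEt X) (E : EtOver X) (s : sectModEt M E) :
    ∃ (a : genFree E ⟶ M) (t : sectModEt (genFree E) E), a.val.app (op E) t = s := by
  let adj := PresheafOfModules.sheafificationAdjunction.{u + 1} (R := OEtRing X) (𝟙 (OEtRing X).obj)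
  let e := fun (P : PresheafOfModules.{u + 1} (OEtRing X).obj) =>
    (PresheafOfModules.freeHomEquiv (F := uliftYoneda.{u + 1}.obj E) (G := P)).trans uliftYonedaEquiv
  obtain ⟨a₀, ha₀⟩ := (e M.val).surjective s
  let g := e (freeRep X E) (𝟙 _)
  have hg : a₀.app (op E) g = s := ha₀
  refine ⟨(adj.homEquiv _ _).symm a₀, (adj.unit.app (freeRep X E)).app (op E) g, ?_⟩
  refine Eq.trans ?_ hg
  exact congr(($((adj.homEquiv_unit (freeRep X E) M ((adj.homEquiv _ _).symm a₀)).symm.trans
    ((adj.homEquiv _ _).apply_symm_apply a₀))).app (op E) g)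

/-- The free module with prescribed numbers of generators over all objects. -/
noncomputable def bigFree (ν : EtOver X → ℕ) : ModEt X :=
  ∐ fun p : Σ E : EtOver X, ULift.{u + 1} (Fin (ν E)) => genFree p.1

theorem exists_epi_bigFree (P : ModEt X) (hfin : ∀ E : EtOver X, Aff E → Module.Finite (Rg E) (SA P (𝟙 E))) :
    ∃ (ν : EtOver X → ℕ) (π : bigFree ν ⟶ P), Epi π := by
  classical
  have h : ∀ E : EtOver X, ∃ (n : ℕ) (s : Fin n → SA P (𝟙 E)),
      Aff E → Submodule.span (Rg E) (Set.range s) = ⊤ := fun E => by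
    by_cases hE : Aff E
    · haveI := hfin E hE
      obtain ⟨n, s, hs⟩ := Submodule.fg_iff_exists_fin_generating_family.1
        (Module.Finite.fg_top (R := Rg E) (M := SA P (𝟙 E)))
      exact ⟨n, s, fun _ => hs⟩
    · exact ⟨0, Fin.elim0, fun h => absurd h hE⟩
  choose ν s hs using h
  choose a t ht using fun p : Σ E : EtOver X, ULift.{u + 1} (Fin (ν E)) => exists_genFree_hit P p.1 (s p.1 p.2.down)
  refine ⟨ν, Sigma.desc a, epi_of_forall_affine _ fun V hV x => ?_⟩
  have hle : Submodule.span (Rg V) (Set.range (s V)) ≤ LinearMap.range (appSA (Sigma.desc a) (𝟙 V)) := by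
    rw [Submodule.span_le]
    rintro _ ⟨i, rfl⟩
    refine ⟨(Sigma.ι (fun p : Σ E : EtOver X, ULift.{u + 1} (Fin (ν E)) => genFree p.1) ⟨V, ⟨i⟩⟩).val.app (op V)
      (t ⟨V, ⟨i⟩⟩), ?_⟩
    exact (congr(($(Sigma.ι_desc a ⟨V, ⟨i⟩⟩)).val.app (op V) (t ⟨V, ⟨i⟩⟩))).trans (ht ⟨V, ⟨i⟩⟩)
  exact hle (show (show SA P (𝟙 V) from x) ∈ _ from (hs V hV).symm ▸ Submodule.mem_top)

/-- Modules with finite sections over affine objects. -/
def finProp (X : Sp S) : ObjectProperty (ModEt X) :=
  fun P => ∀ E : EtOver X, Aff E → Module.Finite (Rg E) (SA P (𝟙 E))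

theorem essentiallySmall_finProp : ObjectProperty.EssentiallySmall.{u + 1} (finProp X) := by
  haveI := isGrothendieckAbelian_modEt X
  haveI : WellPowered.{u + 1} (ModEt X) := IsGrothendieckAbelian.wellPowered.{u + 1} _
  let obj : (Σ ν : EtOver X → ℕ, Shrink.{u + 1} (Subobject (bigFree ν))) → ModEt X :=
    fun p => cokernel ((equivShrink (Subobject (bigFree p.1))).symm p.2).arrow
  refine ⟨ObjectProperty.ofObj obj, inferInstance, fun P hP => ?_⟩
  obtain ⟨ν, π, hπ⟩ := exists_epi_bigFree P hP
  refine ⟨_, ObjectProperty.ofObj_apply obj ⟨ν, equivShrink _ (Subobject.mk (kernel.ι π))⟩, ⟨?_⟩⟩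
  show P ≅ cokernel ((equivShrink (Subobject (bigFree ν))).symm (equivShrink _ (Subobject.mk (kernel.ι π)))).arrow
  rw [Equiv.symm_apply_apply]
  exact ((Abelian.epiIsCokernelOfKernel _ (kernelIsKernel π)).coconePointUniqueUpToIso (cokernelIsCokernel _)) ≪≫
    (cokernelEpiComp (Subobject.underlyingIso (kernel.ι π)).hom (kernel.ι π)).symm ≪≫
    cokernelIsoOfEq (Subobject.underlyingIso_hom_comp_eq_mk (kernel.ι π))

end Groth.Agent.AlgSpMod
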