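import Groth.Agent.AlgSpMod.Comparison
import Groth.Agent.QCoh.ToSheaf
import Mathlib.Algebra.Category.ModuleCat.Sheaf.Free
import Mathlib.Algebra.Category.ModuleCat.Presheaf.Colimits
import Mathlib.CategoryTheory.Sites.EpiMono

/-!
# Sections of free modules over affine objects are finitely supported families
-/

set_option backward.isDefEq.respectTransparency false
set_option backward.isDefEq.respectTransparency.types false

universe u

open CategoryTheory CategoryTheory.Limits AlgebraicGeometry Opposite AlgSp TensorProduct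
open Groth.Agent.AlgSpLib Groth.Agent.AlgSpDec

namespace Groth.Agent.AlgSpMod

variable {S : Scheme.{u}} {X : Sp S} {B : EtOver X} {E₀ : Over B}

/-- An epimorphism of sheaves of modules is locally surjective on sections. -/
theorem exists_preimage_of_epi {M M' : SheafOfModules.{u + 1} ((OEtRing X).over B)} (f : M ⟶ M') [Epi f]
    (P : Over E₀) (m : MS M' P) :
    ∃ R ∈ etTop X P.left.left, ∀ (V : EtOver X) (k : V ⟶ P.left.left), R k →
      ∃ x : MS M (sub P k), (f.val.app (op (sub P k).left) x : MS M' (sub P k)) = msMap M' (subHom P k) m := by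
  have he : Epi ((SheafOfModules.toSheaf ((OEtRing X).over B)).map f) := QCoh.toSheaf_map_epi _ f
  have hl := (Sheaf.isLocallySurjective_iff_epi' _ _).2 he
  have hS := hl.imageSieve_mem (U := P.left) m
  refine ⟨_, (GrothendieckTopology.mem_over_iff _ _).1 hS, fun V k hk => ?_⟩
  obtain ⟨x, hx⟩ := (Sieve.overEquiv_iff _ _).1 hk
  exact ⟨x, hx⟩

variable (I : Type (u + 1))

/-- The free module on the site over `B`. -/
noncomputable abbrev Fr : SheafOfModules.{u + 1} ((OEtRing X).over B) :=
  SheafOfModules.free (R := (OEtRing X).over B) I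

/-- The tautological sections of a free module. -/
noncomputable def δ (P : Over E₀) (i : I) : MS (Fr (B := B) I) P :=
  (SheafOfModules.freeSection (R := (OEtRing X).over B) i).val (op P.left)

theorem msMap_δ {P P' : Over E₀} (h : P' ⟶ P) (i : I) : msMap (Fr (B := B) I) h (δ I P i) = δ I P' i :=
  (SheafOfModules.freeSection (R := (OEtRing X).over B) i).2 h.left.op

/-- The comparison map of the free module. -/
noncomputable def freeι : (I →₀ Rg E₀.left) →ₗ[Rg E₀.left] MS (Fr (B := B) I) (Over.mk (𝟙 E₀)) :=
  Finsupp.linearCombination (Rg E₀.left) (fun i => δ I (Over.mk (𝟙 E₀)) i)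

theorem θ_free_single (P : Over E₀) (a : AR P) (i : I) :
    θ _ (freeι (B := B) I) P (a ⊗ₜ Finsupp.single i 1) = a • δ I P i := by
  rw [θ_tmul, freeι, Finsupp.linearCombination_single, one_smul, msMap_δ]

/-- The projection to the `i`-th coordinate. -/
noncomputable def proj [DecidableEq I] (i : I) : Fr (B := B) I ⟶ SheafOfModules.unit ((OEtRing X).over B) :=
  (SheafOfModules.freeHomEquiv _).symm fun j => if j = i then
    (SheafOfModules.unitHomEquiv _ (𝟙 _)) else SheafOfModules.unitHomEquiv _ 0

/-- The projection on sections, linear over functions. -/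
noncomputable def prj [DecidableEq I] (P : Over E₀) (i : I) : MS (Fr (B := B) I) P →ₗ[AR P] AR P where
  toFun x := (proj (B := B) I i).val.app (op P.left) x
  map_add' x y := map_add ((proj (B := B) I i).val.app (op P.left)).hom x y
  map_smul' a x := ((proj (B := B) I i).val.app (op P.left)).hom.map_smul a x

theorem prj_δ [DecidableEq I] (P : Over E₀) (i j : I) :
    prj (B := B) I P i (δ I P j) = if j = i then 1 else 0 := by
  have h := congrArg (fun s => s.val (op P.left))
    (SheafOfModules.sectionsMap_freeHomEquiv_symm_freeSection (R := (OEtRing X).over B)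
      (fun j => if j = i then (SheafOfModules.unitHomEquiv _ (𝟙 (SheafOfModules.unit ((OEtRing X).over B))))
        else SheafOfModules.unitHomEquiv _ 0) j)
  refine Eq.trans ?_ (Eq.trans h ?_)
  · rfl
  · split_ifs
    · show ((SheafOfModules.unitHomEquiv _ (𝟙 (SheafOfModules.unit ((OEtRing X).over B)))).val (op P.left)) = (1 : AR P)
      rw [SheafOfModules.unitHomEquiv_apply_coe]
      rfl
    · exact (SheafOfModules.unitHomEquiv_apply_coe _ _ _).trans rfl

theorem θ_free_li (P : Over E₀) (z : AR P ⊗[Rg E₀.left] (I →₀ Rg E₀.left))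
    (hz : θ _ (freeι (B := B) I) P z = 0) : z = 0 := by
  classical
  let e := TensorProduct.finsuppScalarRight (Rg E₀.left) (Rg E₀.left) (AR P) I
  have key : ∀ (z : AR P ⊗[Rg E₀.left] (I →₀ Rg E₀.left)) (i : I),
      prj (B := B) I P i (θ _ (freeι (B := B) I) P z) = e z i := by
    intro z i
    induction z with
    | zero => simp only [map_zero, Finsupp.coe_zero, Pi.zero_apply]
    | tmul a c =>
      induction c using Finsupp.induction_linear with
      | zero => simp only [tmul_zero, map_zero, Finsupp.coe_zero, Pi.zero_apply]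
      | add c d hc hd => simp only [tmul_add, map_add, Finsupp.add_apply, hc, hd]
      | single j r =>
        rw [show Finsupp.single j r = r • Finsupp.single j (1 : Rg E₀.left) by simp, ← TensorProduct.smul_tmul,
          θ_free_single, map_smul, prj_δ]
        simp [e, Finsupp.single_apply]
    | add x y hx hy => simp only [map_add, Finsupp.add_apply, hx, hy]
  apply e.injective
  rw [map_zero]
  ext i
  rw [← key, hz, map_zero]
  rfl

/-- The presheaf direct sum mapping to the free module. -/
noncomputable def preFree : PresheafOfModules.{u + 1} ((OEtRing X).over B).obj :=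
  ∐ fun _ : I => (SheafOfModules.unit ((OEtRing X).over B)).val

/-- Its map to the free module. -/
noncomputable def preFreeMap : preFree (B := B) I ⟶ (Fr (B := B) I).val :=
  Sigma.desc fun i => (SheafOfModules.ιFree (R := (OEtRing X).over B) i).val

theorem θ_free_ls (P : Over E₀) (m : MS (Fr (B := B) I) P) :
    ∃ R ∈ etTop X P.left.left, ∀ (V : EtOver X) (k : V ⟶ P.left.left), R k → Aff V →
      msMap _ (subHom P k) m ∈ Set.range (θ _ (freeι (B := B) I) (sub P k)) := by
  let R₁ := (OEtRing X).over B
  let c := preFreeMap (B := B) I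
  let ĉ : (PresheafOfModules.sheafification.{u + 1} (R := R₁) (𝟙 R₁.obj)).obj (preFree (B := B) I) ⟶ Fr (B := B) I :=
    (PresheafOfModules.sheafificationHomEquiv.{u + 1} (R := R₁) (𝟙 R₁.obj)).symm c
  have hfac : (PresheafOfModules.toPresheaf _).map c =
      CategoryTheory.toSheafify ((etTop X).over B) (preFree (B := B) I).presheaf ≫
        (PresheafOfModules.toPresheaf _).map ĉ.val := by
    have h := PresheafOfModules.toPresheaf_map_sheafificationHomEquiv_def.{u + 1} (R := R₁) (𝟙 R₁.obj) ĉ
    simp only [ĉ, Equiv.apply_symm_apply] at h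
    exact h
  have hfac' : ∀ (U : (Over B)ᵒᵖ) (y : (preFree (B := B) I).obj U), c.app U y =
      ĉ.val.app U ((CategoryTheory.toSheafify ((etTop X).over B) (preFree (B := B) I).presheaf).app U y) :=
    fun U y => congr($(NatTrans.congr_app hfac U) y)
  have : Epi ĉ := ⟨fun {Z} g h hgh => by
    refine Cofan.IsColimit.hom_ext (SheafOfModules.isColimitFreeCofan I) _ _ fun i => ?_
    rw [SheafOfModules.freeCofan_inj]
    apply Z.unitHomEquiv.injective
    refine PresheafOfModules.sections_ext _ _ fun U => ?_
    rw [SheafOfModules.unitHomEquiv_apply_coe, SheafOfModules.unitHomEquiv_apply_coe]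
    show g.val.app U ((SheafOfModules.ιFree (R := R₁) i).val.app U (1 : R₁.obj.obj U)) =
      h.val.app U ((SheafOfModules.ιFree (R := R₁) i).val.app U (1 : R₁.obj.obj U))
    have e : (SheafOfModules.ιFree (R := R₁) i).val.app U (1 : R₁.obj.obj U) =
        c.app U ((Sigma.ι (fun _ : I => (SheafOfModules.unit R₁).val) i).app U (1 : R₁.obj.obj U)) :=
      (congr(($(Sigma.ι_desc (fun i => (SheafOfModules.ιFree (R := R₁) i).val) i)).app U (1 : R₁.obj.obj U))).symm
    rw [e, hfac']
    exact congr(($hgh).val.app U _)⟩
  have he : Epi ((SheafOfModules.toSheaf R₁).map ĉ) := QCoh.toSheaf_map_epi _ ĉ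
  have h₁ : Presheaf.IsLocallySurjective ((etTop X).over B) ((SheafOfModules.toSheaf R₁).map ĉ).hom :=
    (Sheaf.isLocallySurjective_iff_epi' _ _).2 he
  have h₂ : Presheaf.IsLocallySurjective ((etTop X).over B)
      (CategoryTheory.toSheafify ((etTop X).over B) (preFree (B := B) I).presheaf) := inferInstance
  have h₃ : Presheaf.IsLocallySurjective ((etTop X).over B)
      (CategoryTheory.toSheafify ((etTop X).over B) (preFree (B := B) I).presheaf ≫
        ((SheafOfModules.toSheaf R₁).map ĉ).hom) := inferInstance
  have hS := h₃.imageSieve_mem (U := P.left) m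
  refine ⟨_, (GrothendieckTopology.mem_over_iff _ _).1 hS, fun V k hk _ => ?_⟩
  obtain ⟨x, hx⟩ := (Sieve.overEquiv_iff _ _).1 hk
  let Q := sub P k
  let cV : (preFree (B := B) I).obj (op Q.left) → MS (Fr (B := B) I) Q := fun x => c.app (op Q.left) x
  have hx' : cV x = msMap _ (subHom P k) m := by
    exact (hfac' (op Q.left) x).trans hx
  rw [← hx']
  -- the evaluation of the presheaf coproduct is generated by the summands
  let ev := PresheafOfModules.evaluation.{u + 1} R₁.obj (op Q.left)
  have hc := isColimitOfPreserves ev (coproductIsCoproduct fun _ : I => (SheafOfModules.unit R₁).val)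
  let θQ := θ _ (freeι (B := B) I) Q
  let T : AddSubgroup ((preFree (B := B) I).obj (op Q.left)) :=
    (LinearMap.range θQ).toAddSubgroup.comap (AddMonoidHom.mk' cV fun a b => map_add (c.app (op Q.left)).hom a b)
  suffices x ∈ T from this
  let s : ∀ i : I, ev.obj (SheafOfModules.unit R₁).val ⟶ ev.obj (preFree (B := B) I) :=
    fun i => ev.map (Sigma.ι (fun _ : I => (SheafOfModules.unit R₁).val) i)
  let W := ⨆ i, LinearMap.range (s i).hom
  have hW : x ∈ W := by
    have h0 : ModuleCat.ofHom W.mkQ = (0 : ev.obj (preFree (B := B) I) ⟶ ModuleCat.of _ (_ ⧸ W)) := by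
      refine hc.hom_ext fun ⟨i⟩ => ModuleCat.hom_ext (LinearMap.ext fun y => ?_)
      show W.mkQ ((s i).hom y) = 0
      exact (Submodule.Quotient.mk_eq_zero W).2 (le_iSup (fun i => LinearMap.range (s i).hom) i ⟨y, rfl⟩)
    exact (Submodule.Quotient.mk_eq_zero W).1 congr(($h0).hom x)
  refine Submodule.iSup_induction (motive := fun x => x ∈ T) _ hW ?_ (zero_mem T) fun a b => add_mem
  rintro i _ ⟨y, rfl⟩
  let y' : AR Q := y
  refine ⟨y' ⊗ₜ Finsupp.single i 1, ?_⟩
  rw [θ_free_single]
  have e₁ : cV ((s i).hom y) = (SheafOfModules.ιFree (R := R₁) i).val.app (op Q.left) y :=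
    congr(($(Sigma.ι_desc (fun i => (SheafOfModules.ιFree (R := R₁) i).val) i)).app (op Q.left) y)
  have e₂ : (SheafOfModules.ιFree (R := R₁) i).val.app (op Q.left) (1 : AR Q) = δ (B := B) I Q i := rfl
  show _ = cV ((s i).hom y)
  rw [e₁]
  show y' • δ (B := B) I Q i = _
  rw [← e₂]
  refine (((SheafOfModules.ιFree (R := R₁) i).val.app (op Q.left)).hom.map_smul y' (1 : AR Q)).symm.trans ?_
  exact congrArg ((SheafOfModules.ιFree (R := R₁) i).val.app (op Q.left)).hom (mul_one y')

end Groth.Agent.AlgSpMod

namespace Groth.Agent.AlgSpMod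

variable {S : Scheme.{u}} {X : Sp S} {B : EtOver X} {E₀ : Over B}

/-- On affine objects sections of a free module are finitely supported families of functions. -/
theorem θ_free_bijective (I : Type (u + 1)) (P : Over E₀) (hP : Aff P.left.left) :
    Function.Bijective (θ _ (freeι (B := B) (E₀ := E₀) I) P) :=
  θ_bijective _ _
    (fun Q _ z hz => ⟨⊤, GrothendieckTopology.top_mem _ _, fun V k _ _ => by rw [θ_free_li I Q z hz, map_zero]⟩)
    (fun Q _ m => θ_free_ls I Q m) P hP

end Groth.Agent.AlgSpMod
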