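import Groth.Agent.AlgSpMod.Restrict
import Groth.Agent.AlgSpMod.Finite
import Groth.Agent.AlgSpMod.Push
import Groth.Agent.CAlgUI.DescentProj
import Mathlib.RingTheory.Flat.FaithfullyFlat.Algebra

/-!
# Projectivity of sections is local on the small etale site
-/

set_option backward.isDefEq.respectTransparency false
set_option backward.isDefEq.respectTransparency.types false
set_option maxHeartbeats 1000000

universe u

open CategoryTheory CategoryTheory.Limits AlgebraicGeometry Opposite AlgSp TensorProduct
open Groth.Agent Groth.Agent.AlgSpLib Groth.Agent.AlgSpDec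

namespace Groth.Agent.AlgSpMod

/-- A projective module over a factor of a product ring is projective over the product. -/
theorem projective_of_proj {κ : Type*} [Fintype κ] [DecidableEq κ] (B : κ → Type*) [∀ k, CommRing (B k)] (k : κ)
    (M : Type*) [AddCommGroup M] [Module (B k) M] [Module (Π i, B i) M]
    (h : ∀ (a : Π i, B i) (m : M), a • m = a k • m) [Module.Projective (B k) M] : Module.Projective (Π i, B i) M := by
  classical
  letI : Module (Π i, B i) (B k) := Module.compHom (B k) (Pi.evalRingHom B k)
  haveI hB : Module.Projective (Π i, B i) (B k) := by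
    refine Module.Projective.of_split (M := Π i, B i)
      { toFun := fun b => Pi.single k b
        map_add' := fun a b => Pi.single_add k a b
        map_smul' := fun a b => funext fun i => by
          by_cases hi : i = k
          · subst hi
            show Pi.single i (a i * b) i = a i * Pi.single i b i
            rw [Pi.single_eq_same, Pi.single_eq_same]
          · show Pi.single k (a k * b) i = a i * Pi.single k b i
            rw [Pi.single_eq_of_ne hi, Pi.single_eq_of_ne hi, mul_zero] }
      { toFun := fun a => a k, map_add' := fun _ _ => rfl, map_smul' := fun _ _ => rfl }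
      (LinearMap.ext fun b => Pi.single_eq_same k b)
  obtain ⟨s, hs⟩ := (‹Module.Projective (B k) M› : Module.Projective (B k) M)
  haveI : Module.Projective (Π i, B i) (M →₀ B k) :=
    Module.Projective.of_equiv' (finsuppLequivDFinsupp (Π i, B i)).symm
  refine Module.Projective.of_split (M := M →₀ B k)
    { toFun := s, map_add' := map_add s, map_smul' := fun a m => ?_ }
    { toFun := Finsupp.linearCombination (B k) id, map_add' := map_add _, map_smul' := fun a m => ?_ }
    (LinearMap.ext hs)
  · rw [h, map_smul]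
    rfl
  · rw [RingHom.id_apply, h, ← map_smul]
    rfl

theorem piLeft_tmul_apply {A : Type*} [CommRing A] {κ : Type*} [Fintype κ] [DecidableEq κ] {B : κ → Type*}
    [∀ k, AddCommGroup (B k)] [∀ k, Module A (B k)] {N : Type*} [AddCommGroup N] [Module A N] (b : Π k, B k) (n : N)
    (k : κ) : TensorProduct.piLeft (R := A) (N := N) (M := B) (b ⊗ₜ n) k = b k ⊗ₜ n := rfl

theorem piLeft_smul {A : Type*} [CommRing A] {κ : Type*} [Fintype κ] [DecidableEq κ] {B : κ → Type*}
    [∀ k, CommRing (B k)] [∀ k, Algebra A (B k)] {N : Type*} [AddCommGroup N] [Module A N] (a : Π k, B k)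
    (z : (Π k, B k) ⊗[A] N) (k : κ) : TensorProduct.piLeft (R := A) (N := N) (M := B) (a • z) k =
      a k • TensorProduct.piLeft (R := A) (N := N) (M := B) z k := by
  induction z with
  | zero => rw [smul_zero, map_zero, Pi.zero_apply, smul_zero]
  | tmul b n =>
    rw [TensorProduct.smul_tmul', piLeft_tmul_apply, piLeft_tmul_apply, TensorProduct.smul_tmul']
    rfl
  | add x y hx hy => rw [smul_add, map_add, map_add, Pi.add_apply, Pi.add_apply, hx, hy, smul_add]

/-- Projectivity over a finite product of algebras. -/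
theorem projective_pi_tensor {A : Type*} [CommRing A] {κ : Type*} [Fintype κ] (B : κ → Type*) [∀ k, CommRing (B k)]
    [∀ k, Algebra A (B k)] (N : Type*) [AddCommGroup N] [Module A N]
    (h : ∀ k, Module.Projective (B k) (B k ⊗[A] N)) : Module.Projective (Π k, B k) ((Π k, B k) ⊗[A] N) := by
  classical
  letI : ∀ k, Module (Π i, B i) (B k ⊗[A] N) := fun k => Module.compHom _ (Pi.evalRingHom B k)
  haveI : ∀ k, Module.Projective (Π i, B i) (B k ⊗[A] N) := fun k =>
    projective_of_proj B k _ fun _ _ => rfl
  haveI : Module.Projective (Π i, B i) (Π k, B k ⊗[A] N) :=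
    Module.Projective.of_equiv' (DFinsupp.linearEquivFunOnFintype (R := Π i, B i))
  let e := TensorProduct.piLeft (R := A) (N := N) (M := B)
  refine Module.Projective.of_equiv' ({ e.symm with map_smul' := fun a x => ?_ } :
    (Π k, B k ⊗[A] N) ≃ₗ[Π i, B i] (Π k, B k) ⊗[A] N)
  have hlin : ∀ z, e (a • z) = a • e z := fun z => funext fun k => piLeft_smul a z k
  show e.symm (a • x) = a • e.symm x
  exact e.injective ((e.apply_symm_apply _).trans ((hlin _).trans (congrArg _ (e.apply_symm_apply x))).symm)

theorem projective_baseChange {A B N : Type*} [CommRing A] [CommRing B] [Algebra A B] [AddCommGroup N] [Module A N]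
    (h : Module.Projective A N) : Module.Projective B (B ⊗[A] N) := inferInstance

variable {S : Scheme.{u}} {X : Sp S}

/-- Projectivity descends along finite coverings by affine objects. -/
theorem projective_of_cover {E : EtOver X} [Aff E] {κ : Type*} [Finite κ] {Ek : κ → EtOver X} (h : ∀ k, Ek k ⟶ E)
    (hA : ∀ k, Aff (Ek k)) (hs : ∀ x : ↥E.obj.left.left, ∃ k, x ∈ Set.range (h k).hom.left.left)
    {N : Type (u + 1)} [AddCommGroup N] [Module (Rg E) N]
    (hproj : ∀ k, Module.Projective (RA (h k)) (RA (h k) ⊗[Rg E] N)) : Module.Projective (Rg E) N := by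
  classical
  obtain ⟨n, ⟨σ⟩⟩ := Finite.exists_equiv_fin κ
  let B : Fin n → Type (u + 1) := fun i => RA (h (σ.symm i))
  let P := Π i, B i
  haveI : ∀ i, Module.Flat (Rg E) (B i) := fun i => haveI := hA (σ.symm i); flat_RA (h (σ.symm i))
  haveI : Module.Flat (Rg E) P := by
    exact Module.Flat.of_linearEquiv (DFinsupp.linearEquivFunOnFintype (R := Rg E) (M := B)).symm
  haveI : Module.FaithfullyFlat (Rg E) P := by
    refine Module.FaithfullyFlat.of_comap_surjective fun p => ?_
    haveI := p.isPrime
    let e : Γ(E.obj.left.left, ⊤) →+* Rg E := (ULift.ringEquiv (R := Γ(E.obj.left.left, ⊤))).symm.toRingHom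
    obtain ⟨u, hu⟩ := exists_pR_eq E p.asIdeal
    obtain ⟨k, w, hw⟩ := hs u
    obtain ⟨i, rfl⟩ := σ.symm.surjective k
    let q : Ideal (B i) := pR (Ek (σ.symm i)) w
    haveI : q.IsPrime := (inferInstance : (pR (Ek (σ.symm i)) w).IsPrime)
    refine ⟨⟨q.comap (Pi.evalRingHom B i), Ideal.IsPrime.comap _⟩, PrimeSpectrum.ext ?_⟩
    show (q.comap (Pi.evalRingHom B i)).comap (algebraMap (Rg E) P) = p.asIdeal
    rw [Ideal.comap_comap, ← hu, ← hw, ← comap_rs_pR (h (σ.symm i)) w]
    rfl
  haveI : Module.Projective P (P ⊗[Rg E] N) := projective_pi_tensor B N fun i => hproj (σ.symm i)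
  exact CAlgUI.projective_descent (S := P)

variable {M : ModEt X}

theorem projective_bc (h : Good M) {E F : EtOver X} (g : F ⟶ E) (hE : Aff E) (hF : Aff F)
    (hP : Module.Projective (Rg F) (SA M (𝟙 F))) : Module.Projective (RA g) (RA g ⊗[Rg E] SA M (𝟙 E)) := by
  letI : Module (RA g) (SA M (𝟙 F)) := Module.compHom (SA M (𝟙 F)) (show RA g →+* Rg F from RingHom.id _)
  have : Module.Projective (RA g) (SA M (𝟙 F)) := hP
  let e : SA M g ≃ₗ[RA g] SA M (𝟙 F) := { toF g with map_smul' := toF_smul g }
  exact Module.Projective.of_equiv' (e.symm.trans (bcEquiv h g hE hF).symm)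

theorem projective_res (h : Good M) {E F : EtOver X} (g : F ⟶ E) (hE : Aff E) (hF : Aff F)
    (hP : Module.Projective (Rg E) (SA M (𝟙 E))) : Module.Projective (Rg F) (SA M (𝟙 F)) := by
  letI : Module (RA g) (SA M (𝟙 F)) := Module.compHom (SA M (𝟙 F)) (show RA g →+* Rg F from RingHom.id _)
  let e : SA M g ≃ₗ[RA g] SA M (𝟙 F) := { toF g with map_smul' := toF_smul g }
  have : Module.Projective (RA g) (RA g ⊗[Rg E] SA M (𝟙 E)) := projective_baseChange hP
  have h' : Module.Projective (RA g) (SA M (𝟙 F)) := Module.Projective.of_equiv' ((bcEquiv h g hE hF).trans e)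
  exact h'

/-- Projectivity on charts meeting every point gives projectivity on all affine objects. -/
theorem projective_of_charts (h : Good M) (E : EtOver X) (hE : Aff E)
    (hcov : ∀ u : ↥E.obj.left.left, ∃ (D : EtOver X) (_ : Aff D) (v : ↥D.obj.left.left),
      Module.Projective (Rg D) (SA M (𝟙 D)) ∧ Points.ofPt D.obj.hom v = Points.ofPt E.obj.hom u) :
    Module.Projective (Rg E) (SA M (𝟙 E)) := by
  choose D hD v hP hv using hcov
  choose F g₁ g₂ z hF hz₁ _ using fun u => haveI := hE; haveI := hD u; exists_common_affine u (v u) (hv u).symm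
  haveI : IsAffine E.obj.left.left := hE
  obtain ⟨t, ht⟩ := isCompact_univ.elim_finite_subcover (fun u => Set.range (g₁ u).hom.left.left)
    (fun u => by
      have := EtOver.etale_left (g₁ u)
      exact (g₁ u).hom.left.left.isOpenMap.isOpen_range)
    (fun x _ => Set.mem_iUnion.2 ⟨x, z x, hz₁ x⟩)
  refine projective_of_cover (fun k : {u // u ∈ t} => g₁ k.1) (fun k => hF _) (fun x => ?_) fun k =>
    projective_bc h (g₁ k.1) hE (hF _) (projective_res h (g₂ k.1) (hD _) (hF _) (hP _))
  obtain ⟨u, hut, hx⟩ := Set.mem_iUnion₂.1 (ht (Set.mem_univ x))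
  exact ⟨⟨u, hut⟩, hx⟩

/-- The object of the small etale site of a scheme given by an open. -/
noncomputable abbrev openObj (T : Over S) (W : T.left.Opens) : EtOver ((yon S).obj T) :=
  (EtOver.ofScheme T).obj (etaleOfOpen T.left W)

theorem projective_companion {T : Over S} (N : ModEt ((yon S).obj T)) {F : T.left.Modules}
    (c : ZarCompanion T.left F ((resSchModEt T).obj N)) (W : T.left.Opens) :
    Module.Projective (T.left.ringCatSheaf.obj.obj (op W)) (F.val.obj (op W)) ↔
      Module.Projective (Rg (openObj T W)) (SA N (𝟙 (openObj T W))) := by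
  let σ : Γ(T.left, W) ≃+* Rg (openObj T W) :=
    W.topIso.symm.commRingCatIsoToRingEquiv.trans ULift.ringEquiv.symm
  letI : RingHomInvPair (σ : Γ(T.left, W) →+* Rg (openObj T W)) (σ.symm : Rg (openObj T W) →+* Γ(T.left, W)) :=
    RingHomInvPair.of_ringEquiv σ
  letI : RingHomInvPair (σ.symm : Rg (openObj T W) →+* Γ(T.left, W)) (σ : Γ(T.left, W) →+* Rg (openObj T W)) :=
    RingHomInvPair.symm _ _
  let e : (F.val.obj (op W) : Type u) ≃ₛₗ[(σ : Γ(T.left, W) →+* Rg (openObj T W))] SA N (𝟙 (openObj T W)) :=
    { toFun := fun x => (c.iso W).symm (ULift.up x)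
      invFun := fun m => (c.iso W m).down
      left_inv := fun x => by simp
      right_inv := fun m => (c.iso W).symm_apply_apply m
      map_add' := fun x y => map_add (c.iso W).symm (ULift.up x) (ULift.up y)
      map_smul' := fun a x => by
        apply (c.iso W).injective
        rw [AddEquiv.apply_symm_apply, smul_SA_id]
        refine Eq.trans ?_ (c.map_smul W a _).symm
        rw [AddEquiv.apply_symm_apply] }
  constructor
  · intro h
    exact Module.Projective.of_equiv (R := Γ(T.left, W)) e
  · intro h
    exact Module.Projective.of_equiv (S := Γ(T.left, W)) e.symm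

theorem projective_congr {N N' : ModEt X} (e : N ≅ N') {E : EtOver X}
    (h : Module.Projective (Rg E) (SA N (𝟙 E))) : Module.Projective (Rg E) (SA N' (𝟙 E)) := by
  let φ : SA N (𝟙 E) ≃+ SA N' (𝟙 E) :=
    { toFun := fun x => e.hom.val.app (op E) x
      invFun := fun y => e.inv.val.app (op E) y
      left_inv := fun x => congr(($(e.hom_inv_id)).val.app (op E) x)
      right_inv := fun y => congr(($(e.inv_hom_id)).val.app (op E) y)
      map_add' := fun a b => map_add (e.hom.val.app (op E)).hom a b }
  let ψ : SA N (𝟙 E) ≃ₗ[Rg E] SA N' (𝟙 E) :=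
    { φ with map_smul' := fun r a => (e.hom.val.app (op E)).hom.map_smul (rs (𝟙 E) r) a }
  exact Module.Projective.of_equiv' ψ

theorem restr_smul {Y : Sp S} {f : X ⟶ Y} (hf : IsEtaleMor f) (N : ModEt Y) (E : EtOver X) (r : Rg E)
    (x : SA (restr hf N) (𝟙 E)) :
    (show SA N (𝟙 ((EtOver.postcomp f hf).obj E)) from r • x) =
      HSMul.hSMul (α := Rg ((EtOver.postcomp f hf).obj E)) (show Rg ((EtOver.postcomp f hf).obj E) from r)
        (show SA N (𝟙 ((EtOver.postcomp f hf).obj E)) from x) := by
  rw [smul_SA_id, smul_SA_id]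

theorem projective_pull_etale {Y : Sp S} {f : X ⟶ Y} (hrep : Representable f) (hf : IsEtaleMor f)
    [(SheafOfModules.pushforward.{u + 1} (bcRingHom hrep)).IsRightAdjoint] (N : ModEt Y) (E : EtOver X) :
    Module.Projective (Rg E) (SA ((pullModEt hrep).obj N) (𝟙 E)) ↔
      Module.Projective (Rg ((EtOver.postcomp f hf).obj E)) (SA N (𝟙 ((EtOver.postcomp f hf).obj E))) := by
  let σ : Rg E ≃+* Rg ((EtOver.postcomp f hf).obj E) := RingEquiv.refl _
  letI : RingHomInvPair (σ : Rg E →+* Rg ((EtOver.postcomp f hf).obj E))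
      (σ.symm : Rg ((EtOver.postcomp f hf).obj E) →+* Rg E) := RingHomInvPair.of_ringEquiv σ
  letI : RingHomInvPair (σ.symm : Rg ((EtOver.postcomp f hf).obj E) →+* Rg E)
      (σ : Rg E →+* Rg ((EtOver.postcomp f hf).obj E)) := RingHomInvPair.symm _ _
  let e : SA (restr hf N) (𝟙 E) ≃ₛₗ[(σ : Rg E →+* Rg ((EtOver.postcomp f hf).obj E))]
      SA N (𝟙 ((EtOver.postcomp f hf).obj E)) :=
    { toFun := fun x => x, invFun := fun x => x, left_inv := fun _ => rfl, right_inv := fun _ => rfl
      map_add' := fun _ _ => rfl, map_smul' := fun r x => restr_smul hf N E r x }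
  constructor
  · intro h
    have h' := projective_congr (pullIsoRestr hf N hrep).symm h
    exact Module.Projective.of_equiv (R := Rg E) e
  · intro h
    refine projective_congr (pullIsoRestr hf N hrep) ?_
    exact Module.Projective.of_equiv (S := Rg E) e.symm

/-- The object over an affine open of a chart. -/
theorem aff_openObj {T : Over S} {W : T.left.Opens} (hW : IsAffineOpen W) : Aff (openObj T W) := hW

/-- Projectivity on the affine opens of a chart is projectivity on all affine objects. -/
theorem projective_of_chart_companion {U : Over S} {p : (yon S).obj U ⟶ X} (hrep : Representable p)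
    (hp : RepWith @Etale p) (hs : RepWith @Surjective p)
    [(SheafOfModules.pushforward.{u + 1} (bcRingHom hrep)).IsRightAdjoint] (N : ModEt X) (hN : Good N)
    {G : U.left.Modules} (c : ZarCompanion U.left G ((resSchModEt U).obj ((pullModEt hrep).obj N)))
    (hG : ∀ W : U.left.Opens, IsAffineOpen W →
      Module.Projective (U.left.ringCatSheaf.obj.obj (op W)) (G.val.obj (op W)))
    (E : EtOver X) (hE : Aff E) : Module.Projective (Rg E) (SA N (𝟙 E)) := by
  let hf := isEtaleMor_of_repWith p hp
  refine projective_of_charts hN E hE fun u => ?_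
  obtain ⟨v, hv⟩ := surjective_ofPt hs (Points.ofPt E.obj.hom u)
  obtain ⟨W, hW, hvW, -⟩ := exists_isAffineOpen_mem_and_subset (U := (⊤ : U.left.Opens)) (x := v) trivial
  let w : ↥(openObj U W).obj.left.left := (⟨v, hvW⟩ : ↥W)
  refine ⟨(EtOver.postcomp p hf).obj (openObj U W), hW, w, ?_, ?_⟩
  · exact (projective_pull_etale hrep hf N (openObj U W)).1 ((projective_companion _ c W).1 (hG W hW))
  · rw [← hv]
    show Points.ofPt (((yon S).map (EtOver.homOfEtale (etaleOfOpen U.left W)) ≫ 𝟙 _) ≫ p) w = _
    rw [Category.comp_id]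
    exact ofPt_comp (EtOver.homOfEtale (etaleOfOpen U.left W)) p w

end Groth.Agent.AlgSpMod
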