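import Groth.Agent.AlgSpMod.PullSections
import Groth.Agent.AlgSpMod.ProjLocal

/-!
# Inverse images of locally projective modules
-/

set_option backward.isDefEq.respectTransparency false
set_option backward.isDefEq.respectTransparency.types false
set_option maxHeartbeats 1000000

universe u

open CategoryTheory CategoryTheory.Limits AlgebraicGeometry Opposite AlgSp TensorProduct
open Groth.Agent Groth.Agent.AlgSpLib Groth.Agent.AlgSpDec

namespace Groth.Agent.AlgSpMod

variable {S : Scheme.{u}}

section Site

variable {X : Sp S} {B : EtOver X} {Q : SheafOfModules.{u + 1} ((OEtRing X).over B)} {K : Type (u + 1)}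
  [AddCommGroup K] [Module (Rg (base B).left) K] (ι : K →ₗ[Rg (base B).left] MS Q (id₀ B))

theorem θ_smul (P : Over (base B)) (a : AR P) (z : AR P ⊗[Rg (base B).left] K) : θ Q ι P (a • z) = a • θ Q ι P z := by
  induction z with
  | zero => simp only [smul_zero, map_zero]
  | tmul b n => rw [TensorProduct.smul_tmul', θ_tmul, θ_tmul, smul_eq_mul, mul_smul]
  | add x y hx hy => rw [smul_add, map_add, map_add, hx, hy, smul_add]

theorem projective_MS (h : Module.Projective (Rg (base B).left) K) (P : Over (base B))
    (hb : Function.Bijective (θ Q ι P)) : Module.Projective (AR P) (MS Q P) := by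
  haveI := projective_baseChange (B := AR P) h
  exact Module.Projective.of_equiv' (LinearEquiv.ofBijective
    { toFun := θ Q ι P, map_add' := map_add _, map_smul' := θ_smul ι P } hb)

end Site

section

variable {X : Sp S} (N : ModEt X)

theorem MS_over_smul {B : EtOver X} (P : Over (base B)) (a : AR P) (x : MS (N.over B) P) :
    (show SA N (𝟙 P.left.left) from a • x) =
      HSMul.hSMul (α := Rg P.left.left) (show Rg P.left.left from a) (show SA N (𝟙 P.left.left) from x) := by
  rw [smul_SA_id]

theorem projective_SA_of_MS {B : EtOver X} (P : Over (base B)) (h : Module.Projective (AR P) (MS (N.over B) P)) :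
    Module.Projective (Rg P.left.left) (SA N (𝟙 P.left.left)) := by
  let σ : AR P ≃+* Rg P.left.left := RingEquiv.refl _
  letI : RingHomInvPair (σ : AR P →+* Rg P.left.left) (σ.symm : Rg P.left.left →+* AR P) :=
    RingHomInvPair.of_ringEquiv σ
  letI : RingHomInvPair (σ.symm : Rg P.left.left →+* AR P) (σ : AR P →+* Rg P.left.left) :=
    RingHomInvPair.symm _ _
  let e : MS (N.over B) P ≃ₛₗ[(σ : AR P →+* Rg P.left.left)] SA N (𝟙 P.left.left) :=
    { toFun := fun x => x, invFun := fun x => x, left_inv := fun _ => rfl, right_inv := fun _ => rfl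
      map_add' := fun _ _ => rfl, map_smul' := fun a x => MS_over_smul N P a x }
  exact Module.Projective.of_equiv (R := AR P) e

end

variable {X Y : Sp S} {f : X ⟶ Y} (hf : Representable f)
variable [(SheafOfModules.pushforward.{u + 1} (bcRingHom hf)).IsRightAdjoint]

/-- An inverse image on a base change is presented by base changed sections. -/
theorem exists_pullθ (E : EtOver Y) (G : ModEt Y) (hG : Good G) (hE : Aff E)
    (hP : Module.Projective (Rg E) (SA G (𝟙 E))) :
    ∃ (K : Type (u + 1)) (_ : AddCommGroup K) (_ : Module (Rg (base (EtOver.bcObj hf E)).left) K)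
      (ι : K →ₗ[Rg (base (EtOver.bcObj hf E)).left]
        MS (((pullModEt hf).obj G).over (EtOver.bcObj hf E)) (id₀ (EtOver.bcObj hf E))),
      Module.Projective (Rg (base (EtOver.bcObj hf E)).left) K ∧
      ∀ P : Over (base (EtOver.bcObj hf E)), Aff P.left.left → Function.Bijective (θ _ ι P) := by
  classical
  haveI := isContinuous_post hf E
  haveI := final_post hf E
  let W := EtOver.bcObj hf E
  let c : (SA G (𝟙 (base E).left) →₀ Rg (base E).left) →ₗ[Rg (base E).left] SA G (𝟙 (base E).left) :=
    Finsupp.linearCombination (Rg (base E).left) id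
  let d : (LinearMap.ker c →₀ Rg (base E).left) →ₗ[Rg (base E).left] (SA G (𝟙 (base E).left) →₀ Rg (base E).left) :=
    Finsupp.linearCombination (Rg (base E).left) Subtype.val
  have hc : Function.Surjective c := fun x => ⟨Finsupp.single x 1, by simp [c]⟩
  have hd : Function.Exact d c := by
    rw [LinearMap.exact_iff, Finsupp.range_linearCombination, Subtype.range_coe]
    exact (Submodule.span_eq _).symm
  let d' : (LinearMap.ker c →₀ Rg (base W).left) →ₗ[Rg (base W).left]
      (SA G (𝟙 (base E).left) →₀ Rg (base W).left) :=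
    Finsupp.linearCombination (Rg (base W).left) fun j => βF hf E (d (Finsupp.single j 1))
  have hd' : ∀ j, d' (Finsupp.single j 1) = βF hf E (d (Finsupp.single j 1)) := fun j =>
    (Finsupp.linearCombination_single _ _ _).trans (one_smul _ _)
  obtain ⟨e⟩ := exists_pullCokernelIso hf E G hG hE c hc d hd (r := relHom (B := W) d') fun {P} k => by
    refine (relHom_comp_eq_zero_iff d' k).trans (forall_congr' fun j => ?_)
    rw [hd', appMS_freeEquiv_eq_zero_iff]
  obtain ⟨ι, hι⟩ := exists_cokernelθ (B := W) d' e
  let dB : (LinearMap.ker c →₀ RB hf E) →ₗ[RB hf E] (SA G (𝟙 (base E).left) →₀ RB hf E) := d'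
  obtain ⟨t⟩ := nonempty_baseChange_presented (A := Rg E) (B := RB hf E) (M := SA G (𝟙 E)) c hc d hd
    dB (fun j i => DFunLike.congr_fun (hd' j) i)
  have := projective_baseChange (B := RB hf E) hP
  have hK : Module.Projective (RB hf E) ((SA G (𝟙 (base E).left) →₀ RB hf E) ⧸ LinearMap.range dB) :=
    Module.Projective.of_equiv' t
  exact ⟨_, _, _, ι, hK, hι⟩

/-- Inverse images of locally projective modules are locally projective. -/
theorem projective_pull (hY : IsAlgSpace Y) (G : ModEt Y) (hG : Good G) (hN : Good ((pullModEt hf).obj G))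
    (hP : ∀ E : EtOver Y, Aff E → Module.Projective (Rg E) (SA G (𝟙 E))) (F : EtOver X) (hF : Aff F) :
    Module.Projective (Rg F) (SA ((pullModEt hf).obj G) (𝟙 F)) := by
  refine projective_of_charts hN F hF fun u => ?_
  obtain ⟨E, hE, v, hv⟩ := exists_affine_chart_point hY (Points.map f (Points.ofPt F.obj.hom u))
  obtain ⟨w, hw, -⟩ := exists_bcObj_point hf E _ v hv
  let W := EtOver.bcObj hf E
  obtain ⟨O, hO, hwO, -⟩ := exists_isAffineOpen_mem_and_subset (U := (⊤ : W.obj.left.left.Opens)) (x := w) trivial
  obtain ⟨z, hz⟩ := (range_etOpenι W O).ge hwO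
  obtain ⟨K, _, _, ι, hK, hι⟩ := exists_pullθ hf E G hG hE (hP E hE)
  let P := lift₀ (Over.mk (etOpenι W O) : Over W)
  refine ⟨etOpen W O, hO, z, projective_SA_of_MS _ P (projective_MS ι hK P (hι P hO)), ?_⟩
  rw [← ofPt_hom (etOpenι W O) z, hz]
  exact hw

end Groth.Agent.AlgSpMod
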