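import Groth.Agent.AlgSpMod.SubKilled

/-!
# Zero loci on affine objects of the small etale site
-/

set_option backward.isDefEq.respectTransparency false
set_option backward.isDefEq.respectTransparency.types false

universe u

open CategoryTheory AlgebraicGeometry Opposite AlgSp
open Groth.Agent Groth.Agent.AlgSpLib Groth.Agent.AlgSpDec

namespace Groth.Agent.AlgSpMod

variable {S : Scheme.{u}} {X : Sp S}

/-- Global functions as functions on an object, through commutative rings. -/
noncomputable def upR (E : EtOver X) : Γ(E.obj.left.left, ⊤) →+* Rg E := ULift.ringEquiv.symm.toRingHom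

theorem mem_zeroLocus_iff_le {E : EtOver X} (J : Ideal Γ(E.obj.left.left, ⊤)) (v : ↥E.obj.left.left) :
    v ∈ E.obj.left.left.zeroLocus (U := ⊤) (J : Set Γ(E.obj.left.left, ⊤)) ↔ J.map (upR E) ≤ pR E v := by
  rw [Ideal.map_le_iff_le_comap, Scheme.mem_zeroLocus_iff]
  exact forall₂_congr fun a _ => ((not_congr (mem_basicOpen_iff_pR (⟨a⟩ : Rg E) v)).trans not_not)

theorem cutsOn_map_iff {T : Set (Points X)} {E : EtOver X} (J : Ideal Γ(E.obj.left.left, ⊤)) :
    CutsOn T E (J.map (upR E)) ↔
      E.obj.left.left.zeroLocus (U := ⊤) (J : Set Γ(E.obj.left.left, ⊤)) = {w | Points.ofPt E.obj.hom w ∈ T} := by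
  rw [Set.ext_iff]
  exact forall_congr' fun v => iff_congr (mem_zeroLocus_iff_le J v).symm Iff.rfl

theorem annEl_eq_map_annSect {M : ModEt X} {E : EtOver X} (x : sectModEt M E) :
    WeakAss.annEl (Rg E) (show SA M (𝟙 E) from x) = (annSect x).map (upR E) := by
  have hb : Function.Bijective (upR E) := ULift.ringEquiv.symm.bijective
  refine Eq.trans (Ideal.map_comap_of_surjective (upR E) hb.2 _).symm (congrArg (Ideal.map (upR E)) ?_)
  ext a
  show ((show Rg E from (⟨a⟩ : Rg E)) ∈ WeakAss.annEl (Rg E) (show SA M (𝟙 E) from x)) ↔ _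
  rw [WeakAss.mem_annEl]
  rw [smul_SA_id]
  exact (mem_annSect_iff x a).symm

end Groth.Agent.AlgSpMod
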