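import Groth.Agent.AlgSpMod.Push
import Groth.Agent.AlgSpMod.ProjPull
import Groth.Agent.AlgSpMod.SubKilledZero
import Mathlib.RingTheory.Spectrum.Prime.FreeLocus
import Mathlib.Algebra.Category.ModuleCat.Sheaf.LocallyFree

/-!
# Finite locally free modules on the small etale site
-/

set_option backward.isDefEq.respectTransparency false
set_option backward.isDefEq.respectTransparency.types false
set_option maxHeartbeats 1000000

universe u

open CategoryTheory CategoryTheory.Limits AlgebraicGeometry Opposite AlgSp TensorProduct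
open Groth.Agent Groth.Agent.AlgSpLib Groth.Agent.AlgSpDec

namespace Groth.Agent.AlgSpMod

universe w

/-- A basis after inverting one element. -/
theorem exists_basis_of_free_away {A B : Type w} [CommRing A] [CommRing B] [Algebra A B] (r : A)
    [IsLocalization.Away r B] [Nontrivial B] {N : Type w} [AddCommGroup N] [Module A N] [Module.Finite A N]
    [Module.Free (Localization (Submonoid.powers r)) (LocalizedModule (Submonoid.powers r) N)] :
    ∃ n : ℕ, Nonempty (Module.Basis (Fin n) B (B ⊗[A] N)) := by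
  let L := Localization (Submonoid.powers r)
  let e : L ≃ₐ[A] B := IsLocalization.algEquiv (Submonoid.powers r) L B
  let _ : Algebra L B := e.toAlgHom.toRingHom.toAlgebra
  have : IsScalarTower A L B := IsScalarTower.of_algebraMap_eq fun a => (e.commutes a).symm
  have : Module.Free L (L ⊗[A] N) := Module.Free.of_equiv (LocalizedModule.equivTensorProduct (Submonoid.powers r) N)
  let E : B ⊗[L] (L ⊗[A] N) ≃ₗ[B] B ⊗[A] N := AlgebraTensorModule.cancelBaseChange A L B B N
  have : Module.Free B (B ⊗[A] N) := Module.Free.of_equiv E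
  exact ⟨_, ⟨Module.finBasis B (B ⊗[A] N)⟩⟩

variable {S : Scheme.{u}}

theorem isLocalization_RA_etOpen {X : Sp S} (E : EtOver X) [IsAffine E.obj.left.left] (a : Γ(E.obj.left.left, ⊤)) :
    IsLocalization.Away (upR E a) (RA (etOpenι E (E.obj.left.left.basicOpen a))) := by
  let Y := E.obj.left.left
  haveI := (isAffineOpen_top Y).isLocalization_basicOpen a
  let D := Y.basicOpen a
  let g := etOpenι E D
  let σ : Γ(Y, D) ≃+* RA g := D.topIso.symm.commRingCatIsoToRingEquiv.trans ULift.ringEquiv.symm
  have hg : ∀ b, algebraMap (Rg E) (RA g) (upR E b) = σ (Y.presheaf.map (homOfLE (le_top : D ≤ ⊤)).op b) := by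
    intro b
    refine ULift.ext _ _ ?_
    show D.ι.appTop b = D.topIso.inv (Y.presheaf.map (homOfLE (le_top : D ≤ ⊤)).op b)
    simp [Scheme.Hom.appTop, ← CommRingCat.comp_apply, ← Functor.map_comp]
  refine { map_units := ?_, surj := ?_, exists_of_eq := ?_ }
  · rintro ⟨_, n, rfl⟩
    show IsUnit (algebraMap (Rg E) (RA g) (upR E a ^ n))
    rw [← map_pow, hg]
    exact (IsLocalization.map_units (M := Submonoid.powers a) Γ(Y, D) ⟨a ^ n, n, rfl⟩).map σ
  · intro z
    obtain ⟨z, rfl⟩ := σ.surjective z
    obtain ⟨⟨b, ⟨_, n, rfl⟩⟩, h⟩ := IsLocalization.surj (Submonoid.powers a) z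
    refine ⟨⟨upR E b, ⟨upR E a ^ n, n, rfl⟩⟩, ?_⟩
    show σ z * algebraMap (Rg E) (RA g) (upR E a ^ n) = algebraMap (Rg E) (RA g) (upR E b)
    rw [← map_pow, hg, hg]
    exact (map_mul σ z _).symm.trans (congrArg _ h)
  · intro x y hxy
    obtain ⟨b, rfl⟩ : ∃ b, upR E b = x := ULift.ringEquiv.symm.surjective x
    obtain ⟨c, rfl⟩ : ∃ c, upR E c = y := ULift.ringEquiv.symm.surjective y
    rw [hg, hg] at hxy
    obtain ⟨⟨_, n, rfl⟩, hc⟩ := IsLocalization.exists_of_eq (M := Submonoid.powers a) (σ.injective hxy)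
    refine ⟨⟨upR E a ^ n, n, rfl⟩, ?_⟩
    show upR E a ^ n * upR E b = upR E a ^ n * upR E c
    rw [← map_pow, ← map_mul, ← map_mul]
    exact congrArg _ hc

variable {X : Sp S} {M : ModEt X}

theorem exists_basis_nhd {E : EtOver X} [IsAffine E.obj.left.left] (hM : Good M)
    (hfin : Module.Finite (Rg E) (SA M (𝟙 E))) (hproj : Module.Projective (Rg E) (SA M (𝟙 E)))
    (v : ↥E.obj.left.left) : ∃ (D : EtOver X) (g : D ⟶ E) (n : ℕ),
      Aff D ∧ v ∈ Set.range g.hom.left.left ∧ Nonempty (Module.Basis (Fin n) (Rg D) (SA M (𝟙 D))) := by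
  let A : Type (u + 1) := Rg E
  let N := SA M (𝟙 E)
  haveI : Module.FinitePresentation A N := Module.finitePresentation_of_projective A N
  let p : PrimeSpectrum A := ⟨pR E v, inferInstance⟩
  haveI : Module.Free (Localization.AtPrime p.asIdeal) (LocalizedModule p.asIdeal.primeCompl N) :=
    Module.free_of_flat_of_isLocalRing
  obtain ⟨r, hr, hfree, -⟩ := Module.FinitePresentation.exists_free_localizedModule_powers
    p.asIdeal.primeCompl (LocalizedModule.mkLinearMap p.asIdeal.primeCompl N)
    (Localization.AtPrime p.asIdeal)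
  obtain ⟨a, rfl⟩ : ∃ a, upR E a = r := ULift.ringEquiv.symm.surjective r
  let D := etOpen E (E.obj.left.left.basicOpen a)
  let g := etOpenι E (E.obj.left.left.basicOpen a)
  have hv : v ∈ E.obj.left.left.basicOpen a := (mem_basicOpen_iff_pR (⟨a⟩ : Rg E) v).2 hr
  have hD : Aff D := (isAffineOpen_top _).basicOpen a
  haveI := isLocalization_RA_etOpen E a
  haveI : Nontrivial (RA g) := by
    obtain ⟨w, -⟩ := (range_etOpenι E (E.obj.left.left.basicOpen a)).ge hv
    show Nontrivial (Rg D)
    exact nontrivial_of_ne (0 : Rg D) 1 fun h01 =>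
      (inferInstance : (pR D w).IsPrime).ne_top ((Ideal.eq_top_iff_one _).2 (h01 ▸ (pR D w).zero_mem))
  obtain ⟨n, ⟨b⟩⟩ := exists_basis_of_free_away (B := RA g) (upR E a) (N := N)
  letI : Module (RA g) (SA M (𝟙 D)) := Module.compHom (SA M (𝟙 D)) (show RA g →+* Rg D from RingHom.id _)
  let e : SA M g ≃ₗ[RA g] SA M (𝟙 D) := { toF g with map_smul' := toF_smul g }
  refine ⟨D, g, n, hD, (range_etOpenι E _).ge hv, ?_⟩
  exact ⟨(show Module.Basis (Fin n) (RA g) (SA M (𝟙 D)) from
    b.map ((bcEquiv hM g ‹IsAffine E.obj.left.left› hD).trans e))⟩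

theorem exists_iso_free {D : EtOver X} (hM : Good M) (hD : Aff D) {I : Type (u + 1)}
    (b : Module.Basis I (Rg D) (SA M (𝟙 D))) : ∃ π : Fr (B := D) I ⟶ M.over D, IsIso π := by
  let c : (I →₀ Rg (base D).left) →ₗ[Rg (base D).left] SA M (𝟙 (base D).left) := b.repr.symm.toLinearMap
  have hc : Function.Bijective c := b.repr.symm.bijective
  let π := πOf (idι M D) c
  haveI : Epi π := epi_πOf _ _ (fun P hP => (hM.θ_bijective hD P hP).2) hc.2
  have hz : kernel.ι π = 0 := by
    ext U z
    obtain ⟨U⟩ := U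
    let P := lift₀ U
    choose W hW hxW _ using fun x : ↥U.left.obj.left.left => exists_isAffineOpen_mem_and_subset
      (U := (⊤ : U.left.obj.left.left.Opens)) (x := x) trivial
    refine ext_of_cover _ (P := P) (κ := ↥U.left.obj.left.left) (Q := fun x => sub P (etOpenι U.left (W x)))
      (fun x => subHom P (etOpenι U.left (W x)))
      (AlgSp.ofArrows_mem_etTop _ _ fun x => ⟨x, by
        show x ∈ Set.range (etOpenι U.left (W x)).hom.left.left
        rw [range_etOpenι]; exact hxW x⟩) fun x => ?_
    show msMap _ _ (appMS (kernel.ι π) P z) = msMap _ _ 0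
    rw [map_zero, msMap_appMS]
    let P' := sub P (etOpenι U.left (W x))
    have hP' : Aff P'.left.left := hW x
    obtain ⟨w, hw⟩ := (θ_free_bijective (B := D) (E₀ := base D) I P' hP').2
      (appMS (kernel.ι π) P' (msMap _ (subHom P (etOpenι U.left (W x))) z))
    have hcw : c.lTensor (AR P') w = 0 := by
      apply (hM.θ_bijective hD P' hP').1
      rw [map_zero, ← appMS_πOf, hw]
      exact congr(($(kernel.condition π)).val.app (op P'.left) _)
    have : w = 0 := (LinearEquiv.lTensor (AR P') (LinearEquiv.ofBijective c hc)).injective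
      (hcw.trans (map_zero _).symm)
    rw [← hw, this, map_zero]
  haveI : Mono π := Preadditive.mono_of_kernel_zero hz
  exact ⟨π, isIso_of_mono_of_epi π⟩

/-- Modules with finite projective sections have finite free local data. -/
theorem exists_locallyFreeData (hX : IsAlgSpace X) (hM : Good M)
    (h : ∀ E : EtOver X, Aff E → Module.Finite (Rg E) (SA M (𝟙 E)) ∧ Module.Projective (Rg E) (SA M (𝟙 E))) :
    ∃ q : SheafOfModules.LocalGeneratorsData.{u + 1} M, q.IsLocallyFreeData ∧ q.IsFiniteType := by
  have key : ∀ x : Points X, ∃ (D : EtOver X) (n : ℕ) (π : Fr (B := D) (ULift.{u + 1} (Fin n)) ⟶ M.over D),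
      IsIso π ∧ x ∈ Set.range (Points.ofPt D.obj.hom) := by
    intro x
    obtain ⟨E, hE, v, hv⟩ := exists_affine_chart_point hX x
    haveI := hE
    obtain ⟨D, g, n, hD, ⟨w, hw⟩, ⟨b⟩⟩ := exists_basis_nhd (E := E) hM (h E hE).1 (h E hE).2 v
    obtain ⟨π, hπ⟩ := exists_iso_free hM hD (b.reindex Equiv.ulift.symm)
    exact ⟨D, n, π, hπ, w, by rw [← ofPt_hom g w, hw]; exact hv⟩
  choose D n π hπ hx using key
  let q : SheafOfModules.LocalGeneratorsData.{u + 1} M :=
    { I := Points X
      X := D
      coversTop := fun W => by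
        refine (etTop X).superset_covering ?_ (AlgSp.ofArrows_mem_etTop (ι := Points X)
          (fun x => EtOver.prodObj W (D x)) (fun x => EtOver.prodFst W (D x)) fun v => ?_)
        · intro Z k hk
          obtain ⟨x, l, -⟩ := (Sieve.mem_ofArrows_iff _ _ _).1 hk
          exact (Sieve.mem_ofObjects_iff _ _).2 ⟨x, ⟨l ≫ EtOver.prodSnd W (D x)⟩⟩
        · obtain ⟨w, hw⟩ := hx (Points.ofPt W.obj.hom v)
          obtain ⟨z, -, hz⟩ := exists_ofPt_of_eq ((D (Points.ofPt W.obj.hom v)).property.1.isPullback' W.obj.hom) hw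
          exact ⟨_, z, hz⟩
      generators := fun x =>
        { I := ULift.{u + 1} (Fin (n x))
          s := (M.over (D x)).freeHomEquiv (π x)
          epi := by
            rw [Equiv.symm_apply_apply]
            haveI := hπ x; infer_instance } }
  refine ⟨q, ?_, ?_⟩
  swap
  · refine @SheafOfModules.LocalGeneratorsData.IsFiniteType.mk _ _ _ _ _ _ _ q fun x => ?_
    constructor
    exact inferInstanceAs (Finite (ULift.{u + 1} (Fin (n x))))
  refine @SheafOfModules.LocalGeneratorsData.IsLocallyFreeData.mk _ _ _ _ _ _ _ q fun x => ?_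
  show IsIso ((M.over (D x)).freeHomEquiv.symm ((M.over (D x)).freeHomEquiv (π x)))
  rw [Equiv.symm_apply_apply]
  exact hπ x

/-- Finite free local data give finite projective sections. -/
theorem projective_of_locallyFreeData (hM : Good M) (q : SheafOfModules.LocalGeneratorsData.{u + 1} M)
    [q.IsLocallyFreeData] (E : EtOver X) (hE : Aff E) : Module.Projective (Rg E) (SA M (𝟙 E)) := by
  refine projective_of_charts hM E hE fun v => ?_
  obtain ⟨E', p, κ, _, Ek, j, -, hp, hEk, hR, hcov, -⟩ := exists_affine_cover (q.coversTop E)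
  obtain ⟨k, w, hw⟩ := exists_points_cover p hp hcov v
  obtain ⟨i, ⟨ψ⟩⟩ := (Sieve.mem_ofObjects_iff _ _).1 (hR k)
  let P := lift₀ (Over.mk ψ : Over (q.X i))
  let π : Fr (B := q.X i) (q.generators i).I ⟶ M.over (q.X i) := (q.generators i).π
  haveI : IsIso π := SheafOfModules.LocalGeneratorsData.IsLocallyFreeData.isIso i
  have h1 : Module.Projective (AR P) (MS (Fr (B := q.X i) (q.generators i).I) P) :=
    projective_MS (freeι (B := q.X i) (E₀ := base (q.X i)) (q.generators i).I) inferInstance P
      (θ_free_bijective (B := q.X i) (E₀ := base (q.X i)) (q.generators i).I P (hEk k))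
  let e : MS (Fr (B := q.X i) (q.generators i).I) P ≃ₗ[AR P] MS (M.over (q.X i)) P :=
    { (π.val.app (op P.left)).hom with
      invFun := fun y => (inv π).val.app (op P.left) y
      left_inv := fun x => congr(($(IsIso.hom_inv_id π)).val.app (op P.left) x)
      right_inv := fun y => congr(($(IsIso.inv_hom_id π)).val.app (op P.left) y) }
  refine ⟨Ek k, hEk k, w, projective_SA_of_MS M P (Module.Projective.of_equiv' e), ?_⟩
  rw [← hw]
  exact (ofPt_hom (j k ≫ p) w).symm

theorem finite_MS {B : EtOver X} {Q : SheafOfModules.{u + 1} ((OEtRing X).over B)} {K : Type (u + 1)}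
    [AddCommGroup K] [Module (Rg (base B).left) K] (ι : K →ₗ[Rg (base B).left] MS Q (id₀ B))
    [Module.Finite (Rg (base B).left) K] (P : Over (base B)) (hb : Function.Bijective (θ Q ι P)) :
    Module.Finite (AR P) (MS Q P) :=
  Module.Finite.equiv (LinearEquiv.ofBijective
    { toFun := θ Q ι P, map_add' := map_add _, map_smul' := θ_smul ι P } hb)

theorem finite_SA_of_MS (N : ModEt X) {B : EtOver X} (P : Over (base B))
    (h : Module.Finite (AR P) (MS (N.over B) P)) : Module.Finite (Rg P.left.left) (SA N (𝟙 P.left.left)) := by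
  let σ : AR P ≃+* Rg P.left.left := RingEquiv.refl _
  let e : MS (N.over B) P →ₛₗ[(σ : AR P →+* Rg P.left.left)] SA N (𝟙 P.left.left) :=
    { toFun := fun x => x, map_add' := fun _ _ => rfl, map_smul' := fun a x => MS_over_smul N P a x }
  haveI : RingHomSurjective (σ : AR P →+* Rg P.left.left) := ⟨σ.surjective⟩
  exact Module.Finite.of_surjective e fun y => ⟨y, rfl⟩

/-- Finite free local data give finite sections. -/
theorem finite_of_locallyFreeData [M.IsQuasicoherent] (q : SheafOfModules.LocalGeneratorsData.{u + 1} M)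
    [q.IsLocallyFreeData] [q.IsFiniteType] (E : EtOver X) (hE : Aff E) : Module.Finite (Rg E) (SA M (𝟙 E)) := by
  obtain ⟨E', p, κ, _, Ek, j, -, hp, hEk, hR, hcov, -⟩ := exists_affine_cover (q.coversTop E)
  refine finite_of_cover (fun k => j k ≫ p) hEk (fun x => exists_points_cover p hp hcov x) fun k => ?_
  obtain ⟨i, ⟨ψ⟩⟩ := (Sieve.mem_ofObjects_iff _ _).1 (hR k)
  let P := lift₀ (Over.mk ψ : Over (q.X i))
  let π : Fr (B := q.X i) (q.generators i).I ⟶ M.over (q.X i) := (q.generators i).π
  haveI : IsIso π := SheafOfModules.LocalGeneratorsData.IsLocallyFreeData.isIso i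
  haveI : Finite (q.generators i).I :=
    (SheafOfModules.LocalGeneratorsData.IsFiniteType.isFiniteType (p := q) i).finite
  have h1 : Module.Finite (AR P) (MS (Fr (B := q.X i) (q.generators i).I) P) :=
    finite_MS (freeι (B := q.X i) (E₀ := base (q.X i)) (q.generators i).I) P
      (θ_free_bijective (B := q.X i) (E₀ := base (q.X i)) (q.generators i).I P (hEk k))
  let f : MS (Fr (B := q.X i) (q.generators i).I) P →ₗ[AR P] MS (M.over (q.X i)) P :=
    (π.val.app (op P.left)).hom
  haveI : Module.Finite (Rg (Ek k)) (SA M (𝟙 (Ek k))) := finite_SA_of_MS M P (Module.Finite.of_surjective f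
    fun y => ⟨(inv π).val.app (op P.left) y, congr(($(IsIso.inv_hom_id π)).val.app (op P.left) y)⟩)
  exact finite_bc (j k ≫ p) hE (hEk k)

end Groth.Agent.AlgSpMod
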