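import Groth.Agent.AlgSpMod.MayerVietorisSite
import Groth.Agent.AlgSpDec2.ElemSq
import Groth.Agent.AlgSpDec.EtSite

/-!
# Elementary distinguished squares as squares of the small etale site
-/

set_option backward.isDefEq.respectTransparency false
set_option backward.isDefEq.respectTransparency.types false
set_option maxHeartbeats 1000000

universe u

open CategoryTheory CategoryTheory.Limits AlgebraicGeometry Opposite AlgSp
open Groth.Agent.AlgSpLib Groth.Agent.AlgSpPts Groth.Agent.AlgSpDec Groth.Agent.AlgSpDec2.ElemChain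

namespace Groth.Agent.AlgSpMod

variable {S : Scheme.{u}} {X : Sp S} {U V : EtOver X}

/-- Over the complement of the open part points of the etale part are unique. -/
theorem eq_of_notMem_range (hsq : IsElemDistSq U.obj.hom V.obj.hom) {C : Over S} [IsReduced C.left]
    (p q : C ⟶ V.obj.left) (h : (yon S).map p ≫ V.obj.hom = (yon S).map q ≫ V.obj.hom)
    (hT : ∀ c : ↥C.left, Points.ofPt ((yon S).map p ≫ V.obj.hom) c ∉ Set.range (Points.map U.obj.hom)) : p = q := by
  obtain ⟨-, -, T, P, i, p₁, p₂, ⟨hi, hiT, -⟩, sqP, hp₁⟩ := hsq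
  let g := (yon S).map p ≫ V.obj.hom
  have : IsClosedImmersion (hi.rep.snd g).left := hi.property_snd g
  obtain ⟨l, hl⟩ := exists_factor_closed (hi.rep.snd g).left (𝟙 C.left) (by
    rintro c -
    obtain ⟨t, ht⟩ := hiT.ge (hT c)
    rw [Points.ofPt_eq_map_ofScheme] at ht
    obtain ⟨z, -, hz⟩ := exists_point_of_isPullback (hi.rep.isPullback g) ht
    let Z := hi.rep.pullback g
    refine ⟨Points.toScheme Z z, ?_⟩
    rw [← Points.ofScheme_toScheme Z z, Points.map_ofPt, Category.id_comp] at hz
    exact ((Points.toScheme_ofPt _ _).symm.trans (congrArg (Points.toScheme C) hz)).trans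
      (Points.toScheme_ofScheme _ _))
  let L : C ⟶ hi.rep.pullback g := Over.homMk l (by rw [← Over.w (hi.rep.snd g), reassoc_of% hl])
  have hL : (yon S).map L ≫ hi.rep.fst g ≫ i = g := by
    rw [(hi.rep.isPullback g).w, ← Category.assoc, ← Functor.map_comp,
      show L ≫ hi.rep.snd g = 𝟙 C from Over.OverMorphism.ext hl]
    simp
  have hLp : ((yon S).map L ≫ hi.rep.fst g) ≫ i = (yon S).map p ≫ V.obj.hom := (Category.assoc _ _ _).trans hL
  have e : sqP.lift ((yon S).map L ≫ hi.rep.fst g) ((yon S).map p) hLp =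
      sqP.lift ((yon S).map L ≫ hi.rep.fst g) ((yon S).map q) (hLp.trans h) := by
    rw [← cancel_mono p₁, sqP.lift_fst, sqP.lift_fst]
  have := congrArg (· ≫ p₂) e
  simp only [sqP.lift_snd] at this
  exact (yon S).map_injective this

/-- The complement of the open part is covered by the etale part. -/
theorem mem_range_of_notMem (hsq : IsElemDistSq U.obj.hom V.obj.hom) {x : Points X}
    (hx : x ∉ Set.range (Points.map U.obj.hom)) : x ∈ Set.range (Points.map V.obj.hom) := by
  obtain ⟨-, -, T, P, i, p₁, p₂, ⟨-, hiT, -⟩, sqP, hp₁⟩ := hsq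
  obtain ⟨t, rfl⟩ := hiT.ge hx
  refine ⟨Points.map (inv p₁ ≫ p₂) t, ?_⟩
  rw [← Points.map_comp, Category.assoc, ← sqP.w, IsIso.inv_hom_id_assoc]

theorem exists_point_prod {W E : EtOver X} (w : ↥W.obj.left.left)
    (h : Points.ofPt W.obj.hom w ∈ Set.range (Points.map E.obj.hom)) :
    w ∈ Set.range (EtOver.prodFst W E).hom.left.left := by
  obtain ⟨z, hz⟩ := h
  rw [Points.ofPt_eq_map_ofScheme] at hz
  obtain ⟨c, -, hc⟩ := exists_point_of_isPullback (E.property.1.isPullback W.obj.hom) hz
  let Z := E.property.1.pullback W.obj.hom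
  refine ⟨Points.toScheme Z c, ?_⟩
  rw [← Points.ofScheme_toScheme Z c, Points.map_ofPt, Category.id_comp] at hc
  exact ((Points.toScheme_ofPt _ _).symm.trans (congrArg (Points.toScheme W.obj.left) hc)).trans
    (Points.toScheme_ofScheme _ _)

theorem ofPt_hom_obj {E F : EtOver X} (g : F ⟶ E) (w : ↥F.obj.left.left) :
    Points.ofPt E.obj.hom (g.hom.left.left w) = Points.ofPt F.obj.hom w := by
  rw [← EtOver.w g]
  exact (ofPt_comp g.hom.left E.obj.hom w).symm

/-- An elementary distinguished square as a square of the site. -/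
noncomputable def sqMV (hsq : IsElemDistSq U.obj.hom V.obj.hom) : MV.Sq (etTop X) where
  U := U
  V := V
  UV := EtOver.prodObj U V
  pr₁ := EtOver.prodFst U V
  pr₂ := EtOver.prodSnd U V
  subsingleton {Z} a b := by
    haveI : Mono U.obj.hom := mono_of_openImmersion hsq.1
    have h := (EtOver.w a).trans (EtOver.w b).symm
    exact EtOver.hom_ext _ _ ((yon S).map_injective ((cancel_mono U.obj.hom).1 h))
  exists_lift {Z} u v := ⟨(EtOver.prodIsLimit U V).lift (BinaryFan.mk u v),
    (EtOver.prodIsLimit U V).fac (BinaryFan.mk u v) ⟨WalkingPair.right⟩⟩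
  hom_ext {Z} k k' h := by
    haveI : Mono U.obj.hom := mono_of_openImmersion hsq.1
    refine BinaryFan.IsLimit.hom_ext (EtOver.prodIsLimit U V) ?_ h
    have h' := (EtOver.w (k ≫ EtOver.prodFst U V)).trans (EtOver.w (k' ≫ EtOver.prodFst U V)).symm
    exact EtOver.hom_ext _ _ ((yon S).map_injective ((cancel_mono U.obj.hom).1 h'))
  cover W := by
    let E : ULift.{u + 1} Bool → EtOver X := fun b => bif b.down then U else V
    refine ⟨_, AlgSp.ofArrows_mem_etTop (ι := ULift.{u + 1} Bool) (fun b => EtOver.prodObj W (E b))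
      (fun b => EtOver.prodFst W (E b)) fun w => ?_, fun {Z} k hk => ?_⟩
    · by_cases h : Points.ofPt W.obj.hom w ∈ Set.range (Points.map U.obj.hom)
      · exact ⟨⟨true⟩, exists_point_prod w h⟩
      · exact ⟨⟨false⟩, exists_point_prod w (mem_range_of_notMem hsq h)⟩
    · obtain ⟨⟨b⟩, l, -⟩ := (Sieve.mem_ofArrows_iff _ _ _).1 hk
      cases b with
      | false => exact Or.inr ⟨l ≫ EtOver.prodSnd W V⟩
      | true => exact Or.inl ⟨l ≫ EtOver.prodSnd W U⟩
  separate {W} a b := by
    obtain ⟨δ, h₁, h₂⟩ := exists_diag V.property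
    haveI := isOpenImmersion_diag V.property h₂
    let hf := V.property
    obtain ⟨l, hl⟩ := (yon S).map_surjective ((hf.rep.isPullback' V.obj.hom).lift ((yon S).map a.hom.left)
      ((yon S).map b.hom.left) ((EtOver.w a).trans (EtOver.w b).symm))
    have hla : l ≫ hf.rep.fst' V.obj.hom = a.hom.left :=
      (yon S).map_injective (by rw [Functor.map_comp, hl]; exact IsPullback.lift_fst _ _ _ _)
    have hlb : l ≫ hf.rep.snd V.obj.hom = b.hom.left :=
      (yon S).map_injective (by rw [Functor.map_comp, hl]; exact IsPullback.lift_snd _ _ _ _)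
    let O : W.obj.left.left.Opens := l.left ⁻¹ᵁ δ.left.opensRange
    let E : ULift.{u + 1} Bool → EtOver X := fun c => bif c.down then EtOver.prodObj W U else etOpen W O
    let e : ∀ c, E c ⟶ W := fun c => match c with
      | ⟨true⟩ => EtOver.prodFst W U
      | ⟨false⟩ => etOpenι W O
    refine ⟨_, AlgSp.ofArrows_mem_etTop (ι := ULift.{u + 1} Bool) E e fun w => ?_, fun {Z} k hk => ?_⟩
    · by_cases h : Points.ofPt W.obj.hom w ∈ Set.range (Points.map U.obj.hom)
      · exact ⟨⟨true⟩, exists_point_prod w h⟩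
      · refine ⟨⟨false⟩, ?_⟩
        show w ∈ Set.range (etOpenι W O).hom.left.left
        rw [range_etOpenι]
        let C := Over.mk (W.obj.left.left.fromSpecResidueField w ≫ W.obj.left.hom)
        haveI : IsReduced C.left := inferInstanceAs (IsReduced (Spec _))
        have hw : ∀ c : ↥C.left, (resPt w).left c = w := fun c => Scheme.fromSpecResidueField_apply w c
        have he := eq_of_notMem_range hsq (resPt w ≫ a.hom.left) (resPt w ≫ b.hom.left)
          (by rw [Functor.map_comp, Functor.map_comp, Category.assoc, Category.assoc, EtOver.w a, EtOver.w b])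
          (fun c => by
            rw [Functor.map_comp, Category.assoc, EtOver.w a, ofPt_comp, hw]
            exact h)
        obtain ⟨c⟩ : Nonempty ↥C.left := ⟨IsLocalRing.closedPoint (W.obj.left.left.residueField w)⟩
        have hm := mem_range_diag hf h₁ h₂ (resPt w ≫ l) (by rw [Category.assoc, Category.assoc, hla, hlb]; exact he) c
        rw [Over.comp_left, Scheme.Hom.comp_apply, hw] at hm
        exact hm
    · obtain ⟨⟨c⟩, m, rfl⟩ := (Sieve.mem_ofArrows_iff _ _ _).1 hk
      cases c with
      | true => exact Or.inr ⟨m ≫ EtOver.prodSnd W U⟩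
      | false =>
        refine Or.inl ?_
        rw [Category.assoc, Category.assoc]
        congr 1
        show etOpenι W O ≫ a = etOpenι W O ≫ b
        refine EtOver.hom_ext _ _ ?_
        obtain ⟨r, hr⟩ : ∃ r, r ≫ δ.left = O.ι ≫ l.left := by
          refine ⟨IsOpenImmersion.lift δ.left (O.ι ≫ l.left) ?_, IsOpenImmersion.lift_fac _ _ _⟩
          rintro _ ⟨y, rfl⟩
          exact (y.2 : l.left (O.ι y) ∈ δ.left.opensRange)
        refine Over.OverMorphism.ext ?_
        show O.ι ≫ a.hom.left.left = O.ι ≫ b.hom.left.left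
        rw [← hla, ← hlb, Over.comp_left, Over.comp_left, ← reassoc_of% hr, ← reassoc_of% hr, ← Over.comp_left,
          ← Over.comp_left, h₁, h₂]

end Groth.Agent.AlgSpMod
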