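import Groth.Agent.AlgSpMod.MayerVietorisGeom
import Groth.Prelude.Def_W4SpPerfMV

/-!
# The Mayer–Vietoris sequence of an elementary distinguished square
-/

set_option backward.isDefEq.respectTransparency false
set_option backward.isDefEq.respectTransparency.types false
set_option maxHeartbeats 1000000

universe u

open CategoryTheory CategoryTheory.Limits AlgebraicGeometry Opposite AlgSp

namespace Groth.Agent.AlgSpMod

variable {S : Scheme.{u}} {X : Sp S}

theorem mono_of_sections {A B : ModEt X} (f : A ⟶ B)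
    (h : ∀ W (x y : A.val.obj (op W)), f.val.app (op W) x = f.val.app (op W) y → x = y) : Mono f := by
  refine ⟨fun {Z} a b hab => ?_⟩
  ext W z
  obtain ⟨W⟩ := W
  exact h W _ _ congr(($hab).val.app (op W) z)

theorem epi_of_locally_surjective {A B : ModEt X} (g : A ⟶ B)
    (h : ∀ W (z : B.val.obj (op W)), ∃ R ∈ etTop X W, ∀ {Z : EtOver X} (k : Z ⟶ W), R k →
      ∃ a, g.val.app (op Z) a = B.val.map k.op z) : Epi g := by
  haveI : Sheaf.IsLocallySurjective ((SheafOfModules.toSheaf (OEtRing X)).map g) := ⟨fun {W} z => by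
    obtain ⟨R, hR, hk⟩ := h W z
    refine (etTop X).superset_covering (fun Z k hkR => ?_) hR
    exact hk k hkR⟩
  haveI : Epi ((SheafOfModules.toSheaf (OEtRing X)).map g) := (Sheaf.isLocallySurjective_iff_epi' _ _).1 inferInstance
  exact (SheafOfModules.toSheaf (OEtRing X)).epi_of_epi_map inferInstance

theorem shortExact_of_sections {A B D : ModEt X} (f : A ⟶ B) (g : B ⟶ D) (w : f ≫ g = 0)
    (hf : ∀ W (x y : A.val.obj (op W)), f.val.app (op W) x = f.val.app (op W) y → x = y)
    (hex : ∀ W (z : B.val.obj (op W)), g.val.app (op W) z = 0 → ∃ x, f.val.app (op W) x = z)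
    (hg : ∀ W (z : D.val.obj (op W)), ∃ R ∈ etTop X W, ∀ {Z : EtOver X} (k : Z ⟶ W), R k →
      ∃ a, g.val.app (op Z) a = D.val.map k.op z) : (ShortComplex.mk f g w).ShortExact := by
  haveI := mono_of_sections f hf
  haveI := epi_of_locally_surjective g hg
  refine { exact := ?_ }
  let l := kernel.lift g f w
  haveI : Mono l := mono_of_mono_fac (kernel.lift_ι g f w)
  haveI : Epi l := by
    refine epi_of_locally_surjective l fun W z => ⟨⊤, (etTop X).top_mem W, fun {Z} k _ => ?_⟩
    let y := (kernel g).val.map k.op z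
    obtain ⟨x, hx⟩ := hex Z ((kernel.ι g).val.app (op Z) y) congr(($(kernel.condition g)).val.app (op Z) y)
    refine ⟨x, ?_⟩
    let F : ModEt X ⥤ ModuleCat.{u + 1} ((OEtRing X).obj.obj (op Z)) :=
      SheafOfModules.forget (OEtRing X) ⋙ PresheafOfModules.evaluation (OEtRing X).obj (op Z)
    haveI : PreservesLimitsOfShape WalkingCospan F := inferInstance
    haveI : Mono (F.map (kernel.ι g)) := F.map_mono (kernel.ι g)
    refine (ModuleCat.mono_iff_injective (F.map (kernel.ι g))).1 inferInstance ?_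
    exact (congr(($(kernel.lift_ι g f w)).val.app (op Z) x)).trans hx
  haveI : IsIso l := isIso_of_mono_of_epi l
  refine ShortComplex.exact_of_f_is_kernel _ (IsLimit.ofIsoLimit (kernelIsKernel g) ?_)
  exact Fork.ext (asIso l).symm (by simp [l])

theorem biprod_sections_ext {A B : ModEt X} {W : EtOver X} (x y : (A ⊞ B).val.obj (op W))
    (h₁ : (biprod.fst : A ⊞ B ⟶ A).val.app (op W) x = (biprod.fst : A ⊞ B ⟶ A).val.app (op W) y)
    (h₂ : (biprod.snd : A ⊞ B ⟶ B).val.app (op W) x = (biprod.snd : A ⊞ B ⟶ B).val.app (op W) y) : x = y := by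
  have e : ∀ z : (A ⊞ B).val.obj (op W), z =
      (biprod.inl : A ⟶ A ⊞ B).val.app (op W) ((biprod.fst : A ⊞ B ⟶ A).val.app (op W) z) +
        (biprod.inr : B ⟶ A ⊞ B).val.app (op W) ((biprod.snd : A ⊞ B ⟶ B).val.app (op W) z) := fun z =>
    (congr(($(biprod.total (X := A) (Y := B))).val.app (op W) z)).symm
  rw [e x, e y, h₁, h₂]

variable {U V : EtOver X}

theorem isSheaf_presheaf (F : ModEt X) :
    Presieve.IsSheaf (etTop X) (F.val.presheaf ⋙ CategoryTheory.forget AddCommGrpCat.{u + 1}) :=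
  (isSheaf_iff_isSheaf_of_type _ _).1
    ((Presheaf.isSheaf_iff_isSheaf_forget (etTop X) F.val.presheaf (CategoryTheory.forget AddCommGrpCat.{u + 1})).1
      F.isSheaf)

/-- The Mayer–Vietoris sequence is short exact. -/
theorem mayerVietoris (hsq : IsElemDistSq U.obj.hom V.obj.hom) (F : ModEt X) :
    ∃ h : biprod.lift ((resPushAdjEt U).unit.app F) ((resPushAdjEt V).unit.app F) ≫
        biprod.desc ((pushResNatTrans (EtOver.prodFst U V)).app F)
          (-((pushResNatTrans (EtOver.prodSnd U V)).app F)) = 0,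
      (ShortComplex.mk _ _ h).ShortExact := by
  let sq := sqMV hsq
  have hP := isSheaf_presheaf F
  let P := F.val.presheaf
  let α := (resPushAdjEt U).unit.app F
  let β := (resPushAdjEt V).unit.app F
  let γ := (pushResNatTrans (EtOver.prodFst U V)).app F
  let δ := (pushResNatTrans (EtOver.prodSnd U V)).app F
  have hα : ∀ W s, α.val.app (op W) s = MV.toProd P U W s := fun _ _ => rfl
  have hβ : ∀ W s, β.val.app (op W) s = MV.toProd P V W s := fun _ _ => rfl
  have hfst : ∀ W s, (biprod.fst : _ ⟶ (resModEt U ⋙ pushOnModEt U).obj F).val.app (op W)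
      ((biprod.lift α β).val.app (op W) s) = MV.toProd P U W s := fun W s =>
    (congr(($(biprod.lift_fst α β)).val.app (op W) s)).trans (hα W s)
  have hsnd : ∀ W s, (biprod.snd : _ ⟶ (resModEt V ⋙ pushOnModEt V).obj F).val.app (op W)
      ((biprod.lift α β).val.app (op W) s) = MV.toProd P V W s := fun W s =>
    (congr(($(biprod.lift_snd α β)).val.app (op W) s)).trans (hβ W s)
  have hdesc : ∀ W z, (biprod.desc γ (-δ)).val.app (op W) z =
      MV.dU sq P W ((biprod.fst : _ ⟶ (resModEt U ⋙ pushOnModEt U).obj F).val.app (op W) z) -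
        MV.dV sq P W ((biprod.snd : _ ⟶ (resModEt V ⋙ pushOnModEt V).obj F).val.app (op W) z) := fun W z => by
    have e : biprod.desc γ (-δ) = biprod.fst ≫ γ - biprod.snd ≫ δ := by
      rw [biprod.desc_eq, Preadditive.comp_neg, ← sub_eq_add_neg]
    rw [e]
    rfl
  have h : biprod.lift α β ≫ biprod.desc γ (-δ) = 0 := by
    ext W s
    obtain ⟨W⟩ := W
    show (biprod.desc γ (-δ)).val.app (op W) ((biprod.lift α β).val.app (op W) s) = 0
    rw [hdesc, hfst, hsnd, sub_eq_zero]
    show MV.res P _ (MV.res P prod.snd s) = MV.res P _ (MV.res P prod.snd s)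
    rw [MV.res_comp, MV.res_comp, prod.map_snd, prod.map_snd]
  refine ⟨h, shortExact_of_sections _ _ h (fun W x y hxy => ?_) (fun W z hz => ?_) fun W z => ?_⟩
  · refine MV.injective sq hP ?_ ?_
    · exact (hfst W x).symm.trans ((congrArg _ hxy).trans (hfst W y))
    · exact (hsnd W x).symm.trans ((congrArg _ hxy).trans (hsnd W y))
  · rw [hdesc, sub_eq_zero] at hz
    obtain ⟨x, hx₁, hx₂⟩ := MV.exists_glued sq hP _ _ hz
    exact ⟨x, biprod_sections_ext _ _ ((hfst W x).trans hx₁) ((hsnd W x).trans hx₂)⟩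
  · obtain ⟨R, hR, hk⟩ := MV.exists_diff_locally sq hP (W := W) z
    refine ⟨R, hR, fun {Z} k hkR => ?_⟩
    obtain ⟨a, b, hab⟩ := hk k hkR
    let il : (resModEt U ⋙ pushOnModEt U).obj F ⟶
        (resModEt U ⋙ pushOnModEt U).obj F ⊞ (resModEt V ⋙ pushOnModEt V).obj F := biprod.inl
    let ir : (resModEt V ⋙ pushOnModEt V).obj F ⟶
        (resModEt U ⋙ pushOnModEt U).obj F ⊞ (resModEt V ⋙ pushOnModEt V).obj F := biprod.inr
    refine ⟨il.val.app (op Z) a + ir.val.app (op Z) b, ?_⟩
    rw [map_add]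
    have e₁ : (biprod.desc γ (-δ)).val.app (op Z) (il.val.app (op Z) a) = MV.dU sq P Z a :=
      congr(($(biprod.inl_desc γ (-δ))).val.app (op Z) a)
    have e₂ : (biprod.desc γ (-δ)).val.app (op Z) (ir.val.app (op Z) b) = -MV.dV sq P Z b :=
      congr(($(biprod.inr_desc γ (-δ))).val.app (op Z) b)
    rw [e₁, e₂, ← sub_eq_add_neg, hab]
    show MV.res P _ z = MV.res P ((Over.star (EtOver.prodObj U V) ⋙ Over.forget _).map k) z
    congr 2

end Groth.Agent.AlgSpMod
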