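import Mathlib.CategoryTheory.Sites.Sheaf
import Mathlib.CategoryTheory.Limits.Shapes.BinaryProducts
import Mathlib.Algebra.Category.Grp.Limits
import Mathlib.CategoryTheory.Sites.Whiskering

/-!
# Mayer–Vietoris for a square of objects of a site with a subterminal corner
-/

universe w v u

open CategoryTheory CategoryTheory.Limits Opposite

namespace Groth.Agent.AlgSpMod.MV

variable {C : Type u} [Category.{v} C] {J : GrothendieckTopology C} [HasBinaryProducts C]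

/-- The data of the square. -/
structure Sq (J : GrothendieckTopology C) where
  U : C
  V : C
  UV : C
  pr₁ : UV ⟶ U
  pr₂ : UV ⟶ V
  subsingleton : ∀ {Z : C} (a b : Z ⟶ U), a = b
  exists_lift : ∀ {Z : C} (_ : Z ⟶ U) (v : Z ⟶ V), ∃ k : Z ⟶ UV, k ≫ pr₂ = v
  hom_ext : ∀ {Z : C} (k k' : Z ⟶ UV), k ≫ pr₂ = k' ≫ pr₂ → k = k'
  cover : ∀ W : C, ∃ R ∈ J W, ∀ {Z : C} (k : Z ⟶ W), R k → Nonempty (Z ⟶ U) ∨ Nonempty (Z ⟶ V)
  separate : ∀ {W : C} (a b : W ⟶ V), ∃ R ∈ J W, ∀ {Z : C} (k : Z ⟶ W), R k → k ≫ a = k ≫ b ∨ Nonempty (Z ⟶ U)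

variable (sq : Sq J) {P : Cᵒᵖ ⥤ AddCommGrpCat.{w}} (hP : Presieve.IsSheaf J (P ⋙ CategoryTheory.forget AddCommGrpCat.{w}))

/-- Restriction. -/
abbrev res (P : Cᵒᵖ ⥤ AddCommGrpCat.{w}) {A B : C} (k : B ⟶ A) : P.obj (op A) →+ P.obj (op B) := (P.map k.op).hom

theorem res_comp (P : Cᵒᵖ ⥤ AddCommGrpCat.{w}) {A B D : C} (k : B ⟶ A) (l : D ⟶ B) (x : P.obj (op A)) :
    res P l (res P k x) = res P (l ≫ k) x :=
  (congr($(P.map_comp k.op l.op) x)).symm

include hP in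
theorem ext_of_sieve {W : C} {R : Sieve W} (hR : R ∈ J W) {x y : P.obj (op W)}
    (h : ∀ {Z : C} (k : Z ⟶ W), R k → res P k x = res P k y) : x = y :=
  (hP R hR).isSeparatedFor.ext fun _ k hk => h k hk

include hP in
theorem exists_amalgamation {W : C} {R : Sieve W} (hR : R ∈ J W)
    (x : ∀ {Z : C} (k : Z ⟶ W), R k → P.obj (op Z))
    (hx : ∀ {Z Z' : C} (k : Z ⟶ W) (l : Z' ⟶ Z) (hk : R k), res P l (x k hk) = x (l ≫ k) (R.downward_closed hk l)) :
    ∃ y : P.obj (op W), ∀ {Z : C} (k : Z ⟶ W) (hk : R k), res P k y = x k hk := by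
  let fam : Presieve.FamilyOfElements (P ⋙ CategoryTheory.forget AddCommGrpCat.{w}) R.arrows := fun Z k hk => x k hk
  have hfam : fam.Compatible :=
    (Presieve.compatible_iff_sieveCompatible fam).2 fun Y Z k l hk => (hx k l hk).symm
  exact ⟨(hP R hR).amalgamate fam hfam, fun {Z} k hk => (hP R hR).valid_glue hfam k hk⟩

/-- The projection restriction. -/
noncomputable abbrev toProd (P : Cᵒᵖ ⥤ AddCommGrpCat.{w}) (A W : C) : P.obj (op W) →+ P.obj (op (A ⨯ W)) :=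
  res P prod.snd

include hP sq in
theorem injective {W : C} {x y : P.obj (op W)} (hU : toProd P sq.U W x = toProd P sq.U W y)
    (hV : toProd P sq.V W x = toProd P sq.V W y) : x = y := by
  obtain ⟨R, hR, hRk⟩ := sq.cover W
  refine ext_of_sieve hP hR fun {Z} k hk => ?_
  rcases hRk k hk with ⟨⟨a⟩⟩ | ⟨⟨b⟩⟩
  · have := congrArg (res P (prod.lift a k)) hU
    simp only [toProd, res_comp, prod.lift_snd] at this; exact this
  · have := congrArg (res P (prod.lift b k)) hV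
    simp only [toProd, res_comp, prod.lift_snd] at this; exact this

/-- The first map of the difference. -/
noncomputable abbrev dU (P : Cᵒᵖ ⥤ AddCommGrpCat.{w}) (W : C) : P.obj (op (sq.U ⨯ W)) →+ P.obj (op (sq.UV ⨯ W)) :=
  res P (prod.map sq.pr₁ (𝟙 W))

/-- The second map of the difference. -/
noncomputable abbrev dV (P : Cᵒᵖ ⥤ AddCommGrpCat.{w}) (W : C) : P.obj (op (sq.V ⨯ W)) →+ P.obj (op (sq.UV ⨯ W)) :=
  res P (prod.map sq.pr₂ (𝟙 W))

include hP in
theorem res_eq_of_mixed {W : C} {a : P.obj (op (sq.U ⨯ W))} {b : P.obj (op (sq.V ⨯ W))}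
    (h : dU sq P W a = dV sq P W b) {Z : C} (u : Z ⟶ sq.U) (v : Z ⟶ sq.V) (k : Z ⟶ W) :
    res P (prod.lift u k) a = res P (prod.lift v k) b := by
  obtain ⟨c, hc⟩ := sq.exists_lift u v
  have := congrArg (res P (prod.lift c k)) h
  simp only [res_comp, prod.lift_map, Category.comp_id] at this
  rwa [hc, sq.subsingleton (c ≫ sq.pr₁) u] at this

include hP in
theorem exists_glued {W : C} (a : P.obj (op (sq.U ⨯ W))) (b : P.obj (op (sq.V ⨯ W)))
    (h : dU sq P W a = dV sq P W b) : ∃ x, toProd P sq.U W x = a ∧ toProd P sq.V W x = b := by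
  classical
  obtain ⟨R, hR, hRk⟩ := sq.cover W
  have hvv : ∀ {Z : C} (v v' : Z ⟶ sq.V) (k : Z ⟶ W), res P (prod.lift v k) b = res P (prod.lift v' k) b := by
    intro Z v v' k
    obtain ⟨T, hT, hTk⟩ := sq.separate v v'
    refine ext_of_sieve hP hT fun {Z'} l hl => ?_
    rw [res_comp, res_comp, prod.comp_lift, prod.comp_lift]
    rcases hTk l hl with e | ⟨⟨u⟩⟩
    · rw [e]
    · rw [← res_eq_of_mixed sq hP h u (l ≫ v) (l ≫ k), ← res_eq_of_mixed sq hP h u (l ≫ v') (l ≫ k)]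
  let val : ∀ {Z : C} (k : Z ⟶ W), R k → P.obj (op Z) := fun {Z} k hk =>
    if hu : Nonempty (Z ⟶ sq.U) then res P (prod.lift hu.some k) a
    else res P (prod.lift ((hRk k hk).resolve_left hu).some k) b
  have hu : ∀ {Z : C} (k : Z ⟶ W) (hk : R k) (u : Z ⟶ sq.U), val k hk = res P (prod.lift u k) a := by
    intro Z k hk u
    simp only [val, dif_pos (Nonempty.intro u)]
    rw [sq.subsingleton (Nonempty.some ⟨u⟩) u]
  have hv : ∀ {Z : C} (k : Z ⟶ W) (hk : R k) (v : Z ⟶ sq.V), val k hk = res P (prod.lift v k) b := by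
    intro Z k hk v
    by_cases hU : Nonempty (Z ⟶ sq.U)
    · rw [hu k hk hU.some]; exact res_eq_of_mixed sq hP h _ _ _
    · simp only [val, dif_neg hU]; exact hvv _ _ _
  obtain ⟨x, hx⟩ := exists_amalgamation hP hR val fun {Z Z'} k l hk => by
    rcases hRk k hk with ⟨⟨u⟩⟩ | ⟨⟨v⟩⟩
    · rw [hu k hk u, hu (l ≫ k) (R.downward_closed hk l) (l ≫ u), res_comp, prod.comp_lift]
    · rw [hv k hk v, hv (l ≫ k) (R.downward_closed hk l) (l ≫ v), res_comp, prod.comp_lift]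
  refine ⟨x, ?_, ?_⟩
  · refine ext_of_sieve hP (J.pullback_stable prod.snd hR) fun {Z} k hk => ?_
    show res P k (res P prod.snd x) = res P k a
    rw [res_comp, hx _ hk, hu _ hk (k ≫ prod.fst), ← prod.comp_lift, prod.lift_fst_snd, Category.comp_id]
  · refine ext_of_sieve hP (J.pullback_stable prod.snd hR) fun {Z} k hk => ?_
    show res P k (res P prod.snd x) = res P k b
    rw [res_comp, hx _ hk, hv _ hk (k ≫ prod.fst), ← prod.comp_lift, prod.lift_fst_snd, Category.comp_id]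

include hP in
theorem exists_diff_of_hom_U {W : C} (u : W ⟶ sq.U) (s : P.obj (op (sq.UV ⨯ W))) :
    ∃ (a : P.obj (op (sq.U ⨯ W))) (b : P.obj (op (sq.V ⨯ W))), dU sq P W a - dV sq P W b = s := by
  obtain ⟨c, hc⟩ := sq.exists_lift (prod.snd ≫ u : sq.V ⨯ W ⟶ sq.U) prod.fst
  refine ⟨0, -res P (prod.lift c prod.snd) s, ?_⟩
  rw [map_zero, map_neg, sub_neg_eq_add, zero_add, res_comp]
  have e : prod.map sq.pr₂ (𝟙 W) ≫ prod.lift c prod.snd = 𝟙 _ := by
    apply prod.hom_ext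
    · refine sq.hom_ext _ _ ?_
      rw [Category.assoc, Category.assoc, prod.lift_fst_assoc, hc, prod.map_fst, Category.id_comp]
    · rw [Category.assoc, prod.lift_snd, prod.map_snd, Category.comp_id, Category.id_comp]
  rw [e]
  exact congr($(P.map_id _) s)

include hP in
theorem exists_diff_of_hom_V {W : C} (v : W ⟶ sq.V) (s : P.obj (op (sq.UV ⨯ W))) :
    ∃ (a : P.obj (op (sq.U ⨯ W))) (b : P.obj (op (sq.V ⨯ W))), dU sq P W a - dV sq P W b = s := by
  classical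
  obtain ⟨c, hc⟩ := sq.exists_lift (prod.fst : sq.U ⨯ W ⟶ sq.U) (prod.snd ≫ v)
  obtain ⟨a, ha⟩ : ∃ a, a = res P (prod.lift c prod.snd) s := ⟨_, rfl⟩
  obtain ⟨R, hR, hRk⟩ := sq.separate (prod.fst : sq.V ⨯ W ⟶ sq.V) (prod.snd ≫ v)
  let F : ∀ {Z : C} (k : Z ⟶ sq.V ⨯ W), (Z ⟶ sq.U) → P.obj (op Z) := fun {Z} k u =>
    res P (prod.lift u (k ≫ prod.snd)) a -
      res P (prod.lift (sq.exists_lift u (k ≫ prod.fst)).choose (k ≫ prod.snd)) s
  let val : ∀ {Z : C} (k : Z ⟶ sq.V ⨯ W), R k → P.obj (op Z) := fun {Z} k _ =>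
    if hu : Nonempty (Z ⟶ sq.U) then F k hu.some else 0
  have hF : ∀ {Z : C} (k : Z ⟶ sq.V ⨯ W) (u : Z ⟶ sq.U) (d : Z ⟶ sq.UV), d ≫ sq.pr₂ = k ≫ prod.fst →
      F k u = res P (prod.lift u (k ≫ prod.snd)) a - res P (prod.lift d (k ≫ prod.snd)) s := by
    intro Z k u d hd
    simp only [F]
    rw [sq.hom_ext (sq.exists_lift u (k ≫ prod.fst)).choose d
      ((sq.exists_lift u (k ≫ prod.fst)).choose_spec.trans hd.symm)]
  have hu : ∀ {Z : C} (k : Z ⟶ sq.V ⨯ W) (hk : R k) (u : Z ⟶ sq.U), val k hk = F k u := by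
    intro Z k hk u
    simp only [val, dif_pos (Nonempty.intro u)]
    rw [sq.subsingleton (Nonempty.some ⟨u⟩) u]
  have hnat : ∀ {Z Z' : C} (k : Z ⟶ sq.V ⨯ W) (l : Z' ⟶ Z) (u : Z ⟶ sq.U), res P l (F k u) = F (l ≫ k) (l ≫ u) := by
    intro Z Z' k l u
    obtain ⟨d, hd⟩ := sq.exists_lift u (k ≫ prod.fst)
    rw [hF k u d hd, hF (l ≫ k) (l ≫ u) (l ≫ d) (by rw [Category.assoc, hd, Category.assoc]), map_sub, res_comp,
      res_comp, prod.comp_lift, prod.comp_lift, Category.assoc]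
  have hzero : ∀ {Z : C} (k : Z ⟶ sq.V ⨯ W) (u : Z ⟶ sq.U),
      k ≫ prod.fst = k ≫ prod.snd ≫ v → F k u = 0 := by
    intro Z k u e
    obtain ⟨d, hd⟩ := sq.exists_lift u (k ≫ prod.fst)
    rw [hF k u d hd, ha, res_comp, prod.comp_lift, prod.lift_snd,
      sq.hom_ext (prod.lift u (k ≫ prod.snd) ≫ c) d (by
        rw [Category.assoc, hc, hd, e, prod.lift_snd_assoc, Category.assoc]), sub_self]
  obtain ⟨b, hb⟩ := exists_amalgamation hP hR val fun {Z Z'} k l hk => by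
    by_cases hU : Nonempty (Z ⟶ sq.U)
    · rw [hu k hk hU.some, hu (l ≫ k) (R.downward_closed hk l) (l ≫ hU.some), hnat]
    · have e : k ≫ prod.fst = k ≫ prod.snd ≫ v := (hRk k hk).resolve_right hU
      have : val k hk = 0 := dif_neg hU
      rw [this, map_zero]
      by_cases hU' : Nonempty (Z' ⟶ sq.U)
      · rw [hu (l ≫ k) (R.downward_closed hk l) hU'.some, hzero _ _ (by rw [Category.assoc, Category.assoc, e])]
      · simp only [val, dif_neg hU']
  refine ⟨a, b, ?_⟩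
  refine ext_of_sieve hP (J.pullback_stable (prod.map sq.pr₂ (𝟙 W)) hR) fun {Z} k hk => ?_
  rw [map_sub, res_comp, res_comp, hb _ hk, hu _ hk (k ≫ prod.fst ≫ sq.pr₁),
    hF _ _ (k ≫ prod.fst) (by simp)]
  have e₁ : prod.lift (k ≫ prod.fst ≫ sq.pr₁) ((k ≫ prod.map sq.pr₂ (𝟙 W)) ≫ prod.snd) =
      k ≫ prod.map sq.pr₁ (𝟙 W) := by
    refine prod.hom_ext ?_ ?_
    · exact (prod.lift_fst _ _).trans (by simp)
    · exact (prod.lift_snd _ _).trans (by simp)
  have e₂ : prod.lift (k ≫ prod.fst) ((k ≫ prod.map sq.pr₂ (𝟙 W)) ≫ prod.snd) = k := by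
    refine prod.hom_ext ?_ ?_
    · exact (prod.lift_fst _ _).trans (by simp)
    · exact (prod.lift_snd _ _).trans (by simp)
  rw [e₁, e₂, ← res_comp, sub_sub_cancel]

include hP in
/-- Differences are locally surjective. -/
theorem exists_diff_locally {W : C} (s : P.obj (op (sq.UV ⨯ W))) :
    ∃ R ∈ J W, ∀ {Z : C} (k : Z ⟶ W), R k → ∃ (a : P.obj (op (sq.U ⨯ Z))) (b : P.obj (op (sq.V ⨯ Z))),
      dU sq P Z a - dV sq P Z b = res P (prod.map (𝟙 sq.UV) k) s := by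
  obtain ⟨R, hR, hRk⟩ := sq.cover W
  refine ⟨R, hR, fun {Z} k hk => ?_⟩
  rcases hRk k hk with ⟨⟨u⟩⟩ | ⟨⟨v⟩⟩
  · exact exists_diff_of_hom_U sq hP u _
  · exact exists_diff_of_hom_V sq hP v _

end Groth.Agent.AlgSpMod.MV
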