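import Groth.Agent.AlgSpMod.Free
import Mathlib.Algebra.Category.ModuleCat.Sheaf.Quasicoherent

/-!
# Sections of a presented module over affine objects
-/

set_option backward.isDefEq.respectTransparency false
set_option backward.isDefEq.respectTransparency.types false
set_option maxHeartbeats 1000000

universe u

open CategoryTheory CategoryTheory.Limits AlgebraicGeometry Opposite AlgSp TensorProduct
open Groth.Agent.AlgSpLib Groth.Agent.AlgSpDec

namespace Groth.Agent.AlgSpMod

variable {S : Scheme.{u}} {X : Sp S} {B : EtOver X} {E₀ : Over B}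

/-- A morphism of modules on sections. -/
noncomputable def appMS {M M' : SheafOfModules.{u + 1} ((OEtRing X).over B)} (φ : M ⟶ M') (P : Over E₀) :
    MS M P →ₗ[AR P] MS M' P where
  toFun x := φ.val.app (op P.left) x
  map_add' x y := map_add (φ.val.app (op P.left)).hom x y
  map_smul' a x := (φ.val.app (op P.left)).hom.map_smul a x

theorem msMap_appMS {M M' : SheafOfModules.{u + 1} ((OEtRing X).over B)} (φ : M ⟶ M') {P P' : Over E₀}
    (h : P' ⟶ P) (x : MS M P) : msMap M' h (appMS φ P x) = appMS φ P' (msMap M h x) :=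
  congr($(((PresheafOfModules.toPresheaf _).map φ.val).naturality h.left.op).hom x).symm

theorem appMS_θ {M M' : SheafOfModules.{u + 1} ((OEtRing X).over B)} (φ : M ⟶ M')
    {N N' : Type (u + 1)} [AddCommGroup N] [Module (Rg E₀.left) N] [AddCommGroup N'] [Module (Rg E₀.left) N']
    (ι : N →ₗ[Rg E₀.left] MS M (Over.mk (𝟙 E₀))) (ι' : N' →ₗ[Rg E₀.left] MS M' (Over.mk (𝟙 E₀)))
    (g : N →ₗ[Rg E₀.left] N') (h : ∀ n, appMS φ _ (ι n) = ι' (g n)) (P : Over E₀)
    (z : AR P ⊗[Rg E₀.left] N) : appMS φ P (θ M ι P z) = θ M' ι' P (g.lTensor (AR P) z) := by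
  induction z with
  | zero => simp
  | tmul a n => rw [LinearMap.lTensor_tmul, θ_tmul, θ_tmul, map_smul, ← msMap_appMS, h]
  | add x y hx hy => simp only [map_add, hx, hy]

theorem exists_ι_eq {M : SheafOfModules.{u + 1} ((OEtRing X).over B)} {N : Type (u + 1)} [AddCommGroup N]
    [Module (Rg E₀.left) N] (ι : N →ₗ[Rg E₀.left] MS M (Over.mk (𝟙 E₀)))
    (h : Function.Surjective (θ M ι (Over.mk (𝟙 E₀)))) : Function.Surjective ι := by
  intro m
  obtain ⟨z, rfl⟩ := h m
  have hs : Function.Surjective (algebraMap (Rg E₀.left) (AR (Over.mk (𝟙 E₀)))) := fun a =>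
    ⟨a, congr($((OEt X).obj.map_id (op E₀.left)).hom a)⟩
  induction z with
  | zero => exact ⟨0, by rw [map_zero, map_zero]⟩
  | tmul a n =>
    obtain ⟨r, rfl⟩ := hs a
    refine ⟨r • n, ?_⟩
    rw [θ_tmul, map_smul, algebraMap_smul]
    have : toId (Over.mk (𝟙 E₀) : Over E₀) = 𝟙 _ := Over.OverMorphism.ext rfl
    rw [this]
    exact congrArg (r • ·) (congr($(M.val.presheaf.map_id (op E₀)).hom (ι n))).symm
  | add x y hx hy =>
    obtain ⟨a, ha⟩ := hx
    obtain ⟨b, hb⟩ := hy
    exact ⟨a + b, by rw [map_add, ha, hb, map_add]⟩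

variable {M : SheafOfModules.{u + 1} ((OEtRing X).over B)}

/-- Elements killed by a morphism of sheaves of modules are sections of its kernel. -/
theorem exists_kernel_preimage {M' : SheafOfModules.{u + 1} ((OEtRing X).over B)} (φ : M ⟶ M') (P : Over E₀)
    (x : MS M P) (hx : appMS φ P x = 0) : ∃ y : MS (kernel φ) P, appMS (kernel.ι φ) P y = x := by
  let R₁ := (OEtRing X).over B
  let F : SheafOfModules.{u + 1} R₁ ⥤ ModuleCat.{u + 1} (R₁.obj.obj (op P.left)) :=
    SheafOfModules.forget R₁ ⋙ PresheafOfModules.evaluation R₁.obj (op P.left)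
  have : F.PreservesZeroMorphisms := ⟨fun _ _ => rfl⟩
  let x' : F.obj M := x
  let g : ModuleCat.of (R₁.obj.obj (op P.left)) (R₁.obj.obj (op P.left)) ⟶ F.obj M :=
    ModuleCat.ofHom (LinearMap.toSpanSingleton _ _ x')
  have hg : g ≫ F.map φ = 0 := by
    refine ModuleCat.hom_ext (LinearMap.ext_ring ?_)
    show (F.map φ).hom ((1 : R₁.obj.obj (op P.left)) • x') = 0
    rw [one_smul]
    exact hx
  have : PreservesLimit (parallelPair φ 0) F := inferInstance
  let hl := isLimitForkMapOfIsLimit' F (kernel.condition φ) (kernelIsKernel φ)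
  obtain ⟨l, hl'⟩ := KernelFork.IsLimit.lift' hl g hg
  refine ⟨l.hom (1 : R₁.obj.obj (op P.left)), ?_⟩
  have := congr(($hl').hom (1 : R₁.obj.obj (op P.left)))
  refine Eq.trans this ?_
  exact one_smul (R₁.obj.obj (op P.left)) x'

/-- A presented module has a base change comparison which is bijective on affine objects. -/
theorem exists_bijective_θ (p : M.Presentation) (hE₀ : Aff E₀.left) :
    ∃ (N : Type (u + 1)) (_ : AddCommGroup N) (_ : Module (Rg E₀.left) N)
      (ι : N →ₗ[Rg E₀.left] MS M (Over.mk (𝟙 E₀))),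
      Function.Bijective ι ∧ (∀ P : Over E₀, Aff P.left.left → Function.Bijective (θ M ι P)) ∧
        (p.IsFinite → Module.FinitePresentation (Rg E₀.left) N) := by
  classical
  let R₀ := Rg E₀.left
  let I := p.generators.I
  let J := p.relations.I
  let π : Fr (B := B) I ⟶ M := p.generators.π
  let e : Fr (B := B) J ⟶ kernel π := p.relations.π
  let f : Fr (B := B) J ⟶ Fr (B := B) I := e ≫ kernel.ι π
  let id₀ : Over E₀ := Over.mk (𝟙 E₀)
  have hsurjI := exists_ι_eq (freeι (B := B) (E₀ := E₀) I) (θ_free_bijective I id₀ hE₀).2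
  choose c hc using fun j : J => hsurjI (appMS f id₀ (δ J id₀ j))
  let r : (J →₀ R₀) →ₗ[R₀] (I →₀ R₀) := Finsupp.linearCombination R₀ c
  have hfι : ∀ v : J →₀ R₀, appMS f id₀ (freeι (B := B) J v) = freeι (B := B) I (r v) := by
    intro v
    induction v using Finsupp.induction_linear with
    | zero => simp only [map_zero]
    | add a b ha hb => simp only [map_add, ha, hb]
    | single j a =>
      rw [show Finsupp.single j a = a • Finsupp.single j (1 : R₀) by simp, map_smul, map_smul, map_smul,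
        LinearMap.map_smul_of_tower]
      congr 1
      simp only [r, freeι, Finsupp.linearCombination_single, one_smul]
      exact (hc j).symm
  let πι : (I →₀ R₀) →ₗ[R₀] MS M id₀ :=
    ((appMS π id₀).restrictScalars R₀) ∘ₗ freeι (B := B) I
  have hπr : LinearMap.range r ≤ LinearMap.ker πι := by
    rintro _ ⟨v, rfl⟩
    show appMS π id₀ (freeι (B := B) I (r v)) = 0
    rw [← hfι]
    have : f ≫ π = 0 := by simp [f]
    exact congr(($this).val.app (op id₀.left) (freeι (B := B) J v))
  let ι : ((I →₀ R₀) ⧸ LinearMap.range r) →ₗ[R₀] MS M id₀ := (LinearMap.range r).liftQ πι hπr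
  have hθπ : ∀ (P : Over E₀) (w : AR P ⊗[R₀] (I →₀ R₀)),
      appMS π P (θ _ (freeι (B := B) I) P w) = θ M ι P ((LinearMap.range r).mkQ.lTensor (AR P) w) :=
    fun P w => appMS_θ π _ ι _ (fun n => rfl) P w
  have hepi : Epi π := p.generators.epi
  have hepi' : Epi e := p.relations.epi
  have key : ∀ P : Over E₀, Aff P.left.left → Function.Bijective (θ M ι P) := by
    refine θ_bijective M ι (fun P hP z hz => ?_) (fun P hP m => ?_)
    · obtain ⟨w, rfl⟩ := LinearMap.lTensor_surjective (AR P) (Submodule.mkQ_surjective (LinearMap.range r)) z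
      rw [← hθπ] at hz
      obtain ⟨y, hy⟩ := exists_kernel_preimage π P _ hz
      obtain ⟨R, hR, hRy⟩ := exists_preimage_of_epi e P y
      refine ⟨R, hR, fun V k hk hV => ?_⟩
      obtain ⟨x, hx⟩ := hRy V k hk
      obtain ⟨v, rfl⟩ := (θ_free_bijective J (sub P k) hV).2 x
      have e₁ : (arMap (subHom P k)).toLinearMap.rTensor _ w = r.lTensor (AR (sub P k)) v := by
        apply (θ_free_bijective I (sub P k) hV).1
        rw [← msMap_θ, ← hy, msMap_appMS, ← appMS_θ f _ _ r hfι]
        exact congrArg (appMS (kernel.ι π) (sub P k)) hx.symm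
      rw [← LinearMap.comp_apply, LinearMap.rTensor_comp_lTensor, ← LinearMap.lTensor_comp_rTensor,
        LinearMap.comp_apply, e₁, ← LinearMap.lTensor_comp_apply]
      rw [show (LinearMap.range r).mkQ ∘ₗ r = 0 from LinearMap.ext fun v =>
        (Submodule.Quotient.mk_eq_zero _).2 ⟨v, rfl⟩, LinearMap.lTensor_zero, LinearMap.zero_apply]
    · obtain ⟨R, hR, hRm⟩ := exists_preimage_of_epi π P m
      refine ⟨R, hR, fun V k hk hV => ?_⟩
      obtain ⟨x, hx⟩ := hRm V k hk
      obtain ⟨w, rfl⟩ := (θ_free_bijective I (sub P k) hV).2 x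
      exact ⟨_, (hθπ _ w).symm.trans hx⟩
  refine ⟨_, inferInstance, inferInstance, ι, ⟨?_, exists_ι_eq ι (key id₀ hE₀).2⟩, key, fun hp => ?_⟩
  swap
  · have : Finite I := hp.isFiniteType_generators.finite
    have : Finite J := hp.isFiniteType_relations.finite
    have : Module.Finite R₀ (J →₀ R₀) := Module.Finite.finsupp
    refine Module.finitePresentation_of_surjective _ (Submodule.mkQ_surjective _) ?_
    rw [Submodule.ker_mkQ]
    exact (LinearMap.range_eq_map r).symm ▸ (Module.Finite.fg_top.map r)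
  intro n n' hnn
  have h1 : (1 : AR id₀) ⊗ₜ[R₀] n = (1 : AR id₀) ⊗ₜ[R₀] n' := (key id₀ hE₀).1 (by rw [θ_tmul, θ_tmul, hnn])
  have hb : Function.Bijective (algebraMap R₀ (AR id₀)) :=
    Function.bijective_iff_has_inverse.2 ⟨fun a => a, fun a => congr($((OEt X).obj.map_id (op E₀.left)).hom a),
      fun a => congr($((OEt X).obj.map_id (op E₀.left)).hom a)⟩
  let el := (AlgEquiv.ofBijective (Algebra.ofId R₀ (AR id₀)) hb).toLinearEquiv
  have := congrArg ((TensorProduct.lid R₀ _) ∘ el.symm.toLinearMap.rTensor _) h1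
  have h1' : el.symm (1 : AR id₀) = 1 := (AlgEquiv.ofBijective (Algebra.ofId R₀ (AR id₀)) hb).symm.map_one
  simpa [h1'] using this

end Groth.Agent.AlgSpMod
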