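import Groth.Agent.AlgSpMod.PullQCoh
import Groth.Agent.AlgSpMod.Exact
import Groth.Agent.AlgSpMod.Push

/-!
# Sections of inverse images over base changes of affine objects
-/

set_option backward.isDefEq.respectTransparency false
set_option backward.isDefEq.respectTransparency.types false
set_option maxHeartbeats 1000000

universe u

open CategoryTheory CategoryTheory.Limits AlgebraicGeometry Opposite AlgSp TensorProduct
open Groth.Agent Groth.Agent.AlgSpLib Groth.Agent.AlgSpDec

namespace Groth.Agent.AlgSpMod

variable {S : Scheme.{u}}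

section Site

variable {X : Sp S} {B : EtOver X}

theorem sections_ext {M : SheafOfModules.{u + 1} ((OEtRing X).over B)} {s t : M.sections}
    (h : (s.val (op (base B)) : MS M (id₀ B)) = t.val (op (base B))) : s = t := by
  refine Subtype.ext (funext fun U => ?_)
  rw [← s.2 (Over.homMk U.unop.hom (Category.comp_id _) : U.unop ⟶ base B).op,
    ← t.2 (Over.homMk U.unop.hom (Category.comp_id _) : U.unop ⟶ base B).op]
  exact congrArg _ h

theorem globSec_val_base (M : SheafOfModules.{u + 1} ((OEtRing X).over B)) (x : MS M (id₀ B)) :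
    ((globSec M x).val (op (base B)) : MS M (id₀ B)) = x := by
  refine (globSec_val M x (id₀ B)).trans ?_
  rw [show toId (id₀ B) = 𝟙 _ from Over.OverMorphism.ext rfl]
  exact congr($(M.val.presheaf.map_id (op (base B))) _)

theorem θ_id₀_one {M : SheafOfModules.{u + 1} ((OEtRing X).over B)} {N : Type (u + 1)} [AddCommGroup N]
    [Module (Rg (base B).left) N] (ι : N →ₗ[Rg (base B).left] MS M (id₀ B)) (n : N) :
    θ M ι (id₀ B) (1 ⊗ₜ n) = ι n := by
  rw [θ_tmul, one_smul, show toId (id₀ B) = 𝟙 _ from Over.OverMorphism.ext rfl]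
  exact congr($(M.val.presheaf.map_id (op (base B))) _)

theorem appMS_δ {M : SheafOfModules.{u + 1} ((OEtRing X).over B)} {I : Type (u + 1)}
    (k : SheafOfModules.free I ⟶ M) (P : Over (base B)) (i : I) :
    appMS k P (δ (B := B) I P i) = (SheafOfModules.freeHomEquiv M k i).val (op P.left) := by
  conv_rhs => rw [← SheafOfModules.sectionsMap_freeHomEquiv_symm_freeSection (SheafOfModules.freeHomEquiv M k) i,
    Equiv.symm_apply_apply]
  rfl

/-- A morphism from a free module killing relations of a good module factors through it. -/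
theorem exists_desc {G : ModEt X} (hG : Good G) (hB : Aff B) {I J : Type (u + 1)}
    (c : (I →₀ Rg (base B).left) →ₗ[Rg (base B).left] SA G (𝟙 (base B).left)) (hc : Function.Surjective c)
    (d : (J →₀ Rg (base B).left) →ₗ[Rg (base B).left] (I →₀ Rg (base B).left)) (hd : Function.Exact d c)
    {Q : SheafOfModules.{u + 1} ((OEtRing X).over B)} (m : SheafOfModules.free I ⟶ Q)
    (hm : ∀ j, appMS m (id₀ B) (freeι (B := B) (E₀ := base B) I (d (Finsupp.single j 1))) = 0) :
    ∃ k : G.over B ⟶ Q, πOf (idι G B) c ≫ k = m := by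
  have hθ := fun P hP => hG.θ_bijective hB P hP
  haveI : Epi (πOf (idι G B) c) := epi_πOf _ _ (fun P hP => (hθ P hP).2) hc
  let π := πOf (idι G B) c
  let ι₂ : (I →₀ Rg (base B).left) →ₗ[Rg (base B).left] MS Q (id₀ B) :=
    { toFun := fun v => appMS m (id₀ B) (freeι (B := B) (E₀ := base B) I v)
      map_add' := fun a b => by rw [map_add, map_add]
      map_smul' := fun r a => by rw [map_smul, LinearMap.map_smul_of_tower]; rfl }
  have hι : ∀ v, ι₂ (d v) = 0 := fun v => by
    induction v using Finsupp.induction_linear with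
    | zero => simp only [map_zero]
    | add a b ha hb => rw [map_add, map_add, ha, hb, add_zero]
    | single j r =>
      rw [show Finsupp.single j r = r • Finsupp.single j (1 : Rg (base B).left) by simp, map_smul, map_smul,
        show ι₂ (d (Finsupp.single j 1)) = 0 from hm j, smul_zero]
  have hz : kernel.ι π ≫ m = 0 := by
    have h0 : ∀ (P : Over (base B)), Aff P.left.left → ∀ z : MS (kernel π) P, appMS m P (appMS (kernel.ι π) P z) = 0 := by
      intro P hP z
      obtain ⟨w, hw⟩ := (θ_free_bijective (B := B) (E₀ := base B) I P hP).2 (appMS (kernel.ι π) P z)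
      have hcw : c.lTensor (AR P) w = 0 := by
        apply (hθ P hP).1
        rw [map_zero, ← appMS_πOf, hw]
        exact congr(($(kernel.condition π)).val.app (op P.left) z)
      obtain ⟨v, rfl⟩ := (lTensor_exact (AR P) hd hc _).1 hcw
      rw [← hw, appMS_θ m _ ι₂ LinearMap.id (fun _ => rfl) P, LinearMap.lTensor_id, LinearMap.id_apply]
      clear hw hcw
      induction v with
      | zero => simp only [map_zero]
      | tmul a x => rw [LinearMap.lTensor_tmul, θ_tmul, hι, map_zero, smul_zero]
      | add a b ha hb =>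
        rw [map_add, map_add]
        exact (congrArg₂ (· + ·) ha hb).trans (add_zero _)
    ext U z
    obtain ⟨U⟩ := U
    let P := lift₀ U
    choose W hW hxW _ using fun x : ↥U.left.obj.left.left => exists_isAffineOpen_mem_and_subset
      (U := (⊤ : U.left.obj.left.left.Opens)) (x := x) trivial
    refine ext_of_cover Q (P := P) (κ := ↥U.left.obj.left.left) (Q := fun x => sub P (etOpenι U.left (W x)))
      (fun x => subHom P (etOpenι U.left (W x)))
      (AlgSp.ofArrows_mem_etTop _ _ fun x => ⟨x, by
        show x ∈ Set.range (etOpenι U.left (W x)).hom.left.left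
        rw [range_etOpenι]; exact hxW x⟩) fun x => ?_
    show msMap Q _ (appMS m P (appMS (kernel.ι π) P z)) = msMap Q _ 0
    rw [map_zero, msMap_appMS, msMap_appMS]
    exact h0 (sub P (etOpenι U.left (W x))) (show IsAffine _ from hW x) _
  exact ⟨(Abelian.epiIsCokernelOfKernel (KernelFork.ofι _ (kernel.condition π)) (kernelIsKernel π)).desc
    (CokernelCofork.ofπ m hz), Cofork.IsColimit.π_desc' (Abelian.epiIsCokernelOfKernel (KernelFork.ofι _ (kernel.condition π)) (kernelIsKernel π)) m (by rw [zero_comp]; exact hz)⟩

/-- The morphism of free modules given by a matrix of functions on the base. -/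
noncomputable def relHom {I J : Type (u + 1)}
    (d : (J →₀ Rg (base B).left) →ₗ[Rg (base B).left] (I →₀ Rg (base B).left)) :
    (SheafOfModules.free J : SheafOfModules.{u + 1} ((OEtRing X).over B)) ⟶ SheafOfModules.free I :=
  (SheafOfModules.freeHomEquiv _).symm fun j => globSec _ (freeι (B := B) (E₀ := base B) I (d (Finsupp.single j 1)))

theorem relHom_comp_eq_zero_iff {I J : Type (u + 1)}
    (d : (J →₀ Rg (base B).left) →ₗ[Rg (base B).left] (I →₀ Rg (base B).left))
    {P : SheafOfModules.{u + 1} ((OEtRing X).over B)} (k : SheafOfModules.free I ⟶ P) :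
    relHom d ≫ k = 0 ↔ ∀ j, appMS k (id₀ B) (freeι (B := B) (E₀ := base B) I (d (Finsupp.single j 1))) = 0 := by
  have hval : ∀ j, ((SheafOfModules.freeHomEquiv P (relHom d ≫ k) j).val (op (base B)) : MS P (id₀ B)) =
      appMS k (id₀ B) (freeι (B := B) (E₀ := base B) I (d (Finsupp.single j 1))) := fun j => by
    rw [SheafOfModules.freeHomEquiv_comp_apply, relHom, Equiv.apply_symm_apply]
    show appMS k (id₀ B) ((globSec _ (freeι (B := B) (E₀ := base B) I (d (Finsupp.single j 1)))).val (op (base B))) = _
    rw [globSec_val_base]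
  constructor
  · intro h j
    rw [← hval, h]
    rfl
  · intro h
    refine (SheafOfModules.freeHomEquiv P).injective (funext fun j => sections_ext ?_)
    refine (hval j).trans ((h j).trans ?_)
    rfl

theorem appMS_relHom {I J : Type (u + 1)}
    (d : (J →₀ Rg (base B).left) →ₗ[Rg (base B).left] (I →₀ Rg (base B).left)) (n : J →₀ Rg (base B).left) :
    appMS (relHom d) (id₀ B) (freeι (B := B) (E₀ := base B) J n) = freeι (B := B) (E₀ := base B) I (d n) := by
  induction n using Finsupp.induction_linear with
  | zero => simp only [map_zero]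
  | add a b ha hb => simp only [map_add, ha, hb]
  | single j a =>
    rw [show Finsupp.single j a = a • Finsupp.single j (1 : Rg (base B).left) by simp, map_smul, map_smul,
      map_smul, LinearMap.map_smul_of_tower]
    congr 1
    simp only [freeι, Finsupp.linearCombination_single, one_smul, appMS_δ]
    rw [show SheafOfModules.freeHomEquiv _ (relHom d) j =
        globSec _ (freeι (B := B) (E₀ := base B) I (d (Finsupp.single j 1))) from
      congrFun (Equiv.apply_symm_apply _ _) j]
    exact globSec_val_base _ _

/-- Local preimages in an exact sequence of modules. -/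
theorem exists_local_preimage_of_exact {M₁ M₂ M₃ : SheafOfModules.{u + 1} ((OEtRing X).over B)} (φ : M₁ ⟶ M₂)
    (γ : M₂ ⟶ M₃) (h : φ ≫ γ = 0) [Epi (kernel.lift γ φ h)] (P : Over (base B)) (x : MS M₂ P)
    (hx : appMS γ P x = 0) :
    ∃ R ∈ etTop X P.left.left, ∀ (V : EtOver X) (k : V ⟶ P.left.left), R k →
      ∃ y : MS M₁ (sub P k), appMS φ (sub P k) y = msMap M₂ (subHom P k) x := by
  obtain ⟨y, hy⟩ := exists_kernel_preimage γ P x hx
  obtain ⟨R, hR, hRy⟩ := exists_preimage_of_epi (kernel.lift γ φ h) P y
  refine ⟨R, hR, fun V k hk => ?_⟩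
  obtain ⟨v, hv⟩ := hRy V k hk
  refine ⟨v, ?_⟩
  rw [← hy, msMap_appMS, ← hv]
  exact (congr(($(kernel.lift_ι γ φ h)).val.app (op (sub P k).left) v)).symm

/-- A cokernel of free modules is presented by its sections on the base. -/
theorem exists_cokernelθ {I J : Type (u + 1)}
    (d : (J →₀ Rg (base B).left) →ₗ[Rg (base B).left] (I →₀ Rg (base B).left))
    {Q : SheafOfModules.{u + 1} ((OEtRing X).over B)} (e : cokernel (relHom d) ≅ Q) :
    ∃ ι : ((I →₀ Rg (base B).left) ⧸ LinearMap.range d) →ₗ[Rg (base B).left] MS Q (id₀ B),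
      ∀ P : Over (base B), Aff P.left.left → Function.Bijective (θ Q ι P) := by
  let γ : SheafOfModules.free I ⟶ Q := cokernel.π (relHom d) ≫ e.hom
  have hγ0 : relHom d ≫ γ = 0 := by rw [cokernel.condition_assoc, zero_comp]
  let ι₃' : (I →₀ Rg (base B).left) →ₗ[Rg (base B).left] MS Q (id₀ B) :=
    { toFun := fun v => appMS γ (id₀ B) (freeι (B := B) (E₀ := base B) I v)
      map_add' := fun a b => by rw [map_add, map_add]
      map_smul' := fun a b => by rw [map_smul, LinearMap.map_smul_of_tower]; rfl }
  have hker : LinearMap.range d ≤ LinearMap.ker ι₃' := by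
    rintro _ ⟨n, rfl⟩
    show appMS γ (id₀ B) (freeι (B := B) (E₀ := base B) I (d n)) = 0
    rw [← appMS_relHom]
    exact congr(($hγ0).val.app (op (id₀ B).left) (freeι (B := B) (E₀ := base B) J n))
  refine ⟨(LinearMap.range d).liftQ ι₃' hker, fun P hP => θ_bijective_coker (relHom d) γ
    (freeι (B := B) (E₀ := base B) J) (freeι (B := B) (E₀ := base B) I) d _ (appMS_relHom d) (fun n => rfl)
    (θ_free_bijective (B := B) (E₀ := base B) J) (θ_free_bijective (B := B) (E₀ := base B) I) ?_ ?_ P hP⟩
  · intro P x hx
    have h0 : appMS (cokernel.π (relHom d)) P x = 0 := by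
      have h1 : appMS (cokernel.π (relHom d)) P x = appMS e.inv P (appMS γ P x) :=
        (congr(($(show (γ ≫ e.inv) = cokernel.π (relHom d) by simp [γ])).val.app (op P.left) x)).symm
      rw [h1, hx, map_zero]
    haveI : Epi (kernel.lift (cokernel.π (relHom d)) (relHom d) (cokernel.condition _)) :=
      inferInstanceAs (Epi (Abelian.factorThruImage (relHom d)))
    exact exists_local_preimage_of_exact (relHom d) (cokernel.π (relHom d)) (cokernel.condition _) P x h0
  · intro P m
    exact exists_preimage_of_epi γ P m

/-- Sections of a cokernel of free modules over an affine object. -/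
theorem exists_cokernelSections (hB : Aff B) {I J : Type (u + 1)}
    (d : (J →₀ Rg (base B).left) →ₗ[Rg (base B).left] (I →₀ Rg (base B).left))
    {Q : SheafOfModules.{u + 1} ((OEtRing X).over B)} (e : cokernel (relHom d) ≅ Q) :
    Nonempty (((I →₀ Rg (base B).left) ⧸ LinearMap.range d) ≃ₗ[Rg (base B).left] MS Q (id₀ B)) := by
  obtain ⟨ι, hι⟩ := exists_cokernelθ d e
  exact ⟨LinearEquiv.ofBijective _ (bijective_ι_of_θ hB _ (hι (id₀ B) hB))⟩

end Site

section

variable {X Y : Sp S} {f : X ⟶ Y} (hf : Representable f) (E : EtOver Y)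

/-- Coefficientwise pullback of functions. -/
noncomputable def βF {I : Type (u + 1)} : (I →₀ Rg (base E).left) →+
    (I →₀ Rg (base (EtOver.bcObj hf E)).left) :=
  Finsupp.mapRange.addMonoidHom (β hf E).toAddMonoidHom

/-- The comparison of the two bases. -/
noncomputable def κ : base ((EtOver.bc hf).obj E) ⟶ (Over.post (X := E) (EtOver.bc hf)).obj (base E) :=
  Over.homMk (𝟙 _) ((Category.id_comp _).trans ((EtOver.bc hf).map_id E))

theorem κ_isIso : IsIso (κ hf E) := by
  haveI : IsIso ((Over.forget _).map (κ hf E)) := inferInstanceAs (IsIso (𝟙 _))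
  exact isIso_of_reflects_iso (κ hf E) (Over.forget _)

theorem appMS_freeEquiv {I : Type (u + 1)} (P : ModEtOn ((EtOver.bc hf).obj E))
    (k : SheafOfModules.free I ⟶ P) (v : I →₀ Rg (base E).left) :
    haveI := isContinuous_post hf E
    haveI := final_post hf E
    P.val.presheaf.map (κ hf E).op
        (show P.val.obj (op ((Over.post (X := E) (EtOver.bc hf)).obj (base E))) from
          appMS (freeEquiv (φE hf E) P k) (id₀ E) (freeι (B := E) (E₀ := base E) I v)) =
      appMS k (id₀ (EtOver.bcObj hf E)) (freeι (B := EtOver.bcObj hf E) (E₀ := base (EtOver.bcObj hf E)) I (βF hf E v)) := by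
  haveI := isContinuous_post hf E
  haveI := final_post hf E
  induction v using Finsupp.induction_linear with
  | zero =>
    simp only [map_zero]
  | add a b ha hb =>
    simp only [map_add]
    exact congrArg₂ (· + ·) ha hb
  | single i r =>
    have e : βF hf E (Finsupp.single i r) = Finsupp.single i (β hf E r) :=
      Finsupp.mapRange_single (hf := map_zero (β hf E))
    rw [e, freeι, freeι, Finsupp.linearCombination_single, Finsupp.linearCombination_single,
      LinearMap.map_smul_of_tower, LinearMap.map_smul_of_tower, appMS_δ, appMS_δ,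
      algebra_compatible_smul (AR (id₀ E)) r, algebra_compatible_smul (AR (id₀ (EtOver.bcObj hf E))) (show Rg (base (EtOver.bcObj hf E)).left from β hf E r)]
    rw [show SheafOfModules.freeHomEquiv _ (freeEquiv (φE hf E) P k) i =
        SheafOfModules.pushforwardSections (φE hf E) (SheafOfModules.freeHomEquiv P k i) from
          congrFun (Equiv.apply_symm_apply _ _) i]
    refine (P.val.map_smul (κ hf E).op _ _).trans ?_
    refine congrArg₂ (· • ·) ?_ ((SheafOfModules.freeHomEquiv P k i).2 (κ hf E).op)
    show rs (𝟙 _) (β hf E (rs (𝟙 E) r)) = rs (𝟙 _) (β hf E r)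
    rw [rs_id]
    exact (congrArg (β hf E) (rs_id E r)).trans (rs_id _ _).symm

theorem appMS_freeEquiv_eq_zero_iff {I : Type (u + 1)} (P : ModEtOn ((EtOver.bc hf).obj E))
    (k : SheafOfModules.free I ⟶ P) (v : I →₀ Rg (base E).left) :
    haveI := isContinuous_post hf E
    haveI := final_post hf E
    appMS (freeEquiv (φE hf E) P k) (id₀ E) (freeι (B := E) (E₀ := base E) I v) = 0 ↔
      appMS k (id₀ (EtOver.bcObj hf E))
        (freeι (B := EtOver.bcObj hf E) (E₀ := base (EtOver.bcObj hf E)) I (βF hf E v)) = 0 := by
  haveI := isContinuous_post hf E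
  haveI := final_post hf E
  haveI := κ_isIso hf E
  rw [← appMS_freeEquiv]
  constructor
  · intro h; rw [h]; exact map_zero (P.val.presheaf.map (κ hf E).op).hom
  · intro h
    exact ((AddCommGrpCat.mono_iff_injective (P.val.presheaf.map (κ hf E).op)).1 inferInstance)
      (h.trans (map_zero (P.val.presheaf.map (κ hf E).op).hom).symm)

variable [(SheafOfModules.pushforward.{u + 1} (bcRingHom hf)).IsRightAdjoint]

/-- An inverse image over a base change is the cokernel of the base changed relations. -/
theorem exists_pullCokernelIso (G : ModEt Y) (hG : Good G) (hE : Aff E) {I J : Type (u + 1)}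
    (c : (I →₀ Rg (base E).left) →ₗ[Rg (base E).left] SA G (𝟙 (base E).left)) (hc : Function.Surjective c)
    (d : (J →₀ Rg (base E).left) →ₗ[Rg (base E).left] (I →₀ Rg (base E).left)) (hd : Function.Exact d c)
    {r : (SheafOfModules.free J : ModEtOn ((EtOver.bc hf).obj E)) ⟶ SheafOfModules.free I}
    (hr : haveI := isContinuous_post hf E; haveI := final_post hf E;
      ∀ {P : ModEtOn ((EtOver.bc hf).obj E)} (k : SheafOfModules.free I ⟶ P),
      r ≫ k = 0 ↔ ∀ j, appMS (freeEquiv (φE hf E) P k) (id₀ E)
        (freeι (B := E) (E₀ := base E) I (d (Finsupp.single j 1))) = 0) :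
    Nonempty (cokernel r ≅ ((pullModEt hf).obj G).over (EtOver.bcObj hf E)) := by
  haveI := isContinuous_post hf E
  haveI := final_post hf E
  have hπd : ∀ j, appMS (πOf (idι G E) c) (id₀ E) (freeι (B := E) (E₀ := base E) I (d (Finsupp.single j 1))) = 0 := by
    intro j
    rw [← θ_id₀_one (freeι (B := E) (E₀ := base E) I), appMS_πOf, LinearMap.lTensor_tmul, (hd _).2 ⟨_, rfl⟩,
      tmul_zero, map_zero]
  haveI : Epi (πOf (idι G E) c) := epi_πOf _ _ (fun P hP => (hG.θ_bijective hE P hP).2) hc
  have hto : ∀ {P : ModEtOn ((EtOver.bc hf).obj E)} (k : cokernel r ⟶ P),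
      ∃ m, πOf (idι G E) c ≫ m = freeEquiv (φE hf E) P (cokernel.π r ≫ k) := fun {P} k =>
    exists_desc hG hE c hc d hd _ ((hr _).1 (by rw [cokernel.condition_assoc, zero_comp]))
  choose D hD using @hto
  let cr : (pushOver hf E ⋙ coyoneda.obj (op ((resModEt E).obj G))).CorepresentableBy (cokernel r) :=
    { homEquiv := fun {P} =>
        { toFun := fun k => D k
          invFun := fun m => cokernel.desc r ((freeEquiv (φE hf E) P).symm (πOf (idι G E) c ≫ m))
            ((hr _).2 fun j => by
              rw [Equiv.apply_symm_apply]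
              show appMS m (id₀ E) (appMS (πOf (idι G E) c) (id₀ E) _) = 0
              rw [hπd, map_zero])
          left_inv := fun k => coequalizer.hom_ext ((cokernel.π_desc _ _ _).trans
            ((Equiv.symm_apply_eq _).2 (hD k)))
          right_inv := fun m => (cancel_epi (πOf (idι G E) c)).1 ((hD _).trans
            ((congrArg (freeEquiv (φE hf E) P) (cokernel.π_desc _ _ _)).trans (Equiv.apply_symm_apply _ _))) }
      homEquiv_comp := fun {P P'} g k => (cancel_epi (πOf (idι G E) c)).1
        (((hD (k ≫ g)).trans ((congrArg (freeEquiv (φE hf E) P') (Category.assoc _ k g).symm).trans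
          (freeEquiv_comp (φE hf E) _ g))).trans ((congrArg (· ≫ _) (hD k).symm).trans (Category.assoc _ _ _))) }
  exact ⟨cr.uniqueUpToIso (homEquivOver hf E G)⟩

end

/-- Base change of a presented module. -/
theorem nonempty_baseChange_presented {A B M : Type*} [CommRing A] [CommRing B] [Algebra A B] [AddCommGroup M]
    [Module A M] {I J : Type*} (c : (I →₀ A) →ₗ[A] M) (hc : Function.Surjective c)
    (d : (J →₀ A) →ₗ[A] (I →₀ A)) (hd : Function.Exact d c) (d' : (J →₀ B) →ₗ[B] (I →₀ B))
    (hd' : ∀ j i, d' (Finsupp.single j 1) i = algebraMap A B (d (Finsupp.single j 1) i)) :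
    Nonempty (B ⊗[A] M ≃ₗ[B] (I →₀ B) ⧸ LinearMap.range d') := by
  classical
  let eI := TensorProduct.finsuppScalarRight A B B I
  let eJ := TensorProduct.finsuppScalarRight A B B J
  let p : (I →₀ B) →ₗ[B] B ⊗[A] M := (AlgebraTensorModule.map LinearMap.id c).comp eI.symm.toLinearMap
  have hp : Function.Surjective p :=
    (LinearMap.lTensor_surjective B hc : Function.Surjective (AlgebraTensorModule.map (LinearMap.id (R := B) (M := B)) c)).comp
      eI.symm.surjective
  have hcomm : ∀ z : B ⊗[A] (J →₀ A), eI (d.lTensor B z) = d' (eJ z) := by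
    intro z
    induction z with
    | zero => simp only [map_zero]
    | add a b ha hb => simp only [map_add, ha, hb]
    | tmul a v =>
      induction v using Finsupp.induction_linear with
      | zero => simp only [tmul_zero, map_zero]
      | add x y hx hy => simp only [tmul_add, map_add, hx, hy]
      | single j s =>
        have e2 : eJ (a ⊗ₜ Finsupp.single j s) = (s • a) • Finsupp.single j (1 : B) := by
          refine Finsupp.ext fun j' => ?_
          rw [TensorProduct.finsuppScalarRight_apply_tmul_apply, Finsupp.smul_apply, Finsupp.single_apply,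
            Finsupp.single_apply]
          split <;> simp
        rw [e2, map_smul, show Finsupp.single j s = s • Finsupp.single j (1 : A) by simp, ← smul_tmul,
          LinearMap.lTensor_tmul]
        refine Finsupp.ext fun i => ?_
        rw [TensorProduct.finsuppScalarRight_apply_tmul_apply, Finsupp.smul_apply, hd', smul_eq_mul,
          Algebra.smul_def, mul_comm]
  have hkp : LinearMap.ker p = LinearMap.range d' := by
    ext w
    rw [LinearMap.mem_ker]
    show c.lTensor B (eI.symm w) = 0 ↔ _
    rw [(lTensor_exact B hd hc) (eI.symm w)]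
    constructor
    · rintro ⟨z, hz⟩
      exact ⟨eJ z, (hcomm z).symm.trans ((congrArg eI hz).trans (eI.apply_symm_apply w))⟩
    · rintro ⟨v, hv⟩
      refine ⟨eJ.symm v, eI.injective ?_⟩
      rw [eI.apply_symm_apply, hcomm, eJ.apply_symm_apply, hv]
  exact ⟨(p.quotKerEquivOfSurjective hp).symm.trans (Submodule.quotEquivOfEq _ _ hkp)⟩

section

variable {X Y : Sp S} {f : X ⟶ Y} (hf : Representable f) (E : EtOver Y)

variable [(SheafOfModules.pushforward.{u + 1} (bcRingHom hf)).IsRightAdjoint]

/-- Sections of an inverse image over an affine base change are base changed sections. -/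
theorem exists_pullSections (G : ModEt Y) (hG : Good G) (hE : Aff E) (hW : Aff (EtOver.bcObj hf E)) :
    Nonempty (RB hf E ⊗[Rg E] SA G (𝟙 E) ≃ₗ[RB hf E] SB hf ((pullModEt hf).obj G) E) := by
  classical
  haveI := isContinuous_post hf E
  haveI := final_post hf E
  let W := EtOver.bcObj hf E
  let c : (SA G (𝟙 (base E).left) →₀ Rg (base E).left) →ₗ[Rg (base E).left] SA G (𝟙 (base E).left) :=
    Finsupp.linearCombination (Rg (base E).left) id
  let d : (LinearMap.ker c →₀ Rg (base E).left) →ₗ[Rg (base E).left] (SA G (𝟙 (base E).left) →₀ Rg (base E).left) :=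
    Finsupp.linearCombination (Rg (base E).left) Subtype.val
  have hc : Function.Surjective c := fun x => ⟨Finsupp.single x 1, by simp [c]⟩
  have hd : Function.Exact d c := by
    rw [LinearMap.exact_iff, Finsupp.range_linearCombination, Subtype.range_coe]
    exact (Submodule.span_eq _).symm
  let d' : (LinearMap.ker c →₀ Rg (base W).left) →ₗ[Rg (base W).left]
      (SA G (𝟙 (base E).left) →₀ Rg (base W).left) :=
    Finsupp.linearCombination (Rg (base W).left) fun j => βF hf E (d (Finsupp.single j 1))
  have hd' : ∀ j, d' (Finsupp.single j 1) = βF hf E (d (Finsupp.single j 1)) := fun j =>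
    (Finsupp.linearCombination_single _ _ _).trans (one_smul _ _)
  obtain ⟨e⟩ := exists_pullCokernelIso hf E G hG hE c hc d hd (r := relHom (B := W) d') fun {P} k => by
    refine (relHom_comp_eq_zero_iff d' k).trans (forall_congr' fun j => ?_)
    rw [hd', appMS_freeEquiv_eq_zero_iff]
  obtain ⟨q⟩ := exists_cokernelSections (B := W) hW d' e
  let dB : (LinearMap.ker c →₀ RB hf E) →ₗ[RB hf E] (SA G (𝟙 (base E).left) →₀ RB hf E) := d'
  obtain ⟨t⟩ := nonempty_baseChange_presented (A := Rg E) (B := RB hf E) (M := SA G (𝟙 E)) c hc d hd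
    dB (fun j i => DFunLike.congr_fun (hd' j) i)
  exact ⟨t.trans q⟩

end

end Groth.Agent.AlgSpMod
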