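import Groth.Agent.AlgSpMod.Push
import Groth.Agent.AlgSpMod.PushGlobal
import Groth.Agent.AlgSpMod.PullSections
import Groth.Agent.AlgSpMod.Finite
import Mathlib.RingTheory.Flat.Basic

/-!
# Inverse images of modules of finite presentation along affine morphisms
-/

set_option autoImplicit false
set_option backward.isDefEq.respectTransparency false
set_option backward.isDefEq.respectTransparency.types false

universe u

open CategoryTheory CategoryTheory.Limits AlgebraicGeometry Opposite AlgSp TensorProduct
open Groth.Agent Groth.Agent.AlgSpLib Groth.Agent.AlgSpDec Groth.Agent.AlgSpPts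

namespace Groth.Agent.AlgSpMod

variable {S : Scheme.{u}} [QuasiSeparatedSpace ↥S] {X Y : Sp S} {f : X ⟶ Y} (hf : Representable f)
  (hA : ∀ E : EtOver Y, Aff E → Aff (EtOver.bcObj hf E))

/-- Every point of an etale object has an affine neighbourhood over the base change of an affine chart. -/
theorem exists_affine_over_bcObj (hY : IsAlgSpace Y) (W : EtOver X) (v : ↥W.obj.left.left) :
    ∃ (T : EtOver X) (g : T ⟶ W) (E : EtOver Y), Aff T ∧ Aff E ∧ Nonempty (T ⟶ EtOver.bcObj hf E) ∧
      v ∈ Set.range g.hom.left.left := by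
  obtain ⟨E, hE, u', hu'⟩ := exists_affine_chart_point hY (Points.map f (Points.ofPt W.obj.hom v))
  obtain ⟨w, hw, -⟩ := exists_bcObj_point hf E _ u' hu'
  obtain ⟨T, g₁, g₂, z, hT, hz, -⟩ := exists_common_affine v w hw.symm
  exact ⟨T, g₁, E, hT, hE, ⟨g₂⟩, z, hz⟩

include hA in
/-- Inverse images of modules of finite presentation along affine morphisms are of finite presentation. -/
theorem fp_pull [(SheafOfModules.pushforward.{u + 1} (bcRingHom hf)).IsRightAdjoint] (hY : IsAlgSpace Y)
    (G : ModEt Y) [G.IsFinitePresentation] : ((pullModEt hf).obj G).IsFinitePresentation := by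
  haveI hq := isQuasicoherent_pull hf hY G
  refine isFinitePresentation_of_good (good_of_qcoh _) fun V hV => ?_
  haveI := hV
  haveI : IsAffine V.obj.left.left := hV
  choose T g E hT hE hc hv using exists_affine_over_bcObj hf hY V
  obtain ⟨t, ht⟩ := isCompact_univ.elim_finite_subcover (fun v => Set.range (g v).hom.left.left)
    (fun v => by
      have := EtOver.etale_left (g v)
      exact (g v).hom.left.left.isOpenMap.isOpen_range)
    (fun x _ => Set.mem_iUnion.2 ⟨x, hv x⟩)
  refine finitePresentation_of_cover (fun v : t => g v.1) (fun v => hT v.1) (fun x => ?_) fun v => ?_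
  · obtain ⟨v, hv', hx⟩ := Set.mem_iUnion₂.1 (ht (Set.mem_univ x))
    exact ⟨⟨v, hv'⟩, hx⟩
  obtain ⟨c⟩ := hc v.1
  let C := EtOver.bcObj hf (E v.1)
  let P := (pullModEt hf).obj G
  haveI := hE v.1
  haveI : Aff C := hA _ (hE v.1)
  obtain ⟨e⟩ := exists_pullSections hf (E v.1) G (good_of_qcoh G) (hE v.1) (hA _ (hE v.1))
  haveI := fp_SA (M := G) (E v.1)
  have h1 : Module.FinitePresentation (RB hf (E v.1)) (SB hf P (E v.1)) := Module.FinitePresentation.of_equiv e
  have h2 : Module.FinitePresentation (Rg C) (SA P (𝟙 C)) := h1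
  have h3 : Module.FinitePresentation (RA c) (RA c ⊗[Rg C] SA P (𝟙 C)) := inferInstance
  have h4 : Module.FinitePresentation (RA c) (SA P c) :=
    Module.FinitePresentation.of_equiv (bcEquiv (good_of_qcoh P) c (hA _ (hE v.1)) (hT v.1))
  letI : Module (RA c) (SA P (𝟙 (T v.1))) :=
    Module.compHom (SA P (𝟙 (T v.1))) (show RA c →+* Rg (T v.1) from RingHom.id _)
  let eT : SA P c ≃ₗ[RA c] SA P (𝟙 (T v.1)) := { toF c with map_smul' := toF_smul c }
  have h5 : Module.FinitePresentation (Rg (T v.1)) (SA P (𝟙 (T v.1))) :=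
    (Module.FinitePresentation.of_equiv eT : Module.FinitePresentation (RA c) (SA P (𝟙 (T v.1))))
  exact finitePresentation_bc (g v.1) hV (hT v.1) h5

end Groth.Agent.AlgSpMod
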