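import Groth.Agent.AlgSpMod.Push

/-!
# Weakly associated points of affine direct images from locally Noetherian spaces
-/

set_option backward.isDefEq.respectTransparency false
set_option backward.isDefEq.respectTransparency.types false
set_option maxHeartbeats 1000000

universe u

open CategoryTheory CategoryTheory.Limits AlgebraicGeometry Opposite AlgSp
open Groth.Agent Groth.Agent.AlgSpLib Groth.Agent.AlgSpDec

namespace Groth.Agent.AlgSpMod

theorem comap_mem_weakAss_noeth {A B : Type u} [CommRing A] [CommRing B] [Algebra A B] [IsNoetherianRing B]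
    {N : Type u} [AddCommGroup N] [Module A N] [Module B N] [IsScalarTower A B N] {q : Ideal B} {y : N}
    (hq : q ∈ (WeakAss.annEl B y).minimalPrimes) :
    ∃ s : N, q.comap (algebraMap A B) ∈ (WeakAss.annEl A s).minimalPrimes := by
  obtain ⟨hp, m, hm⟩ := WeakAss.mem_ass_of_mem_weakAss_of_fg (IsNoetherian.noetherian (q : Submodule B B)) ⟨y, hq⟩
  haveI : q.IsPrime := hp
  refine ⟨m, ?_⟩
  rw [← annEl_comap (B := B), show WeakAss.annEl B m = q from hm.symm]
  exact ⟨⟨inferInstance, le_refl _⟩, fun J hJ _ => hJ.2⟩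

variable {S : Scheme.{u}} {X Y : Sp S} {f : X ⟶ Y} (hf : Representable f) (M : ModEt X)

theorem weakAss_push_eq_noeth [M.IsQuasicoherent] (hA : ∀ E : EtOver Y, Aff E → Aff (EtOver.bcObj hf E))
    (hY : IsAlgSpace Y) (hX : IsLocNoethSp X) :
    WeakAssEt ((pushModEt hf).obj M) = Points.map f '' WeakAssEt M := by
  refine (weakAss_push_subset hf M hA).antisymm ?_
  rintro _ ⟨x, hx, rfl⟩
  obtain ⟨E, hE, u, hu⟩ := exists_affine_chart_point hY (Points.map f x)
  obtain ⟨w, hwx, hwu⟩ := exists_bcObj_point hf E x u hu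
  haveI : IsAffine (EtOver.bcObj hf E).obj.left.left := hA E hE
  obtain ⟨t, ht⟩ := (isWeakAssOn_iff M _ w).1 (isWeakAssOn_of_mem M hx _ w hwx)
  haveI : IsNoetherianRing (RB hf E) := isNoetherianRing_Rg hX (EtOver.bcObj hf E) (hA E hE)
  obtain ⟨s, hs⟩ := comap_mem_weakAss_noeth (A := Rg E) (B := RB hf E) (N := SB hf M E) (y := t)
    (q := (show Ideal (RB hf E) from pR (EtOver.bcObj hf E) w)) ht
  refine ⟨E, hE, u, hu, (isWeakAssOn_iff _ E u).2 ⟨(eSB hf M E).symm s, ?_⟩⟩
  have e : WeakAss.annEl (Rg E) ((eSB hf M E).symm s) = WeakAss.annEl (Rg E) s :=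
    WeakAss.annEl_map_of_injective (eSB hf M E).symm.toLinearMap (eSB hf M E).symm.injective s
  rw [e, ← hwu, ← comap_β_pR hf E w]
  exact hs

end Groth.Agent.AlgSpMod
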