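import Groth.Agent.AlgSpMod.Exact
import Groth.Agent.AlgSpDec.EtPullRestrict

/-!
# Quasi-coherence and restriction along etale morphisms
-/

set_option backward.isDefEq.respectTransparency false
set_option backward.isDefEq.respectTransparency.types false
set_option maxHeartbeats 1000000

universe u

open CategoryTheory CategoryTheory.Limits AlgebraicGeometry Opposite AlgSp TensorProduct
open Groth.Agent Groth.Agent.AlgSpLib Groth.Agent.AlgSpDec

namespace Groth.Agent.AlgSpMod

variable {S : Scheme.{u}} {X Y : Sp S} {f : X ⟶ Y} (hf : IsEtaleMor f)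

/-- Restriction of modules along an etale morphism. -/
noncomputable def restr (M : ModEt Y) : ModEt X :=
  haveI := PostcompSite.isContinuous f hf
  (SheafOfModules.pushforward.{u + 1} (EtPullRestrict.φ hf)).obj M

variable (M : ModEt Y)

theorem φ_app_eq (E : EtOver X) (a : Rg E) :
    haveI := PostcompSite.isContinuous f hf
    (EtPullRestrict.φ hf).hom.app (op E) a = (show Rg ((EtOver.postcomp f hf).obj E) from a) := by
  show (BigSite.ORing Scheme.etalePrecoverage S).obj.map (𝟙 E.obj.left).op a = _
  rw [op_id]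
  exact congr($((BigSite.ORing Scheme.etalePrecoverage S).obj.map_id (op E.obj.left)) a)

/-- The identification of tensor products on the two sites. -/
noncomputable def trT {E F : EtOver X} (g : F ⟶ E) :
    RA g ⊗[Rg E] SA (restr hf M) (𝟙 E) →+
      RA ((EtOver.postcomp f hf).map g) ⊗[Rg ((EtOver.postcomp f hf).obj E)]
        SA M (𝟙 ((EtOver.postcomp f hf).obj E)) :=
  TensorProduct.liftAddHom
    (AddMonoidHom.mk'
      (fun a => AddMonoidHom.mk'
        (fun n => (show RA ((EtOver.postcomp f hf).map g) from a) ⊗ₜ[Rg ((EtOver.postcomp f hf).obj E)]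
          (show SA M (𝟙 ((EtOver.postcomp f hf).obj E)) from n))
        (fun x y => tmul_add _ _ _))
      (fun a b => AddMonoidHom.ext fun n => add_tmul _ _ _))
    (fun r a n => by
      refine (TensorProduct.smul_tmul (show Rg ((EtOver.postcomp f hf).obj E) from r)
        (show RA ((EtOver.postcomp f hf).map g) from a) (show SA M (𝟙 ((EtOver.postcomp f hf).obj E)) from n)).trans ?_
      rfl)

theorem trT_bijective {E F : EtOver X} (g : F ⟶ E) : Function.Bijective (trT hf M g) := by
  let inv : RA ((EtOver.postcomp f hf).map g) ⊗[Rg ((EtOver.postcomp f hf).obj E)]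
      SA M (𝟙 ((EtOver.postcomp f hf).obj E)) →+ RA g ⊗[Rg E] SA (restr hf M) (𝟙 E) :=
    TensorProduct.liftAddHom
      (AddMonoidHom.mk'
        (fun a => AddMonoidHom.mk'
          (fun n => (show RA g from a) ⊗ₜ[Rg E] (show SA (restr hf M) (𝟙 E) from n))
          (fun x y => tmul_add _ _ _))
        (fun a b => AddMonoidHom.ext fun n => add_tmul _ _ _))
      (fun r a n => by
        refine (TensorProduct.smul_tmul (show Rg E from r) (show RA g from a)
          (show SA (restr hf M) (𝟙 E) from n)).trans ?_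
        rfl)
  refine Function.bijective_iff_has_inverse.2 ⟨inv, fun z => ?_, fun z => ?_⟩
  · induction z with
    | zero => simp only [map_zero]
    | tmul a n => rfl
    | add a b ha hb => simp only [map_add, ha, hb]
  · induction z with
    | zero => simp only [map_zero]
    | tmul a n => rfl
    | add a b ha hb => simp only [map_add, ha, hb]

theorem bc_restr {E F : EtOver X} (g : F ⟶ E) (z : RA g ⊗[Rg E] SA (restr hf M) (𝟙 E)) :
    (bc M ((EtOver.postcomp f hf).map g) (trT hf M g z) : sectModEt M ((EtOver.postcomp f hf).obj F)) =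
      bc (restr hf M) g z := by
  induction z with
  | zero => simp only [map_zero]
  | tmul a n =>
    refine (bc_tmul M ((EtOver.postcomp f hf).map g) _ _).trans (Eq.trans ?_ (bc_tmul (restr hf M) g a n).symm)
    exact congrArg (fun c : RA ((EtOver.postcomp f hf).map g) => c • resL M (𝟙 _) ((EtOver.postcomp f hf).map g)
      ((EtOver.postcomp f hf).map g) (Category.comp_id _) (show SA M (𝟙 _) from n)) (φ_app_eq hf F a).symm
  | add a b ha hb => simp only [map_add]; exact congrArg₂ (· + ·) ha hb

theorem bc_restr_bijective {E F : EtOver X} (g : F ⟶ E) :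
    Function.Bijective (bc (restr hf M) g) ↔ Function.Bijective (bc M ((EtOver.postcomp f hf).map g)) := by
  refine Iff.trans ?_ (Function.Bijective.of_comp_iff _ (trT_bijective hf M g))
  constructor <;> intro h
  · exact bijective_congr (β := sectModEt M ((EtOver.postcomp f hf).obj F)) (bc_restr hf M g) h
  · exact bijective_congr (β := sectModEt M ((EtOver.postcomp f hf).obj F)) (fun z => (bc_restr hf M g z).symm) h

theorem Good.restr (h : Good M) : Good (restr hf M) :=
  ⟨fun g hE hF => (bc_restr_bijective hf M g).2 (h.bij _ hE hF)⟩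

theorem mk_congr {L : Over S} {x y : (yon S).obj L ⟶ Y} (e : x = y) (hx : RepWith @Etale x) (hy : RepWith @Etale y) :
    EtOver.mk x hx = EtOver.mk y hy := by subst e; rfl

/-- A module whose restriction along an etale surjection from a scheme is good is good. -/
theorem good_of_restr {U : Over S} {p : (yon S).obj U ⟶ Y} (hp : RepWith @Etale p) (hs : RepWith @Surjective p)
    (h : Good (AlgSpMod.restr (isEtaleMor_of_repWith p hp) M)) : Good M := by
  let hf := isEtaleMor_of_repWith p hp
  refine ⟨fun {E V} g hE hV => ?_⟩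
  let U₀ : EtOver Y := EtOver.mk p hp
  have hR : Sieve.ofObjects (fun _ : PUnit.{u + 1} => U₀) E ∈ etTop Y E := by
    refine (etTop Y).superset_covering ?_ (AlgSp.ofArrows_mem_etTop (ι := PUnit.{u + 1})
      (fun _ => EtOver.prodObj E U₀) (fun _ => EtOver.prodFst E U₀) fun x => ?_)
    · intro Z k hk
      obtain ⟨_, l, rfl⟩ := (Sieve.mem_ofArrows_iff _ _ _).1 hk
      exact (Sieve.mem_ofObjects_iff _ _).2 ⟨⟨⟩, ⟨l ≫ EtOver.prodSnd E U₀⟩⟩
    · have : Surjective (hp.rep.snd E.obj.hom).left := hs.property _ _ _ (hp.rep.isPullback E.obj.hom)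
      obtain ⟨y, hy⟩ := (hp.rep.snd E.obj.hom).left.surjective x
      exact ⟨⟨⟩, y, hy⟩
  haveI := hE
  obtain ⟨E', q, κ, _, Ek, j, -, hq, hEk, hRj, hcov, -⟩ := exists_affine_cover hR
  refine bc_bijective_of_local M g hE hV (fun k => j k ≫ q) hEk ?_ fun k {F F'} g' hF hF' l => ?_
  · refine (etTop Y).transitive (AlgSp.ofArrows_mem_etTop (ι := PUnit.{u + 1}) (fun _ => E') (fun _ => q)
      fun x => ⟨⟨⟩, hq.surj x⟩) _ fun Z k hk => ?_
    obtain ⟨_, k', rfl⟩ := (Sieve.mem_ofArrows_iff _ _ _).1 hk
    rw [Sieve.pullback_comp]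
    refine (etTop Y).pullback_stable k' ((etTop Y).superset_covering ?_ hcov)
    rw [Sieve.generate_le_iff]
    rintro _ _ ⟨i⟩
    exact Sieve.ofArrows_mk _ _ i
  · obtain ⟨_, ⟨ψ⟩⟩ := (Sieve.mem_ofObjects_iff _ _).1 (hRj k)
    have key : ∀ (L L' : Over S) (x : (yon S).obj L ⟶ Y) (x' : (yon S).obj L' ⟶ Y) (hx : RepWith @Etale x)
        (hx' : RepWith @Etale x') (aL : L ⟶ U) (gL : L' ⟶ L) (_ : Etale aL.left) (_ : Etale gL.left)
        (_ : (yon S).map aL ≫ p = x) (w' : (yon S).map gL ≫ x = x'),
        Aff (EtOver.mk x hx) → Aff (EtOver.mk x' hx') →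
          Function.Bijective (bc M (EtOver.homMk gL w' : EtOver.mk x' hx' ⟶ EtOver.mk x hx)) := by
      intro L L' x x' hx hx' aL gL eL eL' w w' hA hA'
      subst w'
      subst w
      let F₀ : EtOver ((yon S).obj U) := EtOver.mk ((yon S).map aL) ((repWith_yon_map_iff _ _).2 eL)
      let F₀' : EtOver ((yon S).obj U) := EtOver.mk ((yon S).map gL ≫ (yon S).map aL)
        (repWith_comp ((repWith_yon_map_iff _ _).2 eL') ((repWith_yon_map_iff _ _).2 eL))
      let g₀ : F₀' ⟶ F₀ := EtOver.homMk gL rfl
      have h' := (bc_restr_bijective hf M g₀).1 (h.bij g₀ hA hA')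
      have congrF : ∀ {A A' : EtOver Y} (e : A' = EtOver.mk ((yon S).map gL ≫ (yon S).map aL ≫ p) hx')
          (k : A' ⟶ A), A = EtOver.mk ((yon S).map aL ≫ p) hx → k.hom.left.left ≍ gL.left →
          Function.Bijective (bc M k) → Function.Bijective (bc M (EtOver.homMk gL rfl :
            EtOver.mk ((yon S).map gL ≫ (yon S).map aL ≫ p) hx' ⟶ EtOver.mk ((yon S).map aL ≫ p) hx)) := by
        intro A A' e k e' hk hb
        subst e'; subst e
        have : k = EtOver.homMk gL rfl :=
          EtOver.hom_ext _ _ (Over.OverMorphism.ext (eq_of_heq hk))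
        exact this ▸ hb
      exact congrF (mk_congr (Category.assoc ((yon S).map gL) ((yon S).map aL) p) _ _) _ (mk_congr rfl _ _) HEq.rfl h'
    let a := l ≫ ψ
    exact key F.obj.left F'.obj.left F.obj.hom F'.obj.hom F.property F'.property a.hom.left g'.hom.left
      (EtOver.etale_left a) (EtOver.etale_left g') (EtOver.w a) (EtOver.w g') hF hF'

/-- The inverse image along an etale morphism is restriction. -/
noncomputable def pullIsoRestr (hrep : Representable f)
    [(SheafOfModules.pushforward.{u + 1} (bcRingHom hrep)).IsRightAdjoint] :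
    restr hf M ≅ (pullModEt hrep).obj M :=
  haveI := PostcompSite.isContinuous f hf
  ((EtPullRestrict.modAdj hrep hf).leftAdjointUniq (pullPushAdjModEt hrep)).app M

end Groth.Agent.AlgSpMod
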