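import Groth.Agent.AlgSpMod.EnoughInj
import Groth.Prelude.Def_AlgSpOX2
import Mathlib.CategoryTheory.Adjunction.AdjointFunctorTheorems
import Mathlib.CategoryTheory.Abelian.GrothendieckCategory.Coseparator
import Mathlib.Algebra.Category.ModuleCat.Adjunctions

set_option autoImplicit false
set_option backward.isDefEq.respectTransparency false
set_option backward.isDefEq.respectTransparency.types false
universe u
open CategoryTheory CategoryTheory.Limits AlgebraicGeometry Opposite AlgSp
namespace Groth.Agent.AlgSpMod
variable {S : Scheme.{u}} {X Y : Sp S} {f : X ⟶ Y}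

section
variable {C : Type (u+1)} [Category.{u} C] {D : Type (u+1)} [Category.{u} D] {J : GrothendieckTopology C} {K : GrothendieckTopology D}
  {F : C ⥤ D} {Sr : Sheaf J RingCat.{u+1}} {R : Sheaf K RingCat.{u+1}} [F.IsContinuous J K]
  (φ : Sr ⟶ (F.sheafPushforwardContinuous RingCat.{u+1} J K).obj R)

theorem preservesLimits_presheafPushforward : PreservesLimits (PresheafOfModules.pushforward.{u+1} φ.hom) :=
  ⟨fun {I} _ => ⟨fun {K'} => ⟨fun {c} hc => ⟨PresheafOfModules.evaluationJointlyReflectsLimits _ _ fun W =>
    isLimitOfPreserves (PresheafOfModules.evaluation R.obj (op (F.obj W.unop)) ⋙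
      ModuleCat.restrictScalars (φ.hom.app W).hom) hc⟩⟩⟩⟩

theorem preservesLimits_pushforward : PreservesLimits (SheafOfModules.pushforward.{u+1} φ) := by
  haveI := preservesLimits_presheafPushforward φ
  haveI : PreservesLimits (SheafOfModules.pushforward.{u+1} φ ⋙ SheafOfModules.forget Sr) :=
    inferInstanceAs (PreservesLimits (SheafOfModules.forget R ⋙ PresheafOfModules.pushforward.{u+1} φ.hom))
  exact preservesLimits_of_reflects_of_preserves _ (SheafOfModules.forget Sr)
end

/-- Direct image of modules has a left adjoint. -/
theorem isRightAdjoint_pushModEt (hf : Representable f) :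
    (SheafOfModules.pushforward.{u + 1} (bcRingHom hf)).IsRightAdjoint := by
  haveI := isGrothendieckAbelian_modEt X
  haveI : WellPowered.{u + 1} (ModEt X) := IsGrothendieckAbelian.wellPowered.{u + 1} _
  haveI := preservesLimits_pushforward (bcRingHom hf)
  exact isRightAdjoint_of_preservesLimits_of_isCoseparating (isCoseparator_coseparator (ModEt X)) _
end Groth.Agent.AlgSpMod
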