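import Groth.Agent.AlgSpMod.Exact
import Groth.Agent.AlgSpMod.AffinePush
import Groth.Agent.AlgSpMod.FinLocFreePush
import Groth.Agent.AlgSpMod.MayerVietorisMod

/-!
# Serre's criterion for schemes, in terms of quasi-coherent modules on the small etale site

If `H¹` of every quasi-coherent module on the small etale site of a quasi-compact scheme vanishes, the functions of the
scheme surject onto those of every closed subscheme; closed points then have affine neighbourhoods `Y_f`, and these `f`
generate the unit ideal as the row they define is surjective on global sections.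
-/

set_option linter.style.haveILetI false
set_option autoImplicit false
set_option backward.isDefEq.respectTransparency false
set_option backward.isDefEq.respectTransparency.types false
set_option maxHeartbeats 1000000

universe u

open CategoryTheory CategoryTheory.Limits AlgebraicGeometry Opposite AlgSp Abelian TopologicalSpace
open Groth.Agent Groth.Agent.AlgSpLib Groth.Agent.AlgSpDec

namespace Groth.Agent.AlgSpMod

variable {S : Scheme.{u}}

/-- If `H¹` of the kernel vanishes, an epimorphism is surjective on sections over a terminal object. -/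
theorem glob_surjective {X : Sp S} {C : ShortComplex (ModEt X)} (hC : C.ShortExact)
    [Subsingleton (HModEt X C.X₁ 1)] {T₀ : EtOver X} (hT : IsTerminal T₀) :
    Function.Surjective (C.g.val.app (op T₀)) := by
  haveI := hC.mono_f
  haveI := hC.epi_g
  let P := C.map (toAbEt X)
  haveI : Mono P.f := inferInstanceAs (Mono ((toAbEt X).map C.f))
  haveI : Epi P.g := QCoh.toSheaf_map_epi _ C.g
  have hP : P.ShortExact :=
    ShortComplex.ShortExact.mk' (hC.exact.map_of_mono_of_preservesKernel _ hC.mono_f inferInstance) inferInstance inferInstance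
  intro z
  let z' : HEt X P.X₃ 0 := (Sheaf.H.equiv₀ P.X₃ hT).symm z
  haveI : Subsingleton (HEt X P.X₁ 1) := inferInstanceAs (Subsingleton (HModEt X C.X₁ 1))
  obtain ⟨y, hy⟩ := Ext.covariant_sequence_exact₃ _ hP z' (n₁ := 1) rfl (Subsingleton.elim (α := HEt X P.X₁ 1) _ _)
  refine ⟨Sheaf.H.equiv₀ P.X₂ hT y, ?_⟩
  refine (Sheaf.H.equiv₀_naturality hT P.g y).trans ?_
  rw [Sheaf.H.map_apply, hy]
  exact (Sheaf.H.equiv₀ P.X₃ hT).apply_symm_apply z

section Yon

variable (Y : Over S)

/-- The identity object of the small etale site of a scheme. -/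
noncomputable def topObj : EtOver ((yon S).obj Y) := EtOver.mk (𝟙 _) (repWith_id @Etale Y)

/-- The identity object is terminal. -/
noncomputable def isTerminalTopObj : IsTerminal (topObj Y) :=
  IsTerminal.ofUniqueHom
    (fun E => EtOver.homMk ((yon S).preimage E.obj.hom)
      ((Category.comp_id _).trans ((yon S).map_preimage _)))
    fun E g => EtOver.hom_ext _ _ ((yon S).map_injective
      (((Category.comp_id _).symm.trans (EtOver.w g)).trans ((yon S).map_preimage E.obj.hom).symm))

variable {Y}

/-- A global function as an element of the ring of the identity object. -/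
def fnTop (a : Γ(Y.left, ⊤)) : Rg (topObj Y) := ULift.up a

/-- Restriction of a global function to an object of the site. -/
noncomputable def fnAt (a : Γ(Y.left, ⊤)) (E : EtOver ((yon S).obj Y)) : Rg E :=
  rs ((isTerminalTopObj Y).from E) (fnTop a)

theorem fnAt_map (a : Γ(Y.left, ⊤)) {E E' : EtOver ((yon S).obj Y)} (g : E' ⟶ E) :
    rs g (fnAt a E) = fnAt a E' := by
  refine (rs_comp _ g _).trans ?_
  exact congrArg (fun k => rs k (fnTop a)) ((isTerminalTopObj Y).hom_ext _ _)

theorem fnAt_top (a : Γ(Y.left, ⊤)) : fnAt a (topObj Y) = fnTop a := by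
  rw [fnAt, (isTerminalTopObj Y).hom_ext ((isTerminalTopObj Y).from (topObj Y)) (𝟙 _), rs_id]

/-- Multiplication by a global function. -/
noncomputable def mulFn (a : Γ(Y.left, ⊤)) : unitModEt ((yon S).obj Y) ⟶ unitModEt ((yon S).obj Y) :=
  (unitModEt _).unitHomEquiv.symm
    (PresheafOfModules.sectionsMk (fun E => (fnAt a E.unop : Rg E.unop)) fun {E E'} g => fnAt_map a g.unop)

theorem mulFn_app (a : Γ(Y.left, ⊤)) (E : EtOver ((yon S).obj Y)) (r : Rg E) :
    ((mulFn a).val.app (op E) r : Rg E) = r * fnAt a E := rfl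

theorem exists_row (l : List Γ(Y.left, ⊤)) : ∃ (M : ModEt ((yon S).obj Y)) (φ : M ⟶ unitModEt ((yon S).obj Y)),
    Good M ∧ (∀ x, ULift.down (φ.val.app (op (topObj Y)) x : Rg (topObj Y)) ∈ Ideal.span {f | f ∈ l}) ∧
      ∀ f ∈ l, ∀ (E : EtOver ((yon S).obj Y)) (r : Rg E), ∃ x, (φ.val.app (op E) x : Rg E) = r * fnAt f E := by
  induction l with
  | nil =>
    exact ⟨_, 0, good_unit, fun x => zero_mem _, fun f hf => absurd hf List.not_mem_nil⟩
  | cons f l ih =>
    obtain ⟨M, φ, hM, hr, hl⟩ := ih
    let sp := ShortComplex.Splitting.ofHasBinaryBiproduct (unitModEt ((yon S).obj Y)) M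
    refine ⟨_, biprod.desc (mulFn f) φ, good_of_extension _ sp.shortExact good_unit hM, fun x => ?_,
      fun g hg E r => ?_⟩
    · rw [show biprod.desc (mulFn f) φ = biprod.fst ≫ mulFn f + biprod.snd ≫ φ from biprod.desc_eq]
      show ULift.down (((mulFn f).val.app (op (topObj Y))
        ((biprod.fst : _ ⊞ M ⟶ unitModEt _).val.app (op (topObj Y)) x) : Rg (topObj Y))) +
        ULift.down ((φ.val.app (op (topObj Y))
        ((biprod.snd : unitModEt _ ⊞ M ⟶ M).val.app (op (topObj Y)) x) : Rg (topObj Y))) ∈ _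
      refine add_mem ?_ (Ideal.span_mono (fun _ hg => List.mem_cons_of_mem f hg) (hr _))
      rw [mulFn_app, fnAt_top]
      exact Ideal.mul_mem_left _ _ (Ideal.subset_span List.mem_cons_self)
    · rcases List.mem_cons.1 hg with rfl | hg
      · exact ⟨(biprod.inl : unitModEt _ ⟶ _ ⊞ M).val.app (op E) r,
          congr(($(biprod.inl_desc (mulFn g) φ)).val.app (op E) r)⟩
      · obtain ⟨x, hx⟩ := hl g hg E r
        exact ⟨(biprod.inr : M ⟶ unitModEt _ ⊞ M).val.app (op E) x,
          (congr(($(biprod.inr_desc (mulFn f) φ)).val.app (op E) x)).trans hx⟩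

variable (h1 : ∀ M : ModEt ((yon S).obj Y), M.IsQuasicoherent → Subsingleton (HModEt ((yon S).obj Y) M 1))

include h1

/-- An epimorphism of quasi-coherent modules is surjective on global sections. -/
theorem surjective_app_of_epi {M N : ModEt ((yon S).obj Y)} (φ : M ⟶ N) [Epi φ] (hM : Good M) (hN : Good N) :
    Function.Surjective (φ.val.app (op (topObj Y))) := by
  let C := ShortComplex.mk (kernel.ι φ) φ (kernel.condition φ)
  have hC : C.ShortExact :=
    { exact := ShortComplex.exact_of_f_is_kernel _ (kernelIsKernel φ)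
      mono_f := inferInstanceAs (Mono (kernel.ι φ))
      epi_g := inferInstanceAs (Epi φ) }
  haveI := h1 C.X₁ (good_of_left_exact C hC.exact hC.mono_f hM hN).isQuasicoherent
  exact glob_surjective hC (isTerminalTopObj Y)

/-- Functions extend from closed subschemes. -/
theorem appTop_surjective_of_closed {W : Over S} (i : W ⟶ Y) [IsClosedImmersion i.left] :
    Function.Surjective i.left.appTop := by
  have hi : RepWith @IsClosedImmersion ((yon S).map i) := (repWith_yon_map_iff _ _).2 inferInstance
  have hA : ∀ E : EtOver ((yon S).obj Y), Aff E → Aff (EtOver.bcObj hi.1 E) := fun E hE => by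
    haveI : IsClosedImmersion (hi.1.snd E.obj.hom).left := hi.property_snd E.obj.hom
    haveI : IsAffine E.obj.left.left := hE
    exact isAffine_of_isAffineHom (hi.1.snd E.obj.hom).left
  let φ : unitModEt ((yon S).obj Y) ⟶ (pushModEt hi.1).obj (unitModEt ((yon S).obj W)) :=
    SheafOfModules.unitToPushforwardObjUnit (bcRingHom hi.1)
  haveI : Epi φ := by
    refine epi_of_locally_surjective φ fun E z => ?_
    obtain ⟨κ, V, h, hV, hcov⟩ := exists_affine_open_cover E
    refine ⟨_, hcov, fun {Z} k hk => ?_⟩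
    obtain ⟨m, g, rfl⟩ := (Sieve.mem_ofArrows_iff _ _ _).1 hk
    haveI : IsClosedImmersion (hi.1.snd (V m).obj.hom).left := hi.property_snd _
    haveI : IsAffine (V m).obj.left.left := hV m
    let z' : Rg (EtOver.bcObj hi.1 (V m)) := ((pushModEt hi.1).obj (unitModEt _)).val.map (h m).op z
    obtain ⟨a, ha⟩ := (IsClosedImmersion.isAffine_surjective_of_isAffine (hi.1.snd (V m).obj.hom).left).2 z'.down
    refine ⟨rs g (ULift.up a : Rg (V m)), ?_⟩
    show β hi.1 Z (rs g (ULift.up a : Rg (V m))) =
      (((pushModEt hi.1).obj (unitModEt ((yon S).obj W))).val.presheaf.map (g ≫ h m).op z : Rg (EtOver.bcObj hi.1 Z))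
    rw [← β_natural, show β hi.1 (V m) (ULift.up a) = z' from ULift.ext _ _ ha, op_comp, Functor.map_comp]
    rfl
  have hs := surjective_app_of_epi h1 φ good_unit (good_push hi.1 _ hA good_unit)
  -- the base change of the identity object is the closed subscheme itself
  have sq := hi.1.isPullback (topObj Y).obj.hom
  haveI : IsIso (topObj Y).obj.hom := inferInstanceAs (IsIso (𝟙 ((yon S).obj Y)))
  haveI := sq.isIso_fst_of_isIso
  let e : hi.1.pullback (topObj Y).obj.hom ≅ W :=
    (yon S).preimageIso (asIso (hi.1.fst (topObj Y).obj.hom))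
  have he : e.hom ≫ i = hi.1.snd (topObj Y).obj.hom := (yon S).map_injective (by
    rw [Functor.map_comp, show (yon S).map e.hom = hi.1.fst (topObj Y).obj.hom from (yon S).map_preimage _]
    exact sq.w.trans (Category.comp_id _))
  intro c
  obtain ⟨a, ha⟩ := hs (ULift.up (e.hom.left.appTop c) : Rg (EtOver.bcObj hi.1 (topObj Y)))
  refine ⟨(show Rg (topObj Y) from a).down, ?_⟩
  haveI : IsIso e.hom.left := inferInstance
  apply (ConcreteCategory.bijective_of_isIso e.hom.left.appTop).1
  refine Eq.trans ?_ (congrArg ULift.down ha)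
  show (e.hom ≫ i).left.appTop (show Rg (topObj Y) from a).down =
    (hi.1.snd (topObj Y).obj.hom).left.appTop (show Rg (topObj Y) from a).down
  rw [he]; rfl

/-- A closed point has an affine neighbourhood which is the non-vanishing locus of a function. -/
theorem exists_basicOpen_affine_of_h1 {y : ↥Y.left} (hy : IsClosed ({y} : Set ↥Y.left)) :
    ∃ f : Γ(Y.left, ⊤), y ∈ Y.left.basicOpen f ∧ IsAffineOpen (Y.left.basicOpen f) := by
  obtain ⟨_, ⟨U, hU₀, rfl⟩, hyU, -⟩ :=
    Y.left.isBasis_affineOpens.exists_subset_of_mem_open (Set.mem_univ y) isOpen_univ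
  have hU : IsAffineOpen U := hU₀
  let C : Closeds ↥Y.left := ⟨insert y (U : Set ↥Y.left)ᶜ, by
    rw [Set.insert_eq]
    exact hy.union U.isOpen.isClosed_compl⟩
  let I := Scheme.IdealSheafData.vanishingIdeal C
  let W : Over S := Over.mk (I.subschemeι ≫ Y.hom)
  let i : W ⟶ Y := Over.homMk I.subschemeι rfl
  haveI : IsClosedImmersion i.left := inferInstanceAs (IsClosedImmersion I.subschemeι)
  have hrange : Set.range i.left = insert y (U : Set ↥Y.left)ᶜ := by
    show Set.range I.subschemeι = _
    rw [Scheme.IdealSheafData.range_subschemeι, Scheme.IdealSheafData.coe_support_vanishingIdeal]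
    rfl
  let V : Y.left.Opens := ⟨{y}ᶜ, hy.isOpen_compl⟩
  let O : ULift.{u} Bool → W.left.Opens := fun b => i.left ⁻¹ᵁ cond b.down U V
  have hO : ∀ w, w ∈ O ⟨true⟩ → w ∈ O ⟨false⟩ → False := fun w hw hw' => by
    rcases (hrange.le ⟨w, rfl⟩ : i.left w ∈ insert y (U : Set ↥Y.left)ᶜ) with h | h
    · exact hw' h
    · exact h hw
  have hcov : (⊤ : W.left.Opens) ≤ iSup O := fun w _ => by
    by_cases hw : i.left w = y
    · exact Opens.mem_iSup.2 ⟨⟨true⟩, (hw ▸ hyU : i.left w ∈ U)⟩
    · exact Opens.mem_iSup.2 ⟨⟨false⟩, hw⟩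
  let sf : ∀ b, Γ(W.left, O b) := fun b => if b.down then 1 else 0
  have hcompat : TopCat.Presheaf.IsCompatible (X := W.left.toPresheafedSpace.carrier) W.left.presheaf O sf := by
    intro a b
    rcases eq_or_ne a b with rfl | hab
    · rfl
    · refine TopCat.Presheaf.section_ext W.left.sheaf _ _ _ fun w hw => False.elim ?_
      obtain ⟨_ | _⟩ := a <;> obtain ⟨_ | _⟩ := b
      · exact hab rfl
      · exact hO w hw.2 hw.1
      · exact hO w hw.1 hw.2
      · exact hab rfl
  obtain ⟨s, hs, -⟩ := W.left.sheaf.existsUnique_gluing' O ⊤ (fun _ => homOfLE le_top) hcov sf hcompat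
  obtain ⟨f, hf⟩ := appTop_surjective_of_closed h1 i s
  have hpre : ∀ w, i.left w ∈ Y.left.basicOpen f ↔ w ∈ W.left.basicOpen s := fun w => by
    rw [← hf]
    show w ∈ i.left ⁻¹ᵁ Y.left.basicOpen f ↔ _
    rw [Scheme.preimage_basicOpen_top]
  have hres : ∀ b, O b ⊓ W.left.basicOpen s = W.left.basicOpen (sf b) := fun b => by
    rw [← show W.left.presheaf.map (homOfLE (le_top : O b ≤ ⊤)).op s = sf b from hs b, Scheme.basicOpen_res]
  refine ⟨f, ?_, ?_⟩
  · obtain ⟨w, hw⟩ : y ∈ Set.range i.left := hrange.ge (Set.mem_insert _ _)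
    rw [← hw, hpre]
    have hwO : w ∈ O ⟨true⟩ := show i.left w ∈ U from hw ▸ hyU
    refine ((hres ⟨true⟩).ge ?_).2
    show w ∈ W.left.basicOpen (1 : Γ(W.left, O ⟨true⟩))
    rw [Scheme.basicOpen_of_isUnit _ isUnit_one]
    exact hwO
  · have hfU : Y.left.basicOpen f ≤ U := fun z hz => by
      by_contra hzU
      obtain ⟨w, rfl⟩ : z ∈ Set.range i.left := hrange.ge (Set.mem_insert_of_mem _ hzU)
      have hzy : i.left w ≠ y := fun h => hzU (h ▸ hyU)
      have hw := (hres ⟨false⟩).le ⟨show i.left w ∈ V from hzy, (hpre w).1 hz⟩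
      rw [show sf ⟨false⟩ = 0 from rfl, Scheme.basicOpen_zero] at hw
      exact hw
    have := Scheme.basicOpen_res Y.left f (homOfLE (le_top : U ≤ ⊤)).op
    rw [inf_eq_right.2 hfU] at this
    rw [← this]
    exact hU.basicOpen _

/-- **Serre's criterion** for a quasi-compact scheme and its small etale site. -/
theorem isAffine_of_h1_etale [CompactSpace ↥Y.left] : IsAffine Y.left := by
  have hcov : ∀ y : ↥Y.left, ∃ f : Γ(Y.left, ⊤), y ∈ Y.left.basicOpen f ∧ IsAffineOpen (Y.left.basicOpen f) := fun y => by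
    obtain ⟨z, hz, hzc⟩ := IsClosed.exists_closed_singleton (isClosed_closure (s := ({y} : Set ↥Y.left)))
      ⟨y, subset_closure rfl⟩
    obtain ⟨f, hzf, hf⟩ := exists_basicOpen_affine_of_h1 h1 hzc
    exact ⟨f, (specializes_iff_mem_closure.2 hz).mem_open (Y.left.basicOpen f).isOpen hzf, hf⟩
  choose f hyf hf using hcov
  obtain ⟨t, ht⟩ := isCompact_univ.elim_finite_subcover (fun y => (Y.left.basicOpen (f y) : Set ↥Y.left))
    (fun y => (Y.left.basicOpen (f y)).isOpen) fun y _ => Set.mem_iUnion.2 ⟨y, hyf y⟩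
  obtain ⟨M, φ, hM, hr, hl⟩ := exists_row (t.toList.map f)
  haveI : Epi φ := by
    refine epi_of_locally_surjective φ fun E z => ?_
    obtain ⟨κ, V, h, hV, hcov'⟩ := exists_affine_open_cover E
    refine ⟨_, hcov', fun {Z} k hk => ?_⟩
    obtain ⟨m, g, rfl⟩ := (Sieve.mem_ofArrows_iff _ _ _).1 hk
    haveI : IsAffine (V m).obj.left.left := hV m
    -- on an affine object the functions `f y` generate the unit ideal
    let ev : ↥Y.left → Γ((V m).obj.left.left, ⊤) := fun y => (fnAt (f y) (V m)).down
    have hev : Ideal.span (ev '' ↑t) = ⊤ := by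
      rw [← IsAffineOpen.iSup_basicOpen_eq_self_iff (isAffineOpen_top _)]
      refine top_le_iff.1 fun p _ => ?_
      let a := ((isTerminalTopObj Y).from (V m)).hom.left.left
      obtain ⟨y, hy, hpy⟩ := Set.mem_iUnion₂.1 (ht (Set.mem_univ (a p)))
      refine Opens.mem_iSup.2 ⟨⟨ev y, y, hy, rfl⟩, ?_⟩
      show p ∈ (V m).obj.left.left.basicOpen (a.appTop (f y))
      rw [← Scheme.preimage_basicOpen_top]
      exact hpy
    let J : Ideal Γ((V m).obj.left.left, ⊤) :=
      { carrier := {c | ∃ x, (φ.val.app (op (V m)) x : Rg (V m)) = (show Rg (V m) from ULift.up c)}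
        add_mem' := fun {a b} ⟨x, hx⟩ ⟨x', hx'⟩ =>
          ⟨x + x', (map_add (φ.val.app (op (V m))).hom x x').trans (congrArg₂ (· + ·) hx hx')⟩
        zero_mem' := ⟨0, map_zero (φ.val.app (op (V m))).hom⟩
        smul_mem' := fun c a ⟨x, hx⟩ => ⟨(show Rg (V m) from ULift.up c) • x,
          ((φ.val.app (op (V m))).hom.map_smul (show Rg (V m) from ULift.up c) x).trans
            (congrArg (fun q : Rg (V m) => (show Rg (V m) from ULift.up c) * q) hx)⟩ }
    have hJ : ⊤ ≤ J := by
      rw [← hev, Ideal.span_le]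
      rintro _ ⟨y, hy, rfl⟩
      obtain ⟨x, hx⟩ := hl _ (List.mem_map.2 ⟨y, Finset.mem_toList.2 hy, rfl⟩) (V m) 1
      exact ⟨x, hx.trans (one_mul (fnAt (f y) (V m)))⟩
    obtain ⟨x, hx⟩ := hJ (Submodule.mem_top (x := (show Γ((V m).obj.left.left, ⊤) from ((unitModEt _).val.map (h m).op z : Rg (V m)).down)))
    refine ⟨M.val.map g.op x, ?_⟩
    refine ((congr($(((PresheafOfModules.toPresheaf _).map φ.val).naturality g.op).hom x) : _)).trans ?_
    show (unitModEt ((yon S).obj Y)).val.presheaf.map g.op (φ.val.app (op (V m)) x) = _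
    rw [show (φ.val.app (op (V m)) x : Rg (V m)) = _ from hx, op_comp]
    exact (congr($((unitModEt ((yon S).obj Y)).val.presheaf.map_comp (h m).op g.op) z)).symm
  obtain ⟨x, hx⟩ := surjective_app_of_epi h1 φ hM good_unit (show Rg (topObj Y) from 1)
  have h1' := hr x
  rw [show (φ.val.app (op (topObj Y)) x : Rg (topObj Y)) = (1 : Rg (topObj Y)) from hx] at h1'
  refine isAffine_of_isAffineOpen_basicOpen {g | g ∈ t.toList.map f} ((Ideal.eq_top_iff_one _).2 h1') ?_
  rintro g hg
  obtain ⟨y, -, rfl⟩ := List.mem_map.1 hg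
  exact hf y

end Yon

end Groth.Agent.AlgSpMod
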