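import Groth.Agent.AlgSpMod.Noeth
import Groth.Agent.AlgSpDec.EtStalkAb
import Groth.Agent.AlgSpDec.EtStalkHenz
import Groth.Agent.AlgSpPts.OpenSub

/-!
# Stalks of coherent modules and the vanishing locus
-/

set_option backward.isDefEq.respectTransparency false
set_option backward.isDefEq.respectTransparency.types false
set_option maxHeartbeats 1000000

universe u

open CategoryTheory CategoryTheory.Limits AlgebraicGeometry Opposite AlgSp TensorProduct
open Groth.Agent Groth.Agent.AlgSpLib Groth.Agent.AlgSpDec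
open Groth.Agent.AlgSpDec.EtStalkElts Groth.Agent.AlgSpDec.EtStalkHenz

namespace Groth.Agent.AlgSpMod

variable {S : Scheme.{u}} {X : Sp S} {M G F : ModEt X}

/-- A section, as a section of the underlying abelian sheaf. -/
def abSec {E : EtOver X} (s : sectModEt M E) : ((toAbEt X).obj M).obj.obj (op E) := s

theorem abSec_map {E V : EtOver X} (k : V ⟶ E) (s : sectModEt M E) :
    (((toAbEt X).obj M).obj.map k.op).hom (abSec s) = abSec (M.val.map k.op s) := rfl

/-- The points over which some affine object has no sections. -/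
def zeroSet (M : ModEt X) : Set (Points X) :=
  ⋃ (E : EtOver X) (_ : Aff E) (_ : Subsingleton (SA M (𝟙 E))), Set.range (Points.ofPt E.obj.hom)

theorem isOpen_zeroSet (M : ModEt X) : IsOpen (zeroSet M) :=
  isOpen_iUnion fun E => isOpen_iUnion fun _ => isOpen_iUnion fun _ =>
    (isOpenMap_ofPt E.property).isOpen_range

theorem subsingleton_of_hom (hM : Good M) {E V : EtOver X} (g : V ⟶ E) (hE : Aff E) (hV : Aff V)
    [Subsingleton (SA M (𝟙 E))] : Subsingleton (SA M g) := by
  refine (hM.bij g hE hV).2.subsingleton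

theorem mem_zeroLocus_of_mem (hM : Good M) {E : EtOver X} (s : sectModEt M E) {v : ↥E.obj.left.left}
    (hv : Points.ofPt E.obj.hom v ∈ zeroSet M) :
    v ∈ EtStalkAb.zeroLocus ((toAbEt X).obj M) (abSec s) := by
  simp only [zeroSet, Set.mem_iUnion] at hv
  obtain ⟨E₁, hE₁, h₁, v₁, hv₁⟩ := hv
  obtain ⟨V, g, g₁, w, hV, hw, -⟩ := exists_common_affine v v₁ hv₁.symm
  refine (EtStalkAb.mem_zeroLocus _).2 ⟨V, g, ?_, ⟨w, hw⟩⟩
  exact @Subsingleton.elim (SA M g₁) (subsingleton_of_hom hM g₁ hE₁ hV) _ _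

theorem eq_zero_of_range_subset (hX : IsAlgSpace X) (hM : Good M) {E : EtOver X}
    (hE : Set.range (Points.ofPt E.obj.hom) ⊆ zeroSet M) (s : sectModEt M E) : s = 0 := by
  have h := (EtStalkAb.map_eq_zero_iff ((toAbEt X).obj M) hX (abSec s) (𝟙 E)).2
    fun v _ => mem_zeroLocus_of_mem hM s (hE ⟨v, rfl⟩)
  simpa [abSec] using h

theorem stalkι_eq_zero (hX : IsAlgSpace X) (hM : Good M) {p : FieldPt X} (hp : p.IsGeometric)
    (h : Points.mk p ∈ zeroSet M) (N : EtNbhd p) (s : sectModEt M N.1) :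
    (stalkEtι p ((toAbEt X).obj M) N).hom (abSec s) = 0 :=
  (EtStalkAb.stalkι_eq_zero_iff_mem _ hX hp N _).2 (mem_zeroLocus_of_mem hM s ((ofPt_base p N).symm ▸ h))

theorem isZero_stalk_of_mem (hX : IsAlgSpace X) (hM : Good M) {p : FieldPt X} (hp : p.IsGeometric)
    (h : Points.mk p ∈ zeroSet M) : IsZero (stalkEt p ((toAbEt X).obj M)) := by
  rw [AddCommGrpCat.isZero_iff_subsingleton]
  refine subsingleton_of_forall_eq 0 fun z => ?_
  obtain ⟨N, σ, rfl⟩ := EtStalkAb.exists_rep _ hX hp z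
  exact stalkι_eq_zero hX hM hp h N σ

/-- Vanishing of the stalk of a module of finite type spreads out. -/
theorem mem_zeroSet_of_stalk (hX : IsAlgSpace X) (hM : Good M)
    (hft : ∀ E : EtOver X, Aff E → Module.Finite (Rg E) (SA M (𝟙 E))) {p : FieldPt X} (hp : p.IsGeometric)
    (h : ∀ (N : EtNbhd p) (s : sectModEt M N.1), Aff N.1 →
      (stalkEtι p ((toAbEt X).obj M) N).hom (abSec s) = 0) : Points.mk p ∈ zeroSet M := by
  classical
  obtain ⟨P⟩ := exists_etNbhd p hX hp
  obtain ⟨N, -, hN, -⟩ := exists_affine P ⊤ trivial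
  obtain ⟨T, hT⟩ := (hft N.1 hN).fg_top
  let Z := fun s : SA M (𝟙 N.1) => EtStalkAb.zeroLocus ((toAbEt X).obj M) (abSec (show sectModEt M N.1 from s))
  have hb : EtStalkElts.base p N ∈ T.inf Z := by
    have hm : ∀ (T' : Finset (SA M (𝟙 N.1))), EtStalkElts.base p N ∈ T'.inf Z := fun T' => by
      induction T' using Finset.induction with
      | empty => trivial
      | @insert a T' _ ih =>
        rw [Finset.inf_insert]
        exact ⟨(EtStalkAb.stalkι_eq_zero_iff_mem _ hX hp N _).1 (h N a hN), ih⟩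
    exact hm T
  obtain ⟨N', g, hN', hg⟩ := exists_affine N (T.inf Z) hb
  have h0 : ∀ x : SA M (𝟙 N.1), resL M (𝟙 N.1) g.val g.val (Category.comp_id g.val) x = 0 := by
    intro x
    have hx : x ∈ Submodule.span (Rg N.1) (T : Set (SA M (𝟙 N.1))) := hT ▸ Submodule.mem_top
    refine (Submodule.span_le (p := LinearMap.ker (resL M (𝟙 N.1) g.val g.val (Category.comp_id g.val)))).2
      (fun a ha => ?_) hx
    refine LinearMap.mem_ker.2 ((EtStalkAb.map_eq_zero_iff ((toAbEt X).obj M) hX (abSec a) g.val).2 fun v hv => ?_)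
    exact Finset.inf_le (f := Z) (Finset.mem_coe.1 ha) (hg hv)
  have h1 : Subsingleton (SA M g.val) := by
    refine subsingleton_of_forall_eq 0 fun y => ?_
    obtain ⟨z, rfl⟩ := (hM.bij g.val hN hN').2 y
    induction z with
    | zero => exact map_zero _
    | tmul a x => rw [bc_tmul, h0, smul_zero]
    | add a b ha hb => rw [map_add, ha, hb, add_zero]
  simp only [zeroSet, Set.mem_iUnion]
  exact ⟨N'.1, hN', h1, EtStalkElts.base p N', ofPt_base p N'⟩

/-! ### Morphisms -/

theorem stalk_map_ι (φ : G ⟶ F) {p : FieldPt X} (N : EtNbhd p) (s : sectModEt G N.1) :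
    ((stalkEtFunctor AddCommGrpCat.{u + 1} p).map ((toAbEt X).map φ))
      ((stalkEtι p ((toAbEt X).obj G) N).hom (abSec s)) =
      (stalkEtι p ((toAbEt X).obj F) N).hom (abSec (φ.val.app (op N.1) s)) :=
  ConcreteCategory.congr_hom (ι_colimMap
    (Functor.whiskerLeft (EtNbhd.toEtOver p).op ((toAbEt X).map φ).hom) (op N)) (abSec s)

theorem stalkι_res {p : FieldPt X} {N N' : EtNbhd p} (g : N' ⟶ N) (s : sectModEt M N.1) :
    (stalkEtι p ((toAbEt X).obj M) N').hom (abSec (M.val.map g.val.op s)) =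
      (stalkEtι p ((toAbEt X).obj M) N).hom (abSec s) :=
  ConcreteCategory.congr_hom (colimit.w (stalkEtDiagram p ((toAbEt X).obj M)) g.op) (abSec s)

theorem app_natural (φ : G ⟶ F) {E V : EtOver X} (k : V ⟶ E) (s : sectModEt G E) :
    φ.val.app (op V) (G.val.map k.op s) = F.val.map k.op (φ.val.app (op E) s) :=
  congr($(((PresheafOfModules.toPresheaf _).map φ.val).naturality k.op) s)

variable (φ : G ⟶ F) (hX : IsAlgSpace X)

/-- The locus where a morphism is injective. -/
abbrev monoSet : Set (Points X) := zeroSet (kernel φ)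

/-- The locus where a morphism is surjective. -/
abbrev epiSet : Set (Points X) := zeroSet (cokernel φ)

include hX in
theorem injective_app (hG : Good G) (hF : Good F) {E : EtOver X}
    (hE : Set.range (Points.ofPt E.obj.hom) ⊆ monoSet φ) : Function.Injective (φ.val.app (op E)) := by
  intro a b hab
  let C := ShortComplex.mk (kernel.ι φ) φ (kernel.condition φ)
  have h0 : appSA C.g (𝟙 E) (show SA G (𝟙 E) from (a - b)) = 0 := by
    show φ.val.app (op E) (a - b) = 0
    rw [map_sub, hab, sub_self]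
  obtain ⟨y, hy⟩ := ((left_exact C (ShortComplex.kernelSequence_exact φ) inferInstance (𝟙 E)).2 _).1 h0
  have hy0 : (show sectModEt (kernel φ) E from y) = 0 := eq_zero_of_range_subset hX (good_kernel φ hG hF) hE _
  refine sub_eq_zero.1 (hy.symm.trans ?_)
  show (kernel.ι φ).val.app (op E) (show sectModEt (kernel φ) E from y) = 0
  rw [hy0, map_zero]

include hX in
theorem mem_monoSet (hN : IsLocNoethSp X) [G.IsFinitePresentation] [F.IsFinitePresentation] {p : FieldPt X}
    (hp : p.IsGeometric)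
    (hinj : Function.Injective ((stalkEtFunctor AddCommGrpCat.{u + 1} p).map ((toAbEt X).map φ))) :
    Points.mk p ∈ monoSet φ := by
  refine mem_zeroSet_of_stalk hX (good_kernel φ (good_of_fp G) (good_of_fp F))
    (fun E hE => (haveI := finite_of_fp (M := G) E hE; finite_of_mono hN (kernel.ι φ) E hE)) hp fun N s hA => ?_
  have h1 : (stalkEtι p ((toAbEt X).obj G) N).hom (abSec ((kernel.ι φ).val.app (op N.1) s)) = 0 := by
    refine hinj (((stalk_map_ι φ N _).trans ?_).trans (map_zero _).symm)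
    rw [show φ.val.app (op N.1) ((kernel.ι φ).val.app (op N.1) s) = 0 from
      congr(($(kernel.condition φ)).val.app (op N.1) s)]
    exact map_zero _
  obtain ⟨M', g, hg⟩ := (EtStalkAb.stalkι_eq_zero_iff _ hX hp N _).1 h1
  refine (EtStalkAb.stalkι_eq_zero_iff _ hX hp N _).2 ⟨M', g, ?_⟩
  refine appSA_injective (kernel.ι φ) (𝟙 M'.1) ?_
  refine ((app_natural (kernel.ι φ) g.val s).trans hg).trans (map_zero (appSA (kernel.ι φ) (𝟙 M'.1))).symm

theorem exists_affine_res {p : FieldPt X} (N : EtNbhd p) :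
    ∃ (M' : EtNbhd p) (_ : M' ⟶ N), Aff M'.1 := by
  obtain ⟨M', g, h, -⟩ := exists_affine N ⊤ trivial
  exact ⟨M', g, h⟩

include hX in
theorem mem_epiSet [G.IsFinitePresentation] [F.IsFinitePresentation] {p : FieldPt X}
    (hp : p.IsGeometric)
    (hsurj : Function.Surjective ((stalkEtFunctor AddCommGrpCat.{u + 1} p).map ((toAbEt X).map φ))) :
    Points.mk p ∈ epiSet φ := by
  have hC := good_cokernel φ (good_of_fp G) (good_of_fp F)
  refine mem_zeroSet_of_stalk hX hC
    (fun E hE => (haveI := finite_of_fp (M := F) E hE; finite_of_epi (cokernel.π φ) (good_of_fp F) hC E hE)) hp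
    fun N s hA => ?_
  obtain ⟨t, rfl⟩ := surjective_of_epi (cokernel.π φ) (good_of_fp F) hC hA (show SA (cokernel φ) (𝟙 N.1) from s)
  obtain ⟨z, hz⟩ := hsurj ((stalkEtι p ((toAbEt X).obj F) N).hom (abSec (show sectModEt F N.1 from t)))
  obtain ⟨N₁, η, rfl⟩ := EtStalkAb.exists_rep _ hX hp z
  refine (stalk_map_ι (cokernel.π φ) N t).symm.trans ?_
  rw [← hz]
  refine (congrArg ((stalkEtFunctor AddCommGrpCat.{u + 1} p).map ((toAbEt X).map (cokernel.π φ)))
    (stalk_map_ι φ N₁ η)).trans ?_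
  refine (stalk_map_ι (cokernel.π φ) N₁ _).trans ?_
  rw [show (cokernel.π φ).val.app (op N₁.1) (φ.val.app (op N₁.1) η) = 0 from
    congr(($(cokernel.condition φ)).val.app (op N₁.1) η)]
  exact map_zero _

include hX in
theorem surjective_stalk (hG : Good G) (hF : Good F) {p : FieldPt X} (hp : p.IsGeometric)
    (h : Points.mk p ∈ epiSet φ) :
    Function.Surjective ((stalkEtFunctor AddCommGrpCat.{u + 1} p).map ((toAbEt X).map φ)) := by
  intro z
  obtain ⟨N, t, rfl⟩ := EtStalkAb.exists_rep _ hX hp z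
  have h0 := stalkι_eq_zero hX (good_cokernel φ hG hF) hp h N
    ((cokernel.π φ).val.app (op N.1) (show sectModEt F N.1 from t))
  obtain ⟨N₁, g, hg⟩ := (EtStalkAb.stalkι_eq_zero_iff _ hX hp N _).1 h0
  let C := ShortComplex.mk φ (cokernel.π φ) (cokernel.condition φ)
  have h2 : C.g.val.app (op N₁.1) (F.val.map g.val.op (show sectModEt F N.1 from t)) = 0 :=
    (app_natural (cokernel.π φ) g.val _).trans hg
  obtain ⟨R, hR, hRy⟩ := exists_preimage_of_exact C (ShortComplex.cokernelSequence_exact φ) N₁.1 _ h2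
  obtain ⟨V, k, hk, y, hy⟩ := EtPoint.jointly_surjective hp R hR N₁.2
  obtain ⟨η, hη⟩ := hRy V k hk
  let N₂ : EtNbhd p := ⟨V, y⟩
  let k' : N₂ ⟶ N₁ := CategoryOfElements.homMk _ _ k hy
  refine ⟨(stalkEtι p ((toAbEt X).obj G) N₂).hom (abSec η), (stalk_map_ι φ N₂ η).trans ?_⟩
  rw [show φ.val.app (op N₂.1) η = F.val.map k'.val.op (F.val.map g.val.op (show sectModEt F N.1 from t)) from hη]
  exact (stalkι_res k' _).trans (stalkι_res g _)

include hX in
theorem bijective_app (hG : Good G) (hF : Good F) {E : EtOver X}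
    (hE : Set.range (Points.ofPt E.obj.hom) ⊆ monoSet φ ∩ epiSet φ) : Function.Bijective (φ.val.app (op E)) := by
  have hinj : ∀ {V : EtOver X} (_ : V ⟶ E), Function.Injective (φ.val.app (op V)) := fun k => by
    refine injective_app φ hX hG hF fun x hx => ?_
    obtain ⟨v, rfl⟩ := hx
    rw [← ofPt_hom k v]
    exact (hE ⟨_, rfl⟩).1
  refine ⟨hinj (𝟙 E), fun t => ?_⟩
  let C := ShortComplex.mk φ (cokernel.π φ) (cokernel.condition φ)
  have h2 : C.g.val.app (op E) t = 0 :=
    eq_zero_of_range_subset hX (good_cokernel φ hG hF) (fun x hx => (hE hx).2) _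
  obtain ⟨R, hR, hRy⟩ := exists_preimage_of_exact C (ShortComplex.cokernelSequence_exact φ) E t h2
  let P := (sheafCompose (etTop X) (CategoryTheory.forget AddCommGrpCat.{u + 1})).obj ((toAbEt X).obj G)
  have hs := (isSheaf_iff_isSheaf_of_type _ _).1 P.property R hR
  choose y hy using hRy
  let fam : Presieve.FamilyOfElements P.obj R.arrows := fun V k hk => abSec (y V k hk)
  have hcompat : fam.Compatible := by
    intro Y₁ Y₂ Z g₁ g₂ f₁ f₂ hf₁ hf₂ w
    refine hinj (g₁ ≫ f₁) ?_
    show φ.val.app (op Z) (G.val.map g₁.op (y Y₁ f₁ hf₁)) = φ.val.app (op Z) (G.val.map g₂.op (y Y₂ f₂ hf₂))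
    rw [app_natural, app_natural, show φ.val.app (op Y₁) (y Y₁ f₁ hf₁) = _ from hy Y₁ f₁ hf₁,
      show φ.val.app (op Y₂) (y Y₂ f₂ hf₂) = _ from hy Y₂ f₂ hf₂]
    refine ((congr($(F.val.presheaf.map_comp f₁.op g₁.op) t)).symm.trans ?_).trans
      (congr($(F.val.presheaf.map_comp f₂.op g₂.op) t))
    exact congr($(congrArg (fun m : Z ⟶ E => F.val.presheaf.map m.op) w) t)
  refine ⟨hs.amalgamate fam hcompat, ?_⟩
  let PF := (sheafCompose (etTop X) (CategoryTheory.forget AddCommGrpCat.{u + 1})).obj ((toAbEt X).obj F)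
  refine ((isSheaf_iff_isSheaf_of_type _ _).1 PF.property R hR).isSeparatedFor.ext fun V k hk => ?_
  show F.val.map k.op (φ.val.app (op E) (show sectModEt G E from hs.amalgamate fam hcompat)) = F.val.map k.op t
  rw [← app_natural, show G.val.map k.op (show sectModEt G E from hs.amalgamate fam hcompat) = y V k hk from
    hs.valid_glue hcompat k hk]
  exact hy V k hk

end Groth.Agent.AlgSpMod
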