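import Groth.Agent.AlgSpMod.Stalk
import Groth.Agent.AlgSpMod.ClosedDescent

/-!
# Supports of sections
-/

set_option backward.isDefEq.respectTransparency false
set_option backward.isDefEq.respectTransparency.types false
set_option maxHeartbeats 1000000

universe u

open CategoryTheory CategoryTheory.Limits AlgebraicGeometry Opposite AlgSp TensorProduct
open Groth.Agent Groth.Agent.AlgSpLib Groth.Agent.AlgSpDec

namespace Groth.Agent.AlgSpMod

variable {S : Scheme.{u}} {X : Sp S} {M : ModEt X}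

/-- The open set where a section vanishes. -/
noncomputable def zl {E : EtOver X} (s : sectModEt M E) : E.obj.left.left.Opens :=
  EtStalkAb.zeroLocus ((toAbEt X).obj M) (abSec s)

theorem mem_zl {E : EtOver X} {s : sectModEt M E} {v : ↥E.obj.left.left} :
    v ∈ zl s ↔ ∃ (V : EtOver X) (φ : V ⟶ E), M.val.map φ.op s = 0 ∧ v ∈ Set.range φ.hom.left.left :=
  EtStalkAb.mem_zeroLocus _

theorem mem_zl_zero {E : EtOver X} (v : ↥E.obj.left.left) : v ∈ zl (0 : sectModEt M E) :=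
  mem_zl.2 ⟨E, 𝟙 E, map_zero _, v, rfl⟩

theorem mem_zl_add {E : EtOver X} {s t : sectModEt M E} {v : ↥E.obj.left.left} (hs : v ∈ zl s) (ht : v ∈ zl t) :
    v ∈ zl (s + t) := by
  obtain ⟨V, φ, hφ, x, hx⟩ := mem_zl.1 hs
  obtain ⟨W, ψ, hψ, y, hy⟩ := mem_zl.1 ht
  have sq := (IsPullback.of_hasPullback φ.hom.left ψ.hom.left).map (CategoryTheory.Over.forget S)
  obtain ⟨r, hr₁, -⟩ := Scheme.exists_preimage_of_isPullback sq x y (hx.trans hy.symm)
  refine mem_zl.2 ⟨EtOver.pullbackObj φ ψ, EtOver.pullbackFst φ ψ ≫ φ, ?_, r, ?_⟩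
  · rw [map_add, map_comp_sect, hφ, map_zero, zero_add, EtOver.pullback_condition, map_comp_sect, hψ, map_zero]
  · exact ((Scheme.Hom.comp_apply _ _ r).trans (congrArg _ hr₁)).trans hx

theorem mem_zl_sm {E : EtOver X} {s : sectModEt M E} (a : Rg E) {v : ↥E.obj.left.left} (hs : v ∈ zl s) :
    v ∈ zl (sm a s) := by
  obtain ⟨V, φ, hφ, hv⟩ := mem_zl.1 hs
  refine mem_zl.2 ⟨V, φ, ?_, hv⟩
  rw [map_sm, hφ]
  exact smul_zero _

theorem mem_zl_map {E E' : EtOver X} (k : E' ⟶ E) {s : sectModEt M E} {v : ↥E'.obj.left.left} :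
    v ∈ zl (show sectModEt M E' from M.val.map k.op s) ↔ k.hom.left.left v ∈ zl s := by
  constructor
  · intro h
    obtain ⟨V, φ, hφ, x, rfl⟩ := mem_zl.1 h
    exact mem_zl.2 ⟨V, φ ≫ k, by rw [map_comp_sect]; exact hφ, x, Scheme.Hom.comp_apply _ _ x⟩
  · intro h
    obtain ⟨V, φ, hφ, x, hx⟩ := mem_zl.1 h
    have sq := (IsPullback.of_hasPullback k.hom.left φ.hom.left).map (CategoryTheory.Over.forget S)
    obtain ⟨r, hr₁, -⟩ := Scheme.exists_preimage_of_isPullback sq v x hx.symm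
    refine mem_zl.2 ⟨EtOver.pullbackObj k φ, EtOver.pullbackFst k φ, ?_, r, hr₁⟩
    rw [← map_comp_sect, EtOver.pullback_condition, map_comp_sect, hφ, map_zero]

theorem eq_zero_of_zl (hX : IsAlgSpace X) {E : EtOver X} (s : sectModEt M E) (h : ∀ v, v ∈ zl s) : s = 0 := by
  have h' := (EtStalkAb.map_eq_zero_iff ((toAbEt X).obj M) hX (abSec s) (𝟙 E)).2 fun v _ => h v
  simpa [abSec] using h'

theorem map_eq_zero_of_zl (hX : IsAlgSpace X) {E V : EtOver X} (k : V ⟶ E) (s : sectModEt M E)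
    (h : Set.range k.hom.left.left ⊆ (zl s : Set ↥E.obj.left.left)) : M.val.map k.op s = 0 :=
  (EtStalkAb.map_eq_zero_iff ((toAbEt X).obj M) hX (abSec s) k).2 h

/-- A section whose stalk vanishes at a point vanishes nearby. -/
theorem mem_zl_of_isZero (hX : IsAlgSpace X) {E : EtOver X} (s : sectModEt M E) (v : ↥E.obj.left.left)
    (h : ∀ p : FieldPt X, p.IsGeometric → Points.mk p = Points.ofPt E.obj.hom v →
      IsZero (stalkEt p ((toAbEt X).obj M))) : v ∈ zl s := by
  obtain ⟨p, hp, hpu⟩ := EtStalkProps.exists_geometric (Points.ofPt E.obj.hom v)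
  obtain ⟨l, hl⟩ := EtStalkStrict.exists_nbhd hX hp E.property hpu.symm
  rw [← hl]
  exact (EtStalkAb.stalkι_eq_zero_iff_mem _ hX hp ⟨E, l⟩ (abSec s)).1
    ((AddCommGrpCat.subsingleton_of_isZero (h p hp hpu)).elim _ _)

theorem isZero_stalk_of_zl (hX : IsAlgSpace X) {p : FieldPt X} (hp : p.IsGeometric)
    (h : ∀ (N : EtNbhd p) (s : sectModEt M N.1), Aff N.1 → EtStalkElts.base p N ∈ zl s) :
    IsZero (stalkEt p ((toAbEt X).obj M)) := by
  rw [AddCommGrpCat.isZero_iff_subsingleton]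
  refine subsingleton_of_forall_eq 0 fun z => ?_
  obtain ⟨N, σ, rfl⟩ := EtStalkAb.exists_rep _ hX hp z
  obtain ⟨N', g, hN'⟩ := exists_affine_res N
  refine (stalkι_res g (show sectModEt M N.1 from σ)).symm.trans ?_
  exact (EtStalkAb.stalkι_eq_zero_iff_mem _ hX hp N' _).2 (h N' _ hN')

/-! ### Affine objects -/

theorem mem_basicOpen_iff_pR {E : EtOver X} (c : Rg E) (v : ↥E.obj.left.left) :
    v ∈ E.obj.left.left.basicOpen c.down ↔ c ∉ pR E v :=
  (Scheme.mem_basicOpen E.obj.left.left c.down v trivial).trans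
    ((IsLocalRing.notMem_maximalIdeal).symm)

theorem mem_zl_of_sm_eq_zero {E : EtOver X} {s : sectModEt M E} (c : Rg E) (h : sm c s = 0)
    {v : ↥E.obj.left.left} (hc : c ∉ pR E v) : v ∈ zl s := by
  let O := E.obj.left.left.basicOpen c.down
  let j : etOpen E O ⟶ E := etOpenι E O
  obtain ⟨w, hw⟩ := (range_etOpenι E O).ge ((mem_basicOpen_iff_pR c v).2 hc)
  refine mem_zl.2 ⟨etOpen E O, j, ?_, w, hw⟩
  have hu : IsUnit (rs j c).down := by
    refine RingedSpace.isUnit_of_isUnit_germ (etOpen E O).obj.left.left.toRingedSpace ⊤ _ fun x hx => ?_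
    refine (Scheme.mem_basicOpen _ _ x hx).1 ?_
    show x ∈ (etOpen E O).obj.left.left.basicOpen (j.hom.left.left.appTop.hom c.down)
    rw [← Scheme.preimage_basicOpen_top]
    exact (range_etOpenι E O).le ⟨x, rfl⟩
  have hu' : IsUnit (rs j c) := hu.map (ULift.ringEquiv (R := Γ((etOpen E O).obj.left.left, ⊤))).symm.toRingHom
  obtain ⟨b, hb⟩ := hu'.exists_left_inv
  refine (one_smul ((OEtRing X).obj.obj (op (etOpen E O))) (M.val.map j.op s : sectModEt M (etOpen E O))).symm.trans ?_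
  rw [show (1 : (OEtRing X).obj.obj (op (etOpen E O))) = b * rs j c from hb.symm]
  refine (mul_smul (α := (OEtRing X).obj.obj (op (etOpen E O))) b (rs j c)
    (M.val.map j.op s : sectModEt M (etOpen E O))).trans ?_
  rw [show (rs j c : (OEtRing X).obj.obj (op (etOpen E O))) • (M.val.map j.op s : sectModEt M (etOpen E O)) = 0 from
    (map_sm j c s).symm.trans ((congrArg (M.val.map j.op) h).trans (map_zero _))]
  exact smul_zero _

theorem mem_zl_iff (hM : Good M) {E : EtOver X} [IsAffine E.obj.left.left] (s : SA M (𝟙 E))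
    (v : ↥E.obj.left.left) :
    v ∈ zl (show sectModEt M E from s) ↔ ¬ WeakAss.annEl (Rg E) s ≤ pR E v := by
  constructor
  · intro h hle
    obtain ⟨V, φ, hφ, x, hx⟩ := mem_zl.1 h
    obtain ⟨p₀, hp₀, hp₀v⟩ := Ideal.exists_minimalPrimes_le hle
    haveI := hp₀.1.1
    have := EtOver.etale_left φ
    obtain ⟨c, hc, hcv⟩ := (isAffineOpen_top E.obj.left.left).exists_basicOpen_le
      (V := ⟨Set.range φ.hom.left.left, φ.hom.left.left.isOpenMap.isOpen_range⟩) ⟨v, ⟨x, hx⟩⟩ trivial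
    obtain ⟨u, hu⟩ := exists_pR_eq E p₀
    have hcu : (⟨c⟩ : Rg E) ∉ pR E u := fun h' =>
      (mem_basicOpen_iff_pR (⟨c⟩ : Rg E) v).1 hcv (hp₀v (hu ▸ h'))
    obtain ⟨z, hz⟩ := hc ((mem_basicOpen_iff_pR (⟨c⟩ : Rg E) u).2 hcu)
    obtain ⟨O, hO, hzO, -⟩ := exists_isAffineOpen_mem_and_subset (U := (⊤ : V.obj.left.left.Opens)) (x := z) trivial
    let g : etOpen V O ⟶ E := etOpenι V O ≫ φ
    obtain ⟨w, hw⟩ := (range_etOpenι V O).ge hzO
    have hgw : g.hom.left.left w = u := ((Scheme.Hom.comp_apply _ _ w).trans (congrArg _ hw)).trans hz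
    haveI : Aff E := ‹_›
    haveI : Aff (etOpen V O) := hO
    have : Algebra.Etale (Rg E) (RA g) := etale_RA g
    let q : Ideal (RA g) := pR (etOpen V O) w
    haveI : q.IsPrime := (inferInstance : (pR (etOpen V O) w).IsPrime)
    have hq : q.comap (algebraMap (Rg E) (RA g)) = p₀ := (comap_rs_pR g w).trans (by rw [hgw, hu])
    rw [← hq] at hp₀
    have h0 : (1 : RA g) ⊗ₜ[Rg E] s = 0 := by
      apply (hM.bij g ‹Aff E› hO).1
      rw [map_zero, bc_tmul, one_smul]
      show M.val.map (etOpenι V O ≫ φ).op (show sectModEt M E from s) = 0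
      rw [map_comp_sect, hφ, map_zero]
    refine ‹q.IsPrime›.ne_top ((Ideal.eq_top_iff_one q).2 ((mem_minimalPrimes_tmul (S := RA g) (q := q) hp₀).1.2 ?_))
    rw [WeakAss.mem_annEl, h0, smul_zero]
  · intro h
    obtain ⟨c, hc, hcv⟩ := SetLike.not_le_iff_exists.1 h
    refine mem_zl_of_sm_eq_zero c ?_ hcv
    exact (smul_SA_id (M := M) c s).symm.trans (WeakAss.mem_annEl.1 hc)

theorem specializes_of_pR_le (E : EtOver X) [IsAffine E.obj.left.left] {u v : ↥E.obj.left.left}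
    (h : pR E u ≤ pR E v) : u ⤳ v := by
  let d : Rg E →+* Γ(E.obj.left.left, ⊤) := (ULift.ringEquiv (R := Γ(E.obj.left.left, ⊤))).toRingHom
  have hd : Function.Surjective d := (ULift.ringEquiv (R := Γ(E.obj.left.left, ⊤))).surjective
  have h' : primeAtPt _ u ≤ primeAtPt _ v := fun a ha => by
    obtain ⟨b, rfl⟩ := hd a
    exact h ha
  rw [WeakAssEmpty.primeAtPt_eq, WeakAssEmpty.primeAtPt_eq] at h'
  exact E.obj.left.left.isoSpec.hom.homeomorph.isInducing.specializes_iff.1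
    ((PrimeSpectrum.le_iff_specializes _ _).1 h')

/-- The points of an affine object lying on a closed subspace. -/
theorem ker_β_le_iff {Z : Sp S} {f : Z ⟶ X} (hi : RepWith @IsClosedImmersion f) (E : EtOver X)
    [IsAffine E.obj.left.left] (v : ↥E.obj.left.left) :
    RingHom.ker (β hi.1 E) ≤ pR E v ↔ Points.ofPt E.obj.hom v ∈ Set.range (Points.map f) := by
  constructor
  · intro h
    haveI : IsAffine (EtOver.bcObj hi.1 E).obj.left.left := aff_bcObj_closed hi E ‹_›
    have hs := surjective_β hi E ‹_›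
    have hp : ((pR E v).map (β hi.1 E)).IsPrime := Ideal.map_isPrime_of_surjective hs h
    obtain ⟨w, hw⟩ := exists_pR_eq (EtOver.bcObj hi.1 E) ((pR E v).map (β hi.1 E))
    refine ⟨Points.ofPt (EtOver.bcObj hi.1 E).obj.hom w, (map_ofPt_bcObj hi.1 E w).trans ?_⟩
    refine congrArg _ (pR_injective E ?_)
    rw [← comap_β_pR hi.1 E w, hw, Ideal.comap_map_of_surjective _ hs, ← RingHom.ker_eq_comap_bot]
    exact sup_eq_left.2 h
  · rintro ⟨x, hx⟩ a ha
    obtain ⟨w, -, hw⟩ := exists_bcObj_point hi.1 E x v hx.symm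
    rw [← hw, ← comap_β_pR hi.1 E w, Ideal.mem_comap, RingHom.mem_ker.1 ha]
    exact zero_mem _

end Groth.Agent.AlgSpMod
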