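import Groth.Agent.AlgSpMod.Support

/-!
# Powers of an ideal killing a coherent module with support in the closed subspace
-/

set_option backward.isDefEq.respectTransparency false
set_option backward.isDefEq.respectTransparency.types false
set_option maxHeartbeats 1000000

universe u

open CategoryTheory CategoryTheory.Limits AlgebraicGeometry Opposite AlgSp TensorProduct
open Groth.Agent Groth.Agent.AlgSpLib Groth.Agent.AlgSpDec

namespace Groth.Agent.AlgSpMod

variable {S : Scheme.{u}} {Z X : Sp S} {f : Z ⟶ X} (hi : RepWith @IsClosedImmersion f) {M : ModEt X}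

theorem isZero_stalk_of_pow (hX : IsAlgSpace X) {n : ℕ}
    (h : ∀ (E : EtOver X) (hE : IsAffine E.obj.left.left) (s : sectModEt M E),
      (idealOfRep hi.1 ^ n).ideal E hE ≤ annSect s)
    {p : FieldPt X} (hp : p.IsGeometric) (hpZ : Points.mk p ∉ Set.range (Points.map f)) :
    IsZero (stalkEt p ((toAbEt X).obj M)) := by
  refine isZero_stalk_of_zl hX hp fun N s hN => ?_
  haveI : IsAffine N.1.obj.left.left := hN
  have hb : ¬ RingHom.ker (β hi.1 N.1) ≤ pR N.1 (EtStalkElts.base p N) := fun hle => by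
    have := (ker_β_le_iff hi N.1 _).1 hle
    rw [EtStalkElts.ofPt_base p N] at this
    exact hpZ this
  obtain ⟨d, hd, hdv⟩ := SetLike.not_le_iff_exists.1 hb
  have hd' : d.down ^ n ∈ (idealOfRep hi.1 ^ n).ideal N.1 hN :=
    Ideal.pow_mem_pow (show d.down ∈ (idealOfRep hi.1).ideal N.1 hN from congrArg ULift.down (RingHom.mem_ker.1 hd)) n
  refine mem_zl_of_sm_eq_zero ((⟨d.down ^ n⟩ : Rg N.1)) ((mem_annSect_iff s _).1 (h N.1 hN s hd')) fun hmem => ?_
  exact hdv ((inferInstance : (pR N.1 (EtStalkElts.base p N)).IsPrime).mem_of_pow_mem n hmem)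

theorem exists_pow_le_annihilator (hX : IsAlgSpace X) (hN : IsLocNoethSp X) (hM : Good M)
    (hsupp : ∀ p : FieldPt X, p.IsGeometric → Points.mk p ∉ Set.range (Points.map f) →
      IsZero (stalkEt p ((toAbEt X).obj M)))
    (E : EtOver X) [IsAffine E.obj.left.left] [Module.Finite (Rg E) (SA M (𝟙 E))] :
    ∃ n : ℕ, RingHom.ker (β hi.1 E) ^ n ≤ Module.annihilator (Rg E) (SA M (𝟙 E)) := by
  have := isNoetherianRing_Rg hN E ‹_›
  refine Ideal.exists_pow_le_of_le_radical_of_fg ?_ (IsNoetherian.noetherian _)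
  rw [Ideal.radical_eq_sInf]
  refine le_sInf fun P hP => ?_
  haveI := hP.2
  obtain ⟨s, hs⟩ := Module.mem_support_iff_exists_annihilator.1
    ((Module.mem_support_iff_of_finite (p := (⟨P, hP.2⟩ : PrimeSpectrum (Rg E)))).2 hP.1)
  obtain ⟨v, rfl⟩ := exists_pR_eq E P
  by_contra hle
  have hv : v ∈ zl (show sectModEt M E from s) := mem_zl_of_isZero hX _ v fun p hp hpv =>
    hsupp p hp (hpv ▸ fun hr => hle ((ker_β_le_iff hi E v).2 hr))
  refine (mem_zl_iff hM s v).1 hv fun c hc => hs ?_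
  rw [Submodule.mem_annihilator_span_singleton]
  exact WeakAss.mem_annEl.1 hc

theorem exists_uniform_pow (hX : IsAlgSpace X) (hN : IsLocNoethSp X) (hq : IsCompact (Set.univ : Set (Points X)))
    (hM : Good M) (hft : ∀ E : EtOver X, Aff E → Module.Finite (Rg E) (SA M (𝟙 E)))
    (hI : (idealOfRep hi.1).IsQCoh)
    (hsupp : ∀ p : FieldPt X, p.IsGeometric → Points.mk p ∉ Set.range (Points.map f) →
      IsZero (stalkEt p ((toAbEt X).obj M))) :
    ∃ n : ℕ, ∀ (E : EtOver X) (hE : IsAffine E.obj.left.left) (s : sectModEt M E),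
      (idealOfRep hi.1 ^ n).ideal E hE ≤ annSect s := by
  classical
  obtain ⟨t, ht⟩ := exists_finite_charts hX hq
  have key : ∀ E : {E : EtOver X // IsAffine E.obj.left.left}, ∃ n : ℕ,
      RingHom.ker (β hi.1 E.1) ^ n ≤ Module.annihilator (Rg E.1) (SA M (𝟙 E.1)) := fun E => by
    haveI := E.2
    haveI := hft E.1 E.2
    exact exists_pow_le_annihilator hi hX hN hM hsupp E.1
  choose n hn using key
  refine ⟨t.sup n, fun E hE s a ha => ?_⟩
  refine (mem_annSect_iff s a).2 (eq_zero_of_zl hX _ fun v => ?_)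
  obtain ⟨E₁, hE₁t, v₁, hv₁⟩ : ∃ E₁ ∈ t, Points.ofPt E.obj.hom v ∈ Set.range (Points.ofPt E₁.1.obj.hom) := by
    simpa using ht (Set.mem_univ (Points.ofPt E.obj.hom v))
  obtain ⟨F, g₁, g₂, w, hF, rfl, -⟩ := exists_common_affine v v₁ hv₁.symm
  refine (mem_zl_map g₁).1 (?_)
  suffices h0 : M.val.map g₁.op (sm (⟨a⟩ : Rg E) s) = 0 by
    show w ∈ zl (show sectModEt M F from M.val.map g₁.op (sm (⟨a⟩ : Rg E) s))
    rw [show (show sectModEt M F from M.val.map g₁.op (sm (⟨a⟩ : Rg E) s)) = 0 from h0]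
    exact mem_zl_zero w
  rw [map_sm]
  have h1 : g₁.hom.left.left.appTop.hom a ∈
      (((idealOfRep hi.1).ideal E₁.1 E₁.2) ^ n E₁).map g₂.hom.left.left.appTop.hom := by
    rw [Ideal.map_pow]
    refine Ideal.pow_le_pow_right (Finset.le_sup hE₁t) (Ideal.pow_right_mono (hI g₂ E₁.2 hF) _ ?_)
    refine Ideal.pow_right_mono ((idealOfRep hi.1).map_le g₁ hE hF) _ ?_
    rw [← Ideal.map_pow]
    exact Ideal.mem_map_of_mem _ ha
  refine (mem_annSect_iff (M := M) (E := F) _ _).1
    ((Ideal.map_le_iff_le_comap.2 fun c hc => ?_ : _ ≤ annSect (show sectModEt M F from M.val.map g₁.op s)) h1)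
  refine (mem_annSect_iff (M := M) (E := F) _ _).2 ?_
  have hc0 : ∀ m : SA M (𝟙 E₁.1), (show Rg E₁.1 from ⟨c⟩) • m = 0 := fun m => by
    refine Module.mem_annihilator.1 (hn E₁ (?_ : (⟨c⟩ : Rg E₁.1) ∈ RingHom.ker (β hi.1 E₁.1) ^ n E₁)) m
    let e : Γ(E₁.1.obj.left.left, ⊤) →+* Rg E₁.1 := ULift.ringEquiv.symm.toRingHom
    have hle : ((idealOfRep hi.1).ideal E₁.1 E₁.2).map e ≤ RingHom.ker (β hi.1 E₁.1) :=
      Ideal.map_le_iff_le_comap.2 fun b hb => ULift.ext _ _ hb
    have := Ideal.mem_map_of_mem e hc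
    rw [Ideal.map_pow] at this
    exact Ideal.pow_right_mono hle _ this
  obtain ⟨z, hz⟩ := (hM.bij g₂ E₁.2 hF).2 (show SA M g₂ from M.val.map g₁.op s)
  show sm (rs g₂ (⟨c⟩ : Rg E₁.1)) (show sectModEt M F from M.val.map g₁.op s) = 0
  rw [← (show (bc M g₂ z : sectModEt M F) = M.val.map g₁.op s from hz)]
  show (show SA M g₂ from (show Rg E₁.1 from ⟨c⟩) • bc M g₂ z) = 0
  rw [← map_smul]
  clear hz
  induction z with
  | zero => rw [smul_zero, map_zero]
  | tmul b m => rw [← TensorProduct.tmul_smul, hc0, tmul_zero, map_zero]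
  | add x y hx hy =>
    rw [smul_add, map_add]
    exact (congrArg₂ (· + ·) hx hy).trans (add_zero _)

theorem isCompact_univ_of_qc (hq : IsQuasiCompactSp X) : IsCompact (Set.univ : Set (Points X)) := by
  obtain ⟨U, p, hp, hps, hU⟩ := hq
  haveI := hU
  rw [← (surjective_ofPt hps).range_eq]
  exact isCompact_range (Points.continuous_ofPt p)

end Groth.Agent.AlgSpMod
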