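import Groth.Agent.AlgSpMod.Support
import Mathlib.Algebra.Category.ModuleCat.Presheaf.Submodule

/-!
# The submodule of sections supported in a closed set
-/

set_option backward.isDefEq.respectTransparency false
set_option backward.isDefEq.respectTransparency.types false
set_option maxHeartbeats 1000000

universe u

open CategoryTheory CategoryTheory.Limits AlgebraicGeometry Opposite AlgSp TensorProduct
open Groth.Agent Groth.Agent.AlgSpLib Groth.Agent.AlgSpDec

namespace Groth.Agent.AlgSpMod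

variable {S : Scheme.{u}} {X : Sp S} (M : ModEt X) (T : Set (Points X))

/-- Sections supported in a set of points. -/
noncomputable def suppSub : PresheafOfModules.Submodule M.val where
  obj W :=
    { carrier := {s | ∀ v : ↥W.unop.obj.left.left, Points.ofPt W.unop.obj.hom v ∉ T →
        v ∈ zl (show sectModEt M W.unop from s)}
      zero_mem' := fun v _ => mem_zl_zero v
      add_mem' := fun hs ht v hv => mem_zl_add (hs v hv) (ht v hv)
      smul_mem' := fun a _ hs v hv => mem_zl_sm a (hs v hv) }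
  map {W W'} k s hs v hv :=
    (mem_zl_map k.unop).2 (hs _ (by rwa [ofPt_hom k.unop v]))

theorem isSheaf_suppSub : Presheaf.IsSheaf (etTop X) (suppSub M T).toPresheafOfModules.presheaf := by
  rw [Presheaf.isSheaf_iff_isSheaf_forget _ _ (forget AddCommGrpCat.{u + 1}), isSheaf_iff_isSheaf_of_type]
  intro W R hR x hx
  let P := (sheafCompose (etTop X) (CategoryTheory.forget AddCommGrpCat.{u + 1})).obj ((toAbEt X).obj M)
  have hs := (isSheaf_iff_isSheaf_of_type _ _).1 P.property R hR
  let x' : Presieve.FamilyOfElements P.obj R.arrows := fun V k h => (x k h).val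
  have hc : x'.Compatible := fun Y₁ Y₂ Z g₁ g₂ f₁ f₂ h₁ h₂ e => congrArg Subtype.val (hx g₁ g₂ h₁ h₂ e)
  have hmem : (show M.val.obj (op W) from hs.amalgamate x' hc) ∈ (suppSub M T).obj (op W) := by
    intro v hv
    obtain ⟨Q, hQ, hQR⟩ := (etPre X).mem_toGrothendieck_iff_of_isStableUnderComposition.1 hR
    obtain ⟨κ, V, k, rfl⟩ := Q.exists_eq_ofArrows
    obtain ⟨i, w, rfl⟩ := (ofArrows_mem_etPre_iff V k).1 hQ v
    refine (mem_zl_map (k i)).1 ?_
    rw [show (show sectModEt M (V i) from M.val.map (k i).op (show sectModEt M W from hs.amalgamate x' hc)) =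
      (x (k i) (hQR _ _ (Presieve.ofArrows.mk i))).val from hs.valid_glue hc (k i) _]
    exact (x (k i) (hQR _ _ (Presieve.ofArrows.mk i))).2 w (by rwa [← ofPt_hom (k i) w])
  refine ⟨⟨_, hmem⟩, fun V k h => Subtype.ext (hs.valid_glue hc k h), fun y hy => Subtype.ext ?_⟩
  refine hs.isSeparatedFor.ext fun V k h => ?_
  rw [hs.valid_glue hc k h]
  exact congrArg Subtype.val (hy k h)

/-- The module of sections supported in a set. -/
noncomputable def suppMod : ModEt X := ⟨(suppSub M T).toPresheafOfModules, isSheaf_suppSub M T⟩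

/-- Its inclusion. -/
noncomputable def suppι : suppMod M T ⟶ M := ⟨(suppSub M T).ι⟩

instance : Mono (suppι M T) :=
  (SheafOfModules.forget (OEtRing X)).mono_of_mono_map (inferInstanceAs (Mono (suppSub M T).ι))

theorem appSA_suppι_mem {E F : EtOver X} (g : F ⟶ E) (y : SA (suppMod M T) g) :
    (show M.val.obj (op F) from appSA (suppι M T) g y) ∈ (suppSub M T).obj (op F) := y.2

theorem exists_suppι_eq {E F : EtOver X} (g : F ⟶ E) (x : SA M g)
    (hx : (show M.val.obj (op F) from x) ∈ (suppSub M T).obj (op F)) :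
    ∃ y, appSA (suppι M T) g y = x := ⟨⟨x, hx⟩, rfl⟩

variable {M T}

theorem good_suppMod (hN : IsLocNoethSp X) [M.IsQuasicoherent] (hT : IsClosed T) : Good (suppMod M T) := by
  classical
  refine ⟨fun {E F} g hE hF => ?_⟩
  haveI := hE; haveI := hF
  have hM := good_of_qcoh M
  have := flat_RA g
  have hie : Algebra.Etale (Rg E) (RA g) := etale_RA g
  have hiT := Module.Flat.lTensor_preserves_injective_linearMap (M := RA g) _ (appSA_injective (suppι M T) (𝟙 E))
  refine ⟨fun a b hab => hiT ((hM.bij g hE hF).1 (by rw [← appSA_bc, ← appSA_bc, hab])), fun x => ?_⟩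
  obtain ⟨z, hz⟩ := (hM.bij g hE hF).2 (appSA (suppι M T) g x)
  let R₁ := LinearMap.range (appSA (suppι M T) (𝟙 E))
  suffices h0 : R₁.mkQ.lTensor (RA g) z = 0 by
    have hex : Function.Exact (appSA (suppι M T) (𝟙 E)) R₁.mkQ := LinearMap.exact_map_mkQ_range _
    obtain ⟨y, rfl⟩ := ((lTensor_exact (RA g) hex (Submodule.mkQ_surjective _)) z).1 h0
    exact ⟨y, appSA_injective (suppι M T) g ((appSA_bc _ g y).trans hz)⟩
  by_contra hne
  have hI : WeakAss.annEl (RA g) (R₁.mkQ.lTensor (RA g) z) ≠ ⊤ := fun hc => hne (by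
    have := WeakAss.mem_annEl.1 (hc ▸ Submodule.mem_top : (1 : RA g) ∈ WeakAss.annEl (RA g) (R₁.mkQ.lTensor (RA g) z))
    rwa [one_smul] at this)
  obtain ⟨q, hq⟩ := Ideal.nonempty_minimalPrimes hI
  haveI := hq.1.1
  obtain ⟨w, hw⟩ := exists_pR_eq F (show Ideal (Rg F) from q)
  -- the prime lies over the closed set
  have hwT : Points.ofPt F.obj.hom w ∈ T := by
    by_contra hwT
    refine (mem_zl_iff hM (show SA M (𝟙 F) from appSA (suppι M T) g x) w).1 (appSA_suppι_mem M T g x w hwT) ?_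
    rw [hw, ← hz, ← annEl_bc M g hE hF]
    have key : WeakAss.annEl (RA g) z ≤ q := by
      refine le_trans (fun c hc => ?_) hq.1.2
      refine WeakAss.mem_annEl.2 ?_
      have := congrArg (AlgebraTensorModule.map (LinearMap.id : RA g →ₗ[RA g] RA g) R₁.mkQ) (WeakAss.mem_annEl.1 hc)
      rw [map_smul, map_zero] at this
      exact this
    exact key
  obtain ⟨u, hu⟩ : ∃ u, pR E u = q.comap (algebraMap (Rg E) (RA g)) := exists_pR_eq E _
  have huT : Points.ofPt E.obj.hom u ∈ T := by
    have : u = g.hom.left.left w := pR_injective E (hu.trans (by rw [← comap_rs_pR g w, hw]; rfl))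
    rwa [this, ofPt_hom g w]
  have := isNoetherianRing_Rg hN E hE
  obtain ⟨hp, t, ht⟩ := WeakAss.mem_ass_of_mem_weakAss_of_fg (IsNoetherian.noetherian _) (comap_mem_weakAss hq)
  obtain ⟨t, rfl⟩ := Submodule.mkQ_surjective R₁ t
  refine hp.ne_top ?_
  rw [ht, Ideal.eq_top_iff_one, WeakAss.mem_annEl, one_smul]
  refine (Submodule.Quotient.mk_eq_zero R₁).2 (exists_suppι_eq M T (𝟙 E) t fun v hv => ?_)
  have hnle : ¬ pR E u ≤ pR E v := fun hle => hv
    (((specializes_of_pR_le E hle).map (Points.continuous_ofPt E.obj.hom)).mem_closed hT huT)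
  obtain ⟨a, hau, hav⟩ := SetLike.not_le_iff_exists.1 hnle
  rw [hu, ht, WeakAss.mem_annEl] at hau
  obtain ⟨y, hy⟩ := (Submodule.Quotient.mk_eq_zero R₁).1 ((map_smul R₁.mkQ a t).trans hau)
  have hat : v ∈ zl (show sectModEt M E from (a • t : SA M (𝟙 E))) := by
    rw [← hy]
    exact appSA_suppι_mem M T (𝟙 E) y v hv
  obtain ⟨c, hc, hcv⟩ := SetLike.not_le_iff_exists.1 ((mem_zl_iff hM _ v).1 hat)
  refine (mem_zl_iff hM t v).2 fun hle => ?_
  rw [WeakAss.mem_annEl, ← mul_smul] at hc
  rcases (inferInstance : (pR E v).IsPrime).mem_or_mem (hle (WeakAss.mem_annEl.2 hc)) with h | h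
  · exact hcv h
  · exact hav h

theorem isZero_stalk_suppMod (hX : IsAlgSpace X) {p : FieldPt X} (hp : p.IsGeometric) (h : Points.mk p ∉ T) :
    IsZero (stalkEt p ((toAbEt X).obj (suppMod M T))) := by
  refine isZero_stalk_of_zl hX hp fun N s _ => ?_
  obtain ⟨V, φ, hφ, hb⟩ := mem_zl.1 (s.2 (EtStalkElts.base p N) (by rwa [EtStalkElts.ofPt_base p N]))
  exact mem_zl.2 ⟨V, φ, Subtype.ext hφ, hb⟩

theorem isZero_stalk_coker (hX : IsAlgSpace X) [M.IsQuasicoherent] (hC : Good (cokernel (suppι M T)))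
    {T' : Set (Points X)} (hT' : IsClosed T')
    (hsupp : ∀ q : FieldPt X, q.IsGeometric → Points.mk q ∉ T ∪ T' → IsZero (stalkEt q ((toAbEt X).obj M)))
    {p : FieldPt X} (hp : p.IsGeometric) (h : Points.mk p ∉ T') :
    IsZero (stalkEt p ((toAbEt X).obj (cokernel (suppι M T)))) := by
  refine isZero_stalk_of_zl hX hp fun N s hN => ?_
  let O : N.1.obj.left.left.Opens :=
    ⟨Points.ofPt N.1.obj.hom ⁻¹' T'ᶜ, hT'.isOpen_compl.preimage (Points.continuous_ofPt _)⟩
  obtain ⟨N', g, hN', hg⟩ := EtStalkHenz.exists_affine N O (by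
    show Points.ofPt N.1.obj.hom (EtStalkElts.base p N) ∉ T'
    rwa [EtStalkElts.ofPt_base p N])
  obtain ⟨σ, hσ⟩ := surjective_of_epi (cokernel.π (suppι M T)) (good_of_qcoh M) hC hN'
    (show SA (cokernel (suppι M T)) (𝟙 N'.1) from (cokernel (suppι M T)).val.map g.val.op s)
  have hmem : (show M.val.obj (op N'.1) from σ) ∈ (suppSub M T).obj (op N'.1) := by
    intro v hv
    refine mem_zl_of_isZero hX _ v fun q hq hqv => hsupp q hq ?_
    rintro (h1 | h1)
    · exact hv (hqv ▸ h1)
    · have h2 : g.val.hom.left.left v ∈ O := hg ⟨v, rfl⟩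
      exact h2 (show Points.ofPt N.1.obj.hom (g.val.hom.left.left v) ∈ T' by rw [ofPt_hom]; exact hqv ▸ h1)
  obtain ⟨y, rfl⟩ := exists_suppι_eq M T (𝟙 N'.1) σ hmem
  refine mem_zl.2 ⟨N'.1, g.val, hσ.symm.trans ?_, EtStalkElts.base p N', ?_⟩
  · exact congr(($(cokernel.condition (suppι M T))).val.app (op N'.1) y)
  · refine (EtPoint.base_liftsTo_map g.val N'.2).trans ?_
    rw [g.property]
    rfl

end Groth.Agent.AlgSpMod
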