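import Groth.Agent.AlgSpMod.WeakAssFinite
import Mathlib.RingTheory.LocalRing.Module
import Mathlib.RingTheory.Flat.Stability

/-!
# Weakly associated primes along finite flat ring maps
-/

set_option maxHeartbeats 1000000

namespace Groth.Agent.AlgSpMod

open TensorProduct Groth.Agent

universe u

variable {A S : Type u} [CommRing A] [CommRing S] [Algebra A S] {N : Type u} [AddCommGroup N] [Module A N]

/-- A weakly associated prime of a free module of coefficients in `N` is one of `N`. -/
theorem mem_weakAss_of_finsupp {ι : Type*} {p : Ideal A} (h : p ∈ FlatCA.weakAss A (ι →₀ N)) :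
    p ∈ FlatCA.weakAss A N := by
  obtain ⟨v, hv⟩ := WeakAss.mem_weakAss_iff.1 h
  haveI := hv.1.1
  classical
  obtain ⟨i, hi⟩ : ∃ i, WeakAss.annEl A (v i) ≤ p := by
    by_contra hne
    push Not at hne
    choose r hr hrp using fun i => Set.not_subset.1 (hne i)
    refine Set.disjoint_left.1 (Set.disjoint_left.2 fun a (ha : a ∉ p) (ha' : a ∈ p) => ha ha')
      (show (∏ i ∈ v.support, r i) ∉ p from fun hc => ?_) (hv.1.2 (WeakAss.mem_annEl.2 ?_))
    · obtain ⟨i, _, hip⟩ := (Ideal.IsPrime.prod_mem_iff).1 hc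
      exact hrp i hip
    · refine Finsupp.ext fun i => ?_
      rw [Finsupp.smul_apply, Finsupp.zero_apply]
      by_cases hi : i ∈ v.support
      · rw [← Finset.prod_erase_mul _ _ hi, mul_smul, WeakAss.mem_annEl.1 (hr i), smul_zero]
      · rw [Finsupp.notMem_support_iff.1 hi, smul_zero]
  refine WeakAss.mem_weakAss_iff.2 ⟨v i, ⟨hv.1.1, hi⟩, fun Q hQ hQp => hv.2 ⟨hQ.1, fun a ha => hQ.2 ?_⟩ hQp⟩
  exact WeakAss.mem_annEl.2 (by rw [← Finsupp.smul_apply, WeakAss.mem_annEl.1 ha, Finsupp.zero_apply])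

/-- The local case of descent of weakly associated primes along finite flat maps. -/
theorem mem_weakAss_local_finiteFlat [IsLocalRing A] [Module.Finite A S] [Module.Flat A S] {q : Ideal S} [q.IsPrime]
    (hq : q.comap (algebraMap A S) = IsLocalRing.maximalIdeal A) {y : S ⊗[A] N}
    (hy : q ∈ (WeakAss.annEl S y).minimalPrimes) : IsLocalRing.maximalIdeal A ∈ FlatCA.weakAss A N := by
  have : Module.Free A S := Module.free_of_flat_of_isLocalRing
  let b := Module.Free.chooseBasis A S
  let e : S ⊗[A] N ≃ₗ[A] (Module.Free.ChooseBasisIndex A S →₀ N) :=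
    (TensorProduct.congr b.repr (LinearEquiv.refl A N)).trans
      ((TensorProduct.finsuppLeft A A A N _).trans (Finsupp.mapRange.linearEquiv (TensorProduct.lid A N)))
  exact mem_weakAss_of_finsupp (hq ▸ WeakAss.weakAss_subset_of_injective e.toLinearMap e.injective
    (comap_mem_weakAss_finite (A := A) (B := S) hy))

/-- Weakly associated primes go down along finite flat maps. -/
theorem comap_mem_weakAss_finiteFlat [Module.Finite A S] [Module.Flat A S] {q : Ideal S} [q.IsPrime] {y : S ⊗[A] N}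
    (hy : q ∈ (WeakAss.annEl S y).minimalPrimes) :
    q.comap (algebraMap A S) ∈ FlatCA.weakAss A N := by
  set p := q.comap (algebraMap A S)
  let R := Localization.AtPrime p
  let S₁ := R ⊗[A] S
  let : Algebra S S₁ := Algebra.TensorProduct.rightAlgebra
  have hloc : IsLocalization (Algebra.algebraMapSubmonoid S p.primeCompl) S₁ :=
    IsLocalization.tensorRight R p.primeCompl
  have hd : Disjoint (Algebra.algebraMapSubmonoid S p.primeCompl : Set S) (q : Set S) := by
    rw [Set.disjoint_left]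
    rintro _ ⟨c, hc, rfl⟩ hcq
    exact hc hcq
  let q₁ : Ideal S₁ := q.map (algebraMap S S₁)
  have hq₁ : q₁.IsPrime := IsLocalization.isPrime_of_isPrime_disjoint _ S₁ q inferInstance hd
  have hcomap : q₁.comap (algebraMap S S₁) = q := IsLocalization.comap_map_of_isPrime_disjoint _ S₁ inferInstance hd
  let ι : N →ₗ[A] R ⊗[A] N := TensorProduct.mk A R N 1
  let e : R ⊗[A] (S ⊗[A] N) ≃ₗ[R] S₁ ⊗[R] (R ⊗[A] N) := AlgebraTensorModule.distribBaseChange A R S N
  let j : S ⊗[A] N →ₗ[A] S₁ ⊗[R] (R ⊗[A] N) :=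
    (e.toLinearMap.restrictScalars A).comp (TensorProduct.mk A R (S ⊗[A] N) 1)
  have hsmul : ∀ (s : S) w, j (s • w) = algebraMap S S₁ s • j w := by
    intro s w
    induction w with
    | zero => simp
    | tmul t n =>
      show ((1 : R) ⊗ₜ[A] (s * t)) ⊗ₜ[R] ((1 : R) ⊗ₜ[A] n) =
        algebraMap S S₁ s • (((1 : R) ⊗ₜ[A] t) ⊗ₜ[R] ((1 : R) ⊗ₜ[A] n))
      rw [TensorProduct.smul_tmul', smul_eq_mul, RingHom.algebraMap_toAlgebra]
      show _ = (((1 : R) ⊗ₜ[A] s) * ((1 : R) ⊗ₜ[A] t)) ⊗ₜ[R] _
      rw [Algebra.TensorProduct.tmul_mul_tmul, one_mul]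
    | add a b ha hb => simp only [smul_add, map_add, ha, hb]
  have hq₁c : q₁.comap (algebraMap R S₁) = IsLocalRing.maximalIdeal R := by
    have h1 : (q₁.comap (algebraMap R S₁)).comap (algebraMap A R) = p := by
      rw [Ideal.comap_comap]
      have : (algebraMap R S₁).comp (algebraMap A R) = (algebraMap S S₁).comp (algebraMap A S) := by
        ext a
        show algebraMap A R a ⊗ₜ[A] (1 : S) = (1 : R) ⊗ₜ[A] algebraMap A S a
        rw [Algebra.algebraMap_eq_smul_one, TensorProduct.smul_tmul, ← Algebra.algebraMap_eq_smul_one]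
      rw [this, ← Ideal.comap_comap, hcomap]
    rw [← IsLocalization.map_comap p.primeCompl R (q₁.comap (algebraMap R S₁))]
    show Ideal.map (algebraMap A R) ((q₁.comap (algebraMap R S₁)).comap (algebraMap A R)) = _
    rw [h1]
    exact IsLocalization.AtPrime.map_eq_maximalIdeal p R
  have hy₁ : q₁ ∈ (WeakAss.annEl S₁ (j y)).minimalPrimes := by
    refine ⟨⟨hq₁, fun s₁ hs₁ => ?_⟩, fun Q hQ hQq => ?_⟩
    · obtain ⟨s, c, rfl⟩ := IsLocalization.exists_mk'_eq (Algebra.algebraMapSubmonoid S p.primeCompl) s₁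
      rw [IsLocalization.mk'_mem_iff]
      have h0 : j (s • y) = 0 := by
        rw [hsmul, ← IsLocalization.mk'_spec' (M := Algebra.algebraMapSubmonoid S p.primeCompl) S₁ s c]
        exact (mul_smul _ _ _).trans ((congrArg _ (WeakAss.mem_annEl.1 hs₁)).trans (smul_zero _))
      have h1 : TensorProduct.mk A R (S ⊗[A] N) 1 (s • y) = 0 := e.injective (h0.trans (map_zero e).symm)
      obtain ⟨d, hd'⟩ := (IsLocalizedModule.eq_zero_iff p.primeCompl _).1 h1
      refine Ideal.mem_map_of_mem _ ((‹q.IsPrime›.mem_or_mem (x := algebraMap A S d) (hy.1.2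
        (WeakAss.mem_annEl.2 ?_))).resolve_left d.2)
      rw [mul_smul, algebraMap_smul]
      exact hd'
    · haveI := hQ.1
      have h2 : q ≤ Q.comap (algebraMap S S₁) := by
        refine hy.2 ⟨Ideal.IsPrime.comap _, fun s hs => hQ.2 (WeakAss.mem_annEl.2 ?_)⟩ ?_
        · rw [← hsmul, WeakAss.mem_annEl.1 hs, map_zero]
        · exact (Ideal.comap_mono hQq).trans hcomap.le
      exact Ideal.map_le_iff_le_comap.2 h2
  have h := mem_weakAss_local_finiteFlat (A := R) (S := S₁) hq₁c hy₁
  refine (WeakAss.mem_weakAss_iff_map p.primeCompl (R' := R) ι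
    (Set.disjoint_left.2 fun _ h h' => h h')).2 ?_
  rwa [IsLocalization.AtPrime.map_eq_maximalIdeal p R]


end Groth.Agent.AlgSpMod
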