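import Groth.Agent.AlgSpMod.PullSections
import Groth.Agent.AlgSpMod.WeakAssFiniteFlat

/-!
# Weakly associated points of finite flat inverse images
-/

set_option backward.isDefEq.respectTransparency false
set_option backward.isDefEq.respectTransparency.types false
set_option maxHeartbeats 1000000

universe u

open CategoryTheory CategoryTheory.Limits AlgebraicGeometry Opposite AlgSp TensorProduct
open Groth.Agent Groth.Agent.AlgSpLib Groth.Agent.AlgSpDec

namespace Groth.Agent.AlgSpMod

variable {S : Scheme.{u}} {X Y : Sp S} {f : X ⟶ Y} (hf : Representable f)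

theorem flat_RB (hY : IsAlgSpace Y) (h : LocP @Flat f) (E : EtOver Y) (hE : Aff E)
    (hW : Aff (EtOver.bcObj hf E)) : Module.Flat (Rg E) (RB hf E) := by
  have : Flat (hf.snd E.obj.hom).left := (repWith_of_locP hY hf h).property _ _ _ (hf.isPullback E.obj.hom)
  haveI : IsAffine E.obj.left.left := hE
  haveI : IsAffine (hf.pullback E.obj.hom).left := hW
  have h1 : (hf.snd E.obj.hom).left.appTop.hom.Flat := HasRingHomProperty.appTop (P := @Flat) _ inferInstance
  let eW := ULift.ringEquiv (R := Γ((hf.pullback E.obj.hom).left, ⊤))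
  let eE := ULift.ringEquiv (R := Γ(E.obj.left.left, ⊤))
  have h2 : (β hf E).Flat := by
    have e : β hf E = (eW.symm.toRingHom.comp (hf.snd E.obj.hom).left.appTop.hom).comp eE.toRingHom :=
      RingHom.ext fun a => rfl
    rw [e]
    exact RingHom.Flat.comp (RingHom.Flat.of_bijective eE.bijective)
      (RingHom.Flat.comp h1 (RingHom.Flat.of_bijective eW.symm.bijective))
  exact h2

variable [(SheafOfModules.pushforward.{u + 1} (bcRingHom hf)).IsRightAdjoint]

theorem weakAss_pull_iff (hY : IsAlgSpace Y) (hfin : IsFiniteMor f) (hflat : LocP @Flat f) (G : ModEt Y)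
    [G.IsQuasicoherent] [((pullModEt hf).obj G).IsQuasicoherent] (x : Points X) :
    x ∈ WeakAssEt ((pullModEt hf).obj G) ↔ Points.map f x ∈ WeakAssEt G := by
  obtain ⟨E, hE, u, hu⟩ := exists_affine_chart_point hY (Points.map f x)
  obtain ⟨w, hwx, hwu⟩ := exists_bcObj_point hf E x u hu
  have hW : IsAffine (EtOver.bcObj hf E).obj.left.left :=
    aff_bcObj_of_isAffineMor hf (isAffineMor_of_isFiniteMor hfin) E hE
  haveI := finite_RB hf hfin E hE
  haveI := flat_RB hf hY hflat E hE hW
  obtain ⟨e⟩ := exists_pullSections hf E G (good_of_qcoh G) hE hW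
  let q : Ideal (RB hf E) := show Ideal (Rg (EtOver.bcObj hf E)) from pR (EtOver.bcObj hf E) w
  haveI hq : q.IsPrime := (inferInstance : (pR (EtOver.bcObj hf E) w).IsPrime)
  have hqp : q.comap (algebraMap (Rg E) (RB hf E)) = pR E u :=
    (comap_β_pR hf E w).trans (congrArg (pR E) hwu)
  constructor
  · intro hx
    obtain ⟨t, ht⟩ := (isWeakAssOn_iff _ _ w).1 (isWeakAssOn_of_mem _ hx _ w hwx)
    have hz : q ∈ (WeakAss.annEl (RB hf E) (e.symm t)).minimalPrimes := by
      rw [show WeakAss.annEl (RB hf E) (e.symm t) = WeakAss.annEl (RB hf E) (show SB hf ((pullModEt hf).obj G) E from t)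
        from WeakAss.annEl_map_of_injective e.symm.toLinearMap e.symm.injective _]
      exact ht
    obtain ⟨s, hs⟩ := WeakAss.mem_weakAss_iff.1 (comap_mem_weakAss_finiteFlat hz)
    exact ⟨E, hE, u, hu, (isWeakAssOn_iff G E u).2 ⟨s, hqp ▸ hs⟩⟩
  · intro hy
    obtain ⟨s, hs⟩ := (isWeakAssOn_iff G E u).1 (isWeakAssOn_of_mem G hy E u hu)
    rw [← hqp] at hs
    refine ⟨EtOver.bcObj hf E, hW, w, hwx, (isWeakAssOn_iff _ _ w).2 ⟨e ((1 : RB hf E) ⊗ₜ s), ?_⟩⟩
    show q ∈ (WeakAss.annEl (RB hf E) (e ((1 : RB hf E) ⊗ₜ s))).minimalPrimes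
    rw [show WeakAss.annEl (RB hf E) (e ((1 : RB hf E) ⊗ₜ s)) = WeakAss.annEl (RB hf E) ((1 : RB hf E) ⊗ₜ[Rg E] s)
      from WeakAss.annEl_map_of_injective e.toLinearMap e.injective _]
    exact mem_minimalPrimes_tmul hs

end Groth.Agent.AlgSpMod
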